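import Cfsg.Agent.Lib.Helper18.ChevWeylChk
import Cfsg.Agent.Lib.Helper19.CoxUE6

/-!
# `N / H` is the Coxeter group of the Dynkin diagram: type E6
-/

set_option autoImplicit false

namespace Cfsg.Agent.Lib.Helper18

open Cfsg Cfsg.Lie Cfsg.Lie.ChevalleyDatum
open Cfsg.Agent.Lib.Helper19.Cox

/-- the relation between points and roots for type E6 -/
def memTE6 : ℕ := 0xffff00000000000000f800fc3c0000008000c700e3838020004000a4c09b40611000200064188033600320040092a056c014880010005214402a940290020089602dc00a44000800309210245181840080490c20198a02480100069102025038340010284a081429414200400000d222500000f6900549010128342a00081826040c06c0c100200000a911280000ed4803250080862c19000400006488860000db2400e3004001dc070002001f00000003ff000100001c4401c000b8e20000003c0003c087e1000003c0003c00781e00000003802238471d0000000061112624db0000000014889512b7000000000a444b096f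

set_option maxRecDepth 100000 in
theorem eqChk_E6 : eqChk memTE6 72 6 27 UE6.data.act (fun j => j) Cfsg.Agent.Lib.Helper36.e6wts = true := by
  decide +kernel

set_option maxRecDepth 100000 in
theorem sepChk_E6 : sepChk memTE6 72 27 = true := by decide +kernel

set_option maxRecDepth 100000 in
theorem braidChk_E6 : braidChk chevE6 (CoxeterMatrix.E₆ : CoxeterMatrix (Fin 6)) = true := by decide +kernel

theorem braid_E6 : ∀ i j : Fin 6, (i = j → (CoxeterMatrix.E₆ : CoxeterMatrix (Fin 6)) i j = 1) ∧
    (i ≠ j → braidOK chevE6.reflectRoot i j (chevE6.simple i) (chevE6.simple j)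
      ((CoxeterMatrix.E₆ : CoxeterMatrix (Fin 6)) i j) = true) :=
  braid_of_chk chevE6 (CoxeterMatrix.E₆ : CoxeterMatrix (Fin 6)) braidChk_E6

theorem heq_E6 : ∀ (j : Fin 6), ∀ x < 27, ∀ s < chevE6.nroots,
    memOf memTE6 chevE6.nroots x s = true →
      memOf memTE6 chevE6.nroots (UE6.data.act ((fun j => j) (j : ℕ)) x) (chevE6.reflectRoot j s) = true :=
  heq_of_chk chevE6 Cfsg.Agent.Lib.Helper36.e6wts Cfsg.Agent.Lib.Helper36.e6_ndata memTE6 27 6
    UE6.data.act (fun j => j) rfl eqChk_E6

theorem hsep_E6 : ∀ x < 27, ∀ y < 27,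
    (∀ s < chevE6.nroots, memOf memTE6 chevE6.nroots x s = memOf memTE6 chevE6.nroots y s) → x = y :=
  hsep_of_chk memTE6 chevE6.nroots 27 sepChk_E6

/-- `N / H` is the Coxeter group of type E6, and the kernel of the action of `N` on the roots is `H`. -/
theorem weyl_E6 {F : Type*} [Field F] :
    (∃ φ : ↥(chevE6.monomialSubgroup F) →* (CoxeterMatrix.E₆ : CoxeterMatrix (Fin 6)).Group, Function.Surjective φ ∧
      φ.ker = (chevE6.diagonalSubgroup F).subgroupOf (chevE6.monomialSubgroup F) ∧
      ∀ (i : Fin 6) (g : ↥(chevE6.monomialSubgroup F)),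
        ((g : GL chevE6.Idx F) : Matrix chevE6.Idx chevE6.Idx F) = chevE6.nMat F (chevE6.simple i) 1 →
          φ g = (CoxeterMatrix.E₆ : CoxeterMatrix (Fin 6)).simple i) ∧
    (∀ g : ↥(chevE6.monomialSubgroup F), (∀ s < chevE6.nroots, piN chevE6 hD_E6 g s = s) →
      (g : GL chevE6.Idx F) ∈ chevE6.diagonalSubgroup F) :=
  chev_weyl (F := F) chevE6 hD_E6 (n := 6) rfl (CoxeterMatrix.E₆ : CoxeterMatrix (Fin 6)) braid_E6 UE6.rep
    UE6.rep_inj UE6.data.act 27 (fun j => j) UE6.rep_simple (fun i x h => UE6.data.act_of_ge i x h)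
    (memOf memTE6 chevE6.nroots) heq_E6 hsep_E6

end Cfsg.Agent.Lib.Helper18
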