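import Cfsg.Agent.Lib.Helper18.ChevWeylChk
import Cfsg.Agent.Lib.Helper19.CoxUE7

/-!
# `N / H` is the Coxeter group of the Dynkin diagram: type E7
-/

set_option autoImplicit false

namespace Cfsg.Agent.Lib.Helper18

open Cfsg Cfsg.Lie Cfsg.Lie.ChevalleyDatum
open Cfsg.Agent.Lib.Helper19.Cox

/-- the relation between points and roots for type E7 -/
def memTE7 : ℕ := 0xfdda69106910844a0000000000000003eed5522152210894000000000000000f76cb24432442110c000000000000003bb8e388838884200e00000000000000de1f81e101e10800078000000000000307fe007c0003e000000f80000000000be007fe0801f0000007c000000000001f8000001fffc00000000001f8000000a1e07e1e8000078000421e000000000187800001f803de00000800187800000911c71dd80000070042111c00000000144700001c703a1c010040014470000088934dbb8000000c2210893000000000c401c001c0701dc00180400c401c000489300004da0d80c2200800489300002112aadde0000000a442112a0000000028804c004c1a068c205008028804c001112a0000ad82e00a4401001112a0000822596ef80000001488422580000000060410601066401b018c00406041060024402a002a160582904804024402a001089600005b81e005220080108960000019040184000c66c000399001904018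0502085008554014a14a00205020850022201600160e03814844020222016000052080508002954a000d520052080500c0209200933000a33180020c020920048104300433400c512900104810430000c208120800948a3002cc200c2081200490403040018cc5000cc90049040300a0104a004ab00052a940010a0104a0000680444040221281c070680068044400a1040a040052852802aa100a1040a018020980099c0003663000218020980000069108010044a00781da00006910800540224020120941a06854005402240060820602003180d80266080608206000000001a44211280000001f769a441000054888008022500741b5000054888003201140100a043160583200320114000000005488422500000007bb5548840000c9120010044301b05b20000c91200038023002018003b80e0380038023000000000c91084430000001ddb2c91100000e2280020080385c0e380000e2280000000038884200e000001bb8e3889000001e18001000007bc01f800001e180000007e00000000000fffe0000007e0000000001e1080007800005e1f81e14000000000003e000000f80107fe007d00000000001f0000007c0003e007fe0c0000000000001e0001087808781f87b0000000000000070042111c111c71ddc0000000000000030884224c224d36ef0000000000000002910844a844aab77c0000000000000005221089608965bbf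

set_option maxRecDepth 100000 in
theorem eqChk_E7 : eqChk memTE7 126 7 56 UE7.data.act (fun j => j) Cfsg.Agent.Lib.Helper36.e7wts = true := by
  decide +kernel

set_option maxRecDepth 100000 in
theorem sepChk_E7 : sepChk memTE7 126 56 = true := by decide +kernel

set_option maxRecDepth 100000 in
theorem braidChk_E7 : braidChk chevE7 (CoxeterMatrix.E₇ : CoxeterMatrix (Fin 7)) = true := by decide +kernel

theorem braid_E7 : ∀ i j : Fin 7, (i = j → (CoxeterMatrix.E₇ : CoxeterMatrix (Fin 7)) i j = 1) ∧
    (i ≠ j → braidOK chevE7.reflectRoot i j (chevE7.simple i) (chevE7.simple j)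
      ((CoxeterMatrix.E₇ : CoxeterMatrix (Fin 7)) i j) = true) :=
  braid_of_chk chevE7 (CoxeterMatrix.E₇ : CoxeterMatrix (Fin 7)) braidChk_E7

theorem heq_E7 : ∀ (j : Fin 7), ∀ x < 56, ∀ s < chevE7.nroots,
    memOf memTE7 chevE7.nroots x s = true →
      memOf memTE7 chevE7.nroots (UE7.data.act ((fun j => j) (j : ℕ)) x) (chevE7.reflectRoot j s) = true :=
  heq_of_chk chevE7 Cfsg.Agent.Lib.Helper36.e7wts Cfsg.Agent.Lib.Helper36.e7_ndata memTE7 56 7
    UE7.data.act (fun j => j) rfl eqChk_E7

theorem hsep_E7 : ∀ x < 56, ∀ y < 56,
    (∀ s < chevE7.nroots, memOf memTE7 chevE7.nroots x s = memOf memTE7 chevE7.nroots y s) → x = y :=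
  hsep_of_chk memTE7 chevE7.nroots 56 sepChk_E7

/-- `N / H` is the Coxeter group of type E7, and the kernel of the action of `N` on the roots is `H`. -/
theorem weyl_E7 {F : Type*} [Field F] :
    (∃ φ : ↥(chevE7.monomialSubgroup F) →* (CoxeterMatrix.E₇ : CoxeterMatrix (Fin 7)).Group, Function.Surjective φ ∧
      φ.ker = (chevE7.diagonalSubgroup F).subgroupOf (chevE7.monomialSubgroup F) ∧
      ∀ (i : Fin 7) (g : ↥(chevE7.monomialSubgroup F)),
        ((g : GL chevE7.Idx F) : Matrix chevE7.Idx chevE7.Idx F) = chevE7.nMat F (chevE7.simple i) 1 →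
          φ g = (CoxeterMatrix.E₇ : CoxeterMatrix (Fin 7)).simple i) ∧
    (∀ g : ↥(chevE7.monomialSubgroup F), (∀ s < chevE7.nroots, piN chevE7 hD_E7 g s = s) →
      (g : GL chevE7.Idx F) ∈ chevE7.diagonalSubgroup F) :=
  chev_weyl (F := F) chevE7 hD_E7 (n := 7) rfl (CoxeterMatrix.E₇ : CoxeterMatrix (Fin 7)) braid_E7 UE7.rep
    UE7.rep_inj UE7.data.act 56 (fun j => j) UE7.rep_simple (fun i x h => UE7.data.act_of_ge i x h)
    (memOf memTE7 chevE7.nroots) heq_E7 hsep_E7

end Cfsg.Agent.Lib.Helper18
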