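import Cfsg.Agent.Lib.Helper18.ChevSym
import Cfsg.Agent.S1024
import Cfsg.Prelude.Def_LieTypes
import Cfsg.Prelude.Def_ChevB2

set_option autoImplicit false

namespace Cfsg.Agent.Lib.Helper18

open Cfsg Cfsg.Lie

section Spm

variable {F : Type*} [Field F]

/-- The signed permutation matrix `e_v ↦ s(v) e_{f(v)}` on encoded indices. -/
def spm (D : ChevalleyDatum) (f : ℕ → ℕ) (s : ℕ → ℤ) : Matrix D.Idx D.Idx F :=
  Matrix.of (fun row col => if enc D row = f (enc D col) then ((s (enc D col) : ℤ) : F) else 0)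

/-- Relabel a sparse vector by a signed permutation. -/
def relabel (f : ℕ → ℕ) (s : ℕ → ℤ) (L : List (ℕ × ℤ × ℤ)) : List (ℕ × ℤ × ℤ) :=
  L.map (fun e => (f e.1, s e.1 * e.2.1, e.2.2))

theorem sem_invalid (D : ChevalleyDatum) (c : F) (u : ℕ) (a e : ℤ) (hu : D.rank + D.nroots ≤ u) :
    sem D c [(u, a, e)] = 0 := by
  funext idx
  rw [sem_cons_apply, sem_nil_apply, add_zero, if_neg (fun h => by have := enc_lt D idx; omega)]
  rfl

theorem exists_enc (D : ChevalleyDatum) (u : ℕ) (hu : u < D.rank + D.nroots) : ∃ col : D.Idx, enc D col = u := by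
  by_cases h2 : u < D.rank
  · exact ⟨Sum.inl ⟨u, h2⟩, rfl⟩
  · exact ⟨Sum.inr ⟨u - D.rank, by omega⟩, by rw [enc_inr]; simp only; omega⟩

theorem spm_mulVec_sem (D : ChevalleyDatum) (c : F) (f : ℕ → ℕ) (s : ℕ → ℤ)
    (hf : ∀ u, D.rank + D.nroots ≤ u → D.rank + D.nroots ≤ f u) (L : List (ℕ × ℤ × ℤ)) :
    (spm (F := F) D f s).mulVec (sem D c L) = sem D c (relabel f s L) := by
  induction L with
  | nil => simp [relabel, sem_nil]
  | cons x L ih =>
    rw [sem_cons, Matrix.mulVec_add, ih]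
    obtain ⟨u, a, e⟩ := x
    have h1 : relabel f s ((u, a, e) :: L) = (f u, s u * a, e) :: relabel f s L := rfl
    rw [h1, sem_cons D c (f u, s u * a, e)]
    congr 1
    by_cases hu : u < D.rank + D.nroots
    · obtain ⟨col, rfl⟩ := exists_enc D u hu
      rw [sem_single]
      funext row
      rw [Matrix.mulVec_single]
      simp only [Pi.smul_apply, MulOpposite.smul_eq_mul_unop, MulOpposite.unop_op, Matrix.col_apply,
        sem_cons_apply, sem_nil_apply, add_zero, spm, Matrix.of_apply]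
      by_cases h2 : enc D row = f (enc D col)
      · rw [if_pos h2, if_pos h2.symm]
        push_cast
        ring
      · rw [if_neg h2, if_neg (fun h => h2 h.symm), zero_mul]
    · rw [sem_invalid D c u a e (by omega), sem_invalid D c (f u) _ e (hf u (by omega)), Matrix.mulVec_zero]

theorem matrix_ext_of_mulVec_single {n : Type*} [Fintype n] [DecidableEq n] (M N : Matrix n n F)
    (h : ∀ col, M.mulVec (Pi.single col 1) = N.mulVec (Pi.single col 1)) : M = N := by
  ext row col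
  have h1 := congrFun (h col) row
  rw [Matrix.mulVec_single_one, Matrix.mulVec_single_one] at h1
  exact h1

theorem single_eq_sem (D : ChevalleyDatum) (c : F) (col : D.Idx) :
    (Pi.single col (1 : F) : D.Idx → F) = sem D c [(enc D col, 1, 0)] := by
  rw [sem_single]
  simp

/-- An order on the entries of sparse vectors. -/
def entLe (a b : ℕ × ℤ × ℤ) : Prop := a.1 < b.1 ∨ (a.1 = b.1 ∧ a.2.2 ≤ b.2.2)

instance : DecidableRel entLe := fun a b => inferInstanceAs (Decidable (_ ∨ _))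

/-- Sorted normal form of a sparse vector. -/
def normS (L : List (ℕ × ℤ × ℤ)) : List (ℕ × ℤ × ℤ) := (norm L).insertionSort entLe

theorem sem_perm (D : ChevalleyDatum) (c : F) {L L' : List (ℕ × ℤ × ℤ)} (h : L.Perm L') :
    sem D c L = sem D c L' := by
  funext idx
  unfold sem
  exact (h.map _).sum_eq

theorem sem_normS (D : ChevalleyDatum) (c : F) (L : List (ℕ × ℤ × ℤ)) : sem D c (normS L) = sem D c L := by
  rw [normS, sem_perm D c (List.perm_insertionSort _ _), sem_norm]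

/-- A signed permutation matrix intertwines two root elements when all columns agree. -/
theorem spm_mul_xMat (D : ChevalleyDatum) (f : ℕ → ℕ) (s : ℕ → ℤ)
    (hf : ∀ u, D.rank + D.nroots ≤ u → D.rank + D.nroots ≤ f u) (r r' : Fin D.nroots) (ε : ℤ) (t : F)
    (ht : t ≠ 0)
    (hchk : ∀ v < D.rank + D.nroots, normS (relabel f s (scale 1 0 (colX D r.val 1 1 v))) =
      normS (scale (s v * 1) 0 (colX D r'.val ε 1 (f v)))) :
    spm D f s * D.xMat F r t = D.xMat F r' ((ε : F) * t) * spm D f s := by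
  apply matrix_ext_of_mulVec_single
  intro col
  rw [← Matrix.mulVec_mulVec, ← Matrix.mulVec_mulVec, single_eq_sem D t col]
  have hX := xMat_mulVec_single D t ht r 1 1 (enc D col) 1 0
  simp only [Int.cast_one, zpow_one, one_mul] at hX
  rw [hX, spm_mulVec_sem D t f s hf, spm_mulVec_sem D t f s hf]
  have h1 : relabel f s [(enc D col, (1 : ℤ), (0 : ℤ))] = [(f (enc D col), s (enc D col) * 1, 0)] := rfl
  have hX' := xMat_mulVec_single D t ht r' ε 1 (f (enc D col)) (s (enc D col) * 1) 0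
  simp only [zpow_one] at hX'
  rw [h1, hX', ← sem_normS, hchk (enc D col) (enc_lt D col), sem_normS]

end Spm

/-- Tables of a graph automorphism: node permutation, root permutation, signs, and the inverses. -/
structure GraphAut where
  np : List ℕ
  rp : List ℕ
  sg : List ℤ
  npi : List ℕ
  rpi : List ℕ

namespace GraphAut

/-- The permutation of the encoded indices. -/
def pidx (A : GraphAut) (D : ChevalleyDatum) (u : ℕ) : ℕ :=
  if u < D.rank then A.np.getD u 0
  else if u - D.rank < D.nroots then D.rank + A.rp.getD (u - D.rank) 0 else u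

/-- The inverse permutation of the encoded indices. -/
def pinv (A : GraphAut) (D : ChevalleyDatum) (u : ℕ) : ℕ :=
  if u < D.rank then A.npi.getD u 0
  else if u - D.rank < D.nroots then D.rank + A.rpi.getD (u - D.rank) 0 else u

/-- The signs. -/
def psgn (A : GraphAut) (D : ChevalleyDatum) (u : ℕ) : ℤ :=
  if u < D.rank then 1 else A.sg.getD (u - D.rank) 1

/-- The signs of the inverse. -/
def qsgn (A : GraphAut) (D : ChevalleyDatum) (u : ℕ) : ℤ := A.psgn D (A.pinv D u)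

/-- The table check. -/
def check (A : GraphAut) (D : ChevalleyDatum) : Bool :=
  (List.range (D.rank + D.nroots)).all (fun v =>
    decide (A.pidx D (A.pinv D v) = v) && decide (A.qsgn D v * A.qsgn D v = 1)) &&
  (List.range D.nroots).all (fun r =>
    decide (A.rp.getD r 0 < D.nroots) && decide (A.rpi.getD r 0 < D.nroots) &&
    decide (A.rp.getD (A.rpi.getD r 0) 0 = r) &&
    decide (A.sg.getD (A.rpi.getD r 0) 1 * A.sg.getD (A.rpi.getD r 0) 1 = 1) &&
    (List.range (D.rank + D.nroots)).all (fun v =>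
      decide (normS (relabel (A.pidx D) (A.psgn D) (scale 1 0 (colX D r 1 1 v))) =
        normS (scale (A.psgn D v * 1) 0 (colX D (A.rp.getD r 0) (A.sg.getD r 1) 1 (A.pidx D v)))))) &&
  (List.range D.rank).all (fun i =>
    decide (A.rp.getD (D.simple i) 0 = D.simple (A.np.getD i 0)) && decide (A.sg.getD (D.simple i) 1 = 1) &&
    decide (A.rp.getD (D.neg (D.simple i)) 0 = D.neg (D.simple (A.np.getD i 0))) &&
    decide (A.sg.getD (D.neg (D.simple i)) 1 = 1) && decide (D.simple i < D.nroots) &&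
    decide (D.neg (D.simple i) < D.nroots))

theorem pidx_ge (A : GraphAut) (D : ChevalleyDatum) (u : ℕ) (hu : D.rank + D.nroots ≤ u) :
    D.rank + D.nroots ≤ A.pidx D u := by
  unfold pidx
  rw [if_neg (by omega), if_neg (by omega)]
  exact hu

theorem pinv_ge (A : GraphAut) (D : ChevalleyDatum) (u : ℕ) (hu : D.rank + D.nroots ≤ u) :
    D.rank + D.nroots ≤ A.pinv D u := by
  unfold pinv
  rw [if_neg (by omega), if_neg (by omega)]
  exact hu

section Mat

variable {F : Type*} [Field F]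

/-- The matrix of the graph automorphism. -/
def P (A : GraphAut) (D : ChevalleyDatum) : Matrix D.Idx D.Idx F := spm D (A.pidx D) (A.psgn D)

/-- The inverse matrix. -/
def Q (A : GraphAut) (D : ChevalleyDatum) : Matrix D.Idx D.Idx F := spm D (A.pinv D) (A.qsgn D)

theorem P_mul_Q (A : GraphAut) (D : ChevalleyDatum) (h : A.check D = true) :
    (A.P D : Matrix D.Idx D.Idx F) * A.Q D = 1 := by
  unfold check at h
  simp only [Bool.and_eq_true, List.all_eq_true, List.mem_range, decide_eq_true_eq] at h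
  obtain ⟨⟨h1, _⟩, _⟩ := h
  apply matrix_ext_of_mulVec_single
  intro col
  rw [← Matrix.mulVec_mulVec, Matrix.one_mulVec, single_eq_sem D (1 : F) col]
  unfold P Q
  rw [spm_mulVec_sem D 1 _ _ (A.pinv_ge D), spm_mulVec_sem D 1 _ _ (A.pidx_ge D)]
  obtain ⟨h2, h3⟩ := h1 (enc D col) (enc_lt D col)
  have h4 : relabel (A.pidx D) (A.psgn D) (relabel (A.pinv D) (A.qsgn D) [(enc D col, (1 : ℤ), (0 : ℤ))]) =
      [(enc D col, 1, 0)] := by
    show [(A.pidx D (A.pinv D (enc D col)), A.psgn D (A.pinv D (enc D col)) * (A.qsgn D (enc D col) * 1),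
      (0 : ℤ))] = [(enc D col, 1, 0)]
    rw [h2, mul_one]
    have h5 : A.psgn D (A.pinv D (enc D col)) = A.qsgn D (enc D col) := rfl
    rw [h5, h3]
  rw [h4]

theorem Q_mul_P (A : GraphAut) (D : ChevalleyDatum) (h : A.check D = true) :
    (A.Q D : Matrix D.Idx D.Idx F) * A.P D = 1 :=
  mul_eq_one_comm.mp (A.P_mul_Q D h)

/-- The graph automorphism as an element of the general linear group. -/
def gP (A : GraphAut) (D : ChevalleyDatum) (h : A.check D = true) : GL D.Idx F :=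
  ⟨A.P D, A.Q D, A.P_mul_Q D h, A.Q_mul_P D h⟩

theorem conj_x (A : GraphAut) (D : ChevalleyDatum) (h : A.check D = true) (r : ℕ) (hr : r < D.nroots) (t : F) :
    (A.P D : Matrix D.Idx D.Idx F) * D.x F r t * A.Q D =
      D.x F (A.rp.getD r 0) ((A.sg.getD r 1 : ℤ) * t) := by
  by_cases ht : t = 0
  · rw [ht, mul_zero, Cfsg.Agent.S1024.x_zero, Cfsg.Agent.S1024.x_zero, mul_one, A.P_mul_Q D h]
  · have h' := h
    unfold check at h'
    simp only [Bool.and_eq_true, List.all_eq_true, List.mem_range, decide_eq_true_eq] at h'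
    obtain ⟨⟨_, h2⟩, _⟩ := h'
    obtain ⟨⟨⟨⟨hr1, _⟩, _⟩, _⟩, h3⟩ := h2 r hr
    have h4 := spm_mul_xMat (F := F) D (A.pidx D) (A.psgn D) (A.pidx_ge D) ⟨r, hr⟩ ⟨A.rp.getD r 0, hr1⟩
      (A.sg.getD r 1) t ht h3
    rw [ChevalleyDatum.x, dif_pos hr, ChevalleyDatum.x, dif_pos hr1]
    unfold P
    rw [h4, mul_assoc]
    have h5 := A.P_mul_Q (F := F) D h
    unfold P at h5
    rw [h5, mul_one]

theorem conj_x_inv (A : GraphAut) (D : ChevalleyDatum) (h : A.check D = true) (r : ℕ) (hr : r < D.nroots)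
    (t : F) :
    (A.Q D : Matrix D.Idx D.Idx F) * D.x F r t * A.P D =
      D.x F (A.rpi.getD r 0) ((A.sg.getD (A.rpi.getD r 0) 1 : ℤ) * t) := by
  have h' := h
  unfold check at h'
  simp only [Bool.and_eq_true, List.all_eq_true, List.mem_range, decide_eq_true_eq] at h'
  obtain ⟨⟨_, h2⟩, _⟩ := h'
  obtain ⟨⟨⟨⟨_, hr2⟩, hr3⟩, hr4⟩, _⟩ := h2 r hr
  have h5 := A.conj_x (F := F) D h (A.rpi.getD r 0) hr2 ((A.sg.getD (A.rpi.getD r 0) 1 : ℤ) * t)
  rw [hr3, ← mul_assoc, ← Int.cast_mul, hr4, Int.cast_one, one_mul] at h5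
  rw [← h5]
  calc (A.Q D : Matrix D.Idx D.Idx F) * (A.P D * D.x F (A.rpi.getD r 0) ((A.sg.getD (A.rpi.getD r 0) 1 : ℤ) * t) * A.Q D) * A.P D
      = (A.Q D * A.P D) * D.x F (A.rpi.getD r 0) ((A.sg.getD (A.rpi.getD r 0) 1 : ℤ) * t) * (A.Q D * A.P D) := by
        simp only [mul_assoc]
    _ = D.x F (A.rpi.getD r 0) ((A.sg.getD (A.rpi.getD r 0) 1 : ℤ) * t) := by
        rw [A.Q_mul_P D h, one_mul, mul_one]

theorem conj_mem_group (A : GraphAut) (D : ChevalleyDatum) (h : A.check D = true) (g : GL D.Idx F)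
    (hg : g ∈ D.group F) : A.gP D h * g * (A.gP D h)⁻¹ ∈ D.group F := by
  have hle : D.group F ≤ (D.group F).comap (MulAut.conj (A.gP (F := F) D h)).toMonoidHom := by
    unfold ChevalleyDatum.group
    rw [Subgroup.closure_le]
    rintro g ⟨r, t, hg⟩
    show A.gP D h * g * (A.gP D h)⁻¹ ∈ Subgroup.closure _
    have h' := h
    unfold check at h'
    simp only [Bool.and_eq_true, List.all_eq_true, List.mem_range, decide_eq_true_eq] at h'
    obtain ⟨⟨_, h2⟩, _⟩ := h'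
    obtain ⟨⟨⟨⟨hr1, _⟩, _⟩, _⟩, _⟩ := h2 r.val r.isLt
    apply Subgroup.subset_closure
    refine ⟨⟨A.rp.getD r.val 0, hr1⟩, (A.sg.getD r.val 1 : ℤ) * t, ?_⟩
    have h6 := A.conj_x (F := F) D h r.val r.isLt t
    rw [ChevalleyDatum.x, dif_pos r.isLt, ChevalleyDatum.x, dif_pos hr1] at h6
    rw [Units.val_mul, Units.val_mul, hg]
    exact h6
  exact hle hg

theorem conj_inv_mem_group (A : GraphAut) (D : ChevalleyDatum) (h : A.check D = true) (g : GL D.Idx F)
    (hg : g ∈ D.group F) : (A.gP D h)⁻¹ * g * A.gP D h ∈ D.group F := by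
  have hle : D.group F ≤ (D.group F).comap (MulAut.conj (A.gP (F := F) D h)⁻¹).toMonoidHom := by
    unfold ChevalleyDatum.group
    rw [Subgroup.closure_le]
    rintro g ⟨r, t, hg⟩
    show (A.gP D h)⁻¹ * g * (A.gP D h)⁻¹⁻¹ ∈ Subgroup.closure _
    rw [inv_inv]
    have h' := h
    unfold check at h'
    simp only [Bool.and_eq_true, List.all_eq_true, List.mem_range, decide_eq_true_eq] at h'
    obtain ⟨⟨_, h2⟩, _⟩ := h'
    obtain ⟨⟨⟨⟨_, hr2⟩, _⟩, _⟩, _⟩ := h2 r.val r.isLt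
    apply Subgroup.subset_closure
    refine ⟨⟨A.rpi.getD r.val 0, hr2⟩, (A.sg.getD (A.rpi.getD r.val 0) 1 : ℤ) * t, ?_⟩
    have h6 := A.conj_x_inv (F := F) D h r.val r.isLt t
    rw [ChevalleyDatum.x, dif_pos r.isLt, ChevalleyDatum.x, dif_pos hr2] at h6
    rw [Units.val_mul, Units.val_mul, hg]
    exact h6
  have := hle hg
  simpa using this

/-- The automorphism of the Chevalley group induced by the graph automorphism. -/
def aut (A : GraphAut) (D : ChevalleyDatum) (h : A.check D = true) : ↥(D.group F) ≃* ↥(D.group F) where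
  toFun g := ⟨A.gP D h * g.1 * (A.gP D h)⁻¹, A.conj_mem_group D h g.1 g.2⟩
  invFun g := ⟨(A.gP D h)⁻¹ * g.1 * A.gP D h, A.conj_inv_mem_group D h g.1 g.2⟩
  left_inv g := by
    apply Subtype.ext
    show (A.gP D h)⁻¹ * (A.gP D h * g.1 * (A.gP D h)⁻¹) * A.gP D h = g.1
    group
  right_inv g := by
    apply Subtype.ext
    show A.gP D h * ((A.gP D h)⁻¹ * g.1 * A.gP D h) * (A.gP D h)⁻¹ = g.1
    group
  map_mul' g₁ g₂ := by
    apply Subtype.ext
    show A.gP D h * (g₁.1 * g₂.1) * (A.gP D h)⁻¹ =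
      (A.gP D h * g₁.1 * (A.gP D h)⁻¹) * (A.gP D h * g₂.1 * (A.gP D h)⁻¹)
    group

theorem coe_aut (A : GraphAut) (D : ChevalleyDatum) (h : A.check D = true) (g : ↥(D.group F)) :
    ((A.aut D h g : GL D.Idx F) : Matrix D.Idx D.Idx F) =
      A.P D * ((g : GL D.Idx F) : Matrix D.Idx D.Idx F) * A.Q D := rfl

/-- The automorphism sends `x_{±p_i}(t)` to `x_{±p_{ρ i}}(t)`. -/
theorem aut_simple (A : GraphAut) (D : ChevalleyDatum) (h : A.check D = true) (g : ↥(D.group F)) (i : ℕ)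
    (t : F) (hi : i < D.rank) :
    (((g : GL D.Idx F) : Matrix D.Idx D.Idx F) = D.x F (D.simple i) t →
      ((A.aut D h g : GL D.Idx F) : Matrix D.Idx D.Idx F) = D.x F (D.simple (A.np.getD i 0)) t) ∧
    (((g : GL D.Idx F) : Matrix D.Idx D.Idx F) = D.x F (D.neg (D.simple i)) t →
      ((A.aut D h g : GL D.Idx F) : Matrix D.Idx D.Idx F) = D.x F (D.neg (D.simple (A.np.getD i 0))) t) := by
  have h' := h
  unfold check at h'
  simp only [Bool.and_eq_true, List.all_eq_true, List.mem_range, decide_eq_true_eq] at h'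
  obtain ⟨_, h3⟩ := h'
  obtain ⟨⟨⟨⟨⟨e1, e2⟩, e3⟩, e4⟩, e5⟩, e6⟩ := h3 i hi
  constructor
  · intro hg
    rw [coe_aut, hg, A.conj_x D h _ e5, e1, e2, Int.cast_one, one_mul]
  · intro hg
    rw [coe_aut, hg, A.conj_x D h _ e6, e3, e4, Int.cast_one, one_mul]

end Mat

end GraphAut

/-- Graph automorphism data (E6). -/
def gaE6 : GraphAut := ⟨[5, 1, 4, 3, 2, 0], [0, 1, 2, 5, 16, 3, 6, 17, 8, 19, 22, 11, 26, 30, 33, 35, 4, 7, 18, 9, 20, 23, 10, 21, 24, 25, 12, 27, 31, 34, 13, 28, 32, 14, 29, 15, 56, 42, 57, 39, 43, 58, 37, 40, 44, 59, 46, 47, 50, 61, 48, 51, 62, 53, 64, 67, 36, 38, 41, 45, 60, 49, 52, 63, 54, 65, 68, 55, 66, 69, 70, 71],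
  [1, 1, 1, 1, -1, 1, 1, -1, 1, -1, -1, 1, -1, 1, -1, 1, -1, -1, 1, -1, 1, 1, -1, 1, 1, 1, -1, 1, -1, 1, 1, -1, 1, -1, 1, 1, 1, 1, -1, 1, -1, 1, 1, -1, 1, -1, 1, 1, 1, -1, 1, 1, -1, 1, -1, -1, 1, -1, 1, -1, 1, -1, -1, 1, -1, 1, 1, -1, 1, 1, 1, 1], [5, 1, 4, 3, 2, 0],
  [0, 1, 2, 5, 16, 3, 6, 17, 8, 19, 22, 11, 26, 30, 33, 35, 4, 7, 18, 9, 20, 23, 10, 21, 24, 25, 12, 27, 31, 34, 13, 28, 32, 14, 29, 15, 56, 42, 57, 39, 43, 58, 37, 40, 44, 59, 46, 47, 50, 61, 48, 51, 62, 53, 64, 67, 36, 38, 41, 45, 60, 49, 52, 63, 54, 65, 68, 55, 66, 69, 70, 71]⟩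

set_option maxRecDepth 100000 in
theorem gaE6_check : gaE6.check chevE6 = true := by decide +kernel

/-- Graph automorphism data (D4a). -/
def gaD4a : GraphAut := ⟨[2, 1, 3, 0], [0, 1, 6, 2, 7, 10, 3, 8, 4, 9, 11, 5, 18, 12, 14, 19, 15, 20, 13, 16, 21, 17, 22, 23],
  [1, 1, -1, 1, -1, 1, -1, 1, -1, 1, 1, 1, 1, 1, 1, -1, 1, -1, 1, -1, 1, -1, 1, 1], [3, 1, 0, 2],
  [0, 1, 3, 6, 8, 11, 2, 4, 7, 9, 5, 10, 13, 18, 14, 16, 19, 21, 12, 15, 17, 20, 22, 23]⟩

set_option maxRecDepth 100000 in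
theorem gaD4a_check : gaD4a.check chevD4 = true := by decide +kernel

/-- Graph automorphism data (D4b). -/
def gaD4b : GraphAut := ⟨[3, 1, 0, 2], [0, 1, 3, 6, 8, 11, 2, 4, 7, 9, 5, 10, 13, 18, 14, 16, 19, 21, 12, 15, 17, 20, 22, 23],
  [1, 1, 1, -1, -1, 1, -1, -1, 1, 1, 1, 1, 1, 1, 1, 1, -1, -1, 1, -1, -1, 1, 1, 1], [2, 1, 3, 0],
  [0, 1, 6, 2, 7, 10, 3, 8, 4, 9, 11, 5, 18, 12, 14, 19, 15, 20, 13, 16, 21, 17, 22, 23]⟩

set_option maxRecDepth 100000 in
theorem gaD4b_check : gaD4b.check chevD4 = true := by decide +kernel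

end Cfsg.Agent.Lib.Helper18
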