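import Cfsg.Agent.Lib.Helper18.ReeCube

/-!
# The elements of order `3` in the unipotent subgroup `U¹` of the Ree groups
-/

set_option autoImplicit false

namespace Cfsg.Agent.Lib.Helper18

open Cfsg Cfsg.Lie Matrix Cfsg.Agent.Lib.Helper17 Cfsg.Agent.Lib.Helper36

section

variable {K : Type*} [Field K] [CharP K 3]

theorem three_eq_zero_of_char : (3 : K) = 0 := by
  have : ((3 : ℕ) : K) = 0 := CharP.cast_eq_zero K 3
  exact_mod_cast this

/-- the cube of `α(t, u, v)` is not `1` when `t ≠ 0` -/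
theorem reeUg_cube_ne (e : ℕ) (t u v : K) (ht : t ≠ 0) : reeUg e t u v ^ 3 ≠ 1 := by
  intro h
  have h1 : ((reeUg e t u v ^ 3 : ↥(chevG2.group K)) : GL chevG2.Idx K) = 1 := by
    rw [h]
    rfl
  have hpos := reeUg_mem_unip e t u v
  rw [Subgroup.coe_pow, pow_three] at h1
  have htri := g2_pos_tri _ hpos
  have h2 := congrArg (fun g : GL chevG2.Idx K =>
    g2blk (g : Matrix chevG2.Idx chevG2.Idx K) 3 0) h1
  simp only [Units.val_mul, Units.val_one] at h2
  rw [g2blk_mul _ _ htri, g2blk_mul _ _ htri, g2blk_one, coe_reeUg, coe_wordU] at h2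
  have e1 : reeWordU e t u v = [(7, t ^ e), (6, t), (8, t ^ (e + 1) + u ^ e),
      (9, t ^ (2 * e + 1) + v ^ e), (10, u), (11, v)] := rfl
  rw [e1, g2blk_word, cube_corner] at h2
  have h3 := three_eq_zero_of_char (K := K)
  have h4 : (1 : Matrix (Fin 4) (Fin 4) K) 3 0 = 0 := by
    rw [Matrix.one_apply, if_neg (by decide)]
  rw [h4, h3, zero_mul, zero_mul, zero_mul, zero_add, zero_add, zero_add] at h2
  have h5 : (2 : K) ≠ 0 := by
    intro h2'
    have h6 : (1 : K) = 0 := by linear_combination h3 - h2'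
    exact one_ne_zero h6
  have h7 : t ^ e ≠ 0 := pow_ne_zero _ ht
  have h8 : 2 * t ^ e * -t ^ e * -t = 2 * (t ^ e * t ^ e * t) := by ring
  rw [h8] at h2
  exact (mul_ne_zero h5 (mul_ne_zero (mul_ne_zero h7 h7) ht)) h2

theorem g2x_cube (r : ℕ) (hr : r < 12) (c : K) : g2x r c ^ 3 = 1 := by
  rw [pow_three, g2x_add r hr, g2x_add r hr]
  have : c + (c + c) = 0 := by linear_combination c * three_eq_zero_of_char (K := K)
  rw [this, g2x_zero]

omit [CharP K 3] in
/-- the elements `α(0, u, v)` -/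
theorem reeUg_zero (e : ℕ) (he : e ≠ 0) (u v : K) :
    reeUg e 0 u v = g2x 8 (u ^ e) * g2x 9 (v ^ e) * g2x 10 u * g2x 11 v := by
  unfold reeUg
  rw [zero_pow he, zero_pow (Nat.succ_ne_zero _), zero_pow (Nat.succ_ne_zero _), g2x_zero,
    g2x_zero, zero_add, zero_add, one_mul, one_mul]

theorem reeUg_zero_zero (e : ℕ) (he : e ≠ 0) : reeUg e (0 : K) 0 0 = 1 := by
  rw [reeUg_zero e he, zero_pow he, g2x_zero, g2x_zero, g2x_zero, g2x_zero, one_mul, one_mul,
    one_mul]

/-- the cube of `α(0, u, v)` is `1` -/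
theorem reeUg_cube_zero (e : ℕ) (he : e ≠ 0) (u v : K) : reeUg e 0 u v ^ 3 = 1 := by
  rw [reeUg_zero e he]
  have c89 : ∀ a c : K, Commute (g2x 8 a) (g2x 9 c) :=
    g2x_comm3 8 9 11 1 (by decide) (by decide) (by decide) (by decide +kernel) (by decide +kernel)
  have c810 : ∀ a c : K, Commute (g2x 8 a) (g2x 10 c) :=
    g2x_comm0 8 10 (by decide) (by decide) (by decide) (by decide +kernel) (by decide +kernel)
  have c811 : ∀ a c : K, Commute (g2x 8 a) (g2x 11 c) :=
    g2x_comm0 8 11 (by decide) (by decide) (by decide) (by decide +kernel) (by decide +kernel)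
  have c910 : ∀ a c : K, Commute (g2x 9 a) (g2x 10 c) :=
    g2x_comm0 9 10 (by decide) (by decide) (by decide) (by decide +kernel) (by decide +kernel)
  have c911 : ∀ a c : K, Commute (g2x 9 a) (g2x 11 c) :=
    g2x_comm0 9 11 (by decide) (by decide) (by decide) (by decide +kernel) (by decide +kernel)
  have c1011 : ∀ a c : K, Commute (g2x 10 a) (g2x 11 c) :=
    g2x_comm0 10 11 (by decide) (by decide) (by decide) (by decide +kernel) (by decide +kernel)
  rw [Commute.mul_pow (((c811 _ _).mul_left (c911 _ _)).mul_left (c1011 _ _)),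
    Commute.mul_pow ((c810 _ _).mul_left (c910 _ _)), Commute.mul_pow (c89 _ _),
    g2x_cube 8 (by decide), g2x_cube 9 (by decide), g2x_cube 10 (by decide),
    g2x_cube 11 (by decide), one_mul, one_mul, one_mul]

end

section

variable {K : Type*} [Field K] [Fintype K] [CharP K 3] {m : ℕ}

/-- `U¹` has exactly `q² - 1` elements of order `3` -/
theorem ree_order_three_card (T : ReeTw K m) (hK : Fintype.card K = 3 ^ (2 * m + 1)) :
    Nat.card {x : ↥(chevG2.posUnipotent K ⊓ twistedG2 K (3 ^ m)) // orderOf x = 3} =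
      (3 ^ (2 * m + 1)) ^ 2 - 1 := by
  classical
  have : Fact (Nat.Prime 3) := ⟨Nat.prime_three⟩
  have hθ : (3 : ℕ) ^ m ≠ 0 := pow_ne_zero _ (by norm_num)
  have hpow : ∀ (x : ↥(chevG2.posUnipotent K ⊓ twistedG2 K (3 ^ m))) (t u v : K),
      (x : GL chevG2.Idx K) = ((reeUg (3 ^ m) t u v : ↥(chevG2.group K)) : GL chevG2.Idx K) →
      (x ^ 3 = 1 ↔ reeUg (3 ^ m) t u v ^ 3 = 1) := by
    intro x t u v hx
    rw [← Subtype.coe_inj, ← Subtype.coe_inj (a := reeUg (3 ^ m) t u v ^ 3), Subgroup.coe_pow,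
      Subgroup.coe_pow, hx]
    rfl
  have hone : ∀ (x : ↥(chevG2.posUnipotent K ⊓ twistedG2 K (3 ^ m))) (t u v : K),
      (x : GL chevG2.Idx K) = ((reeUg (3 ^ m) t u v : ↥(chevG2.group K)) : GL chevG2.Idx K) →
      (x = 1 ↔ t = 0 ∧ u = 0 ∧ v = 0) := by
    intro x t u v hx
    constructor
    · intro h1
      have h2 : reeUg (3 ^ m) t u v = reeUg (3 ^ m) 0 0 0 := by
        rw [reeUg_zero_zero _ hθ]
        apply Subtype.ext
        rw [← hx, h1]
        rfl
      exact reeUg_inj _ _ _ _ _ _ _ h2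
    · rintro ⟨rfl, rfl, rfl⟩
      apply Subtype.ext
      rw [hx, reeUg_zero_zero _ hθ]
      rfl
  let f : {p : K × K // p ≠ 0} →
      {x : ↥(chevG2.posUnipotent K ⊓ twistedG2 K (3 ^ m)) // orderOf x = 3} := fun p =>
    ⟨⟨((reeUg (3 ^ m) 0 p.1.1 p.1.2 : ↥(chevG2.group K)) : GL chevG2.Idx K),
      (ree_unip_iff T hK _).mpr ⟨0, p.1.1, p.1.2, rfl⟩⟩, by
      apply orderOf_eq_prime
      · exact (hpow _ 0 p.1.1 p.1.2 rfl).mpr (reeUg_cube_zero _ hθ _ _)
      · intro h1
        obtain ⟨-, h2, h3⟩ := (hone _ 0 p.1.1 p.1.2 rfl).mp h1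
        exact p.2 (Prod.ext h2 h3)⟩
  have hinj : Function.Injective f := by
    rintro ⟨⟨u, v⟩, hp⟩ ⟨⟨u', v'⟩, hp'⟩ h
    have h1 : ((reeUg (3 ^ m) 0 u v : ↥(chevG2.group K)) : GL chevG2.Idx K) =
        ((reeUg (3 ^ m) 0 u' v' : ↥(chevG2.group K)) : GL chevG2.Idx K) :=
      congrArg (fun x : {x : ↥(chevG2.posUnipotent K ⊓ twistedG2 K (3 ^ m)) // orderOf x = 3} =>
        ((x : ↥(chevG2.posUnipotent K ⊓ twistedG2 K (3 ^ m))) : GL chevG2.Idx K)) h
    obtain ⟨-, b, c⟩ := reeUg_inj (3 ^ m) 0 u v 0 u' v' (Subtype.ext h1)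
    subst b
    subst c
    rfl
  have hsurj : Function.Surjective f := by
    rintro ⟨x, hx⟩
    obtain ⟨t, u, v, e⟩ := (ree_unip_iff T hK x.1).mp x.2
    have h3 : x ^ 3 = 1 := by
      have h0 := pow_orderOf_eq_one x
      rw [hx] at h0
      exact h0
    have ht : t = 0 := by
      by_contra ht
      exact reeUg_cube_ne _ t u v ht ((hpow x t u v e).mp h3)
    subst ht
    have hne : (u, v) ≠ (0 : K × K) := by
      intro h0
      have hu : u = 0 := congrArg Prod.fst h0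
      have hv : v = 0 := congrArg Prod.snd h0
      have h1 : x = 1 := (hone x 0 u v e).mpr ⟨rfl, hu, hv⟩
      rw [h1, orderOf_one] at hx
      exact absurd hx (by norm_num)
    exact ⟨⟨(u, v), hne⟩, Subtype.ext (Subtype.ext e.symm)⟩
  rw [← Nat.card_congr (Equiv.ofBijective f ⟨hinj, hsurj⟩), Nat.card_eq_fintype_card,
    Fintype.card_subtype_compl, Fintype.card_subtype_eq, Fintype.card_prod, hK, sq]

end

end Cfsg.Agent.Lib.Helper18
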