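import Cfsg.Agent.Lib.Helper18.ReePerf3
import Cfsg.Agent.S0319
import Cfsg.Agent.S1050

set_option autoImplicit false

/-!
# The Ree groups `²G₂(3^(2m+1))`, `m ≥ 1`, are simple

Tits' criterion (`S0319`) for the `(B, N)`-pair of rank one of `Lib.Helper18.ReeBN2`.
-/

namespace Cfsg.Agent.Lib.Helper18

open Cfsg Cfsg.Lie Cfsg.Lie.ChevalleyDatum

section

variable {K : Type*} [Field K]

theorem ReeBot.perfect [CharP K 3] [Fintype K] {m : ℕ} {T : ReeTw K m} (B : ReeBot T)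
    (hK : Fintype.card K = 3 ^ (2 * m + 1)) (hm : 1 ≤ m)
    (hUiff : ∀ g : GL chevG2.Idx K, g ∈ chevG2.posUnipotent K ⊓ twistedG2 K (3 ^ m) →
      ∃ t u v : K, g = reeA (3 ^ m) t u v) :
    commutator ↥(twistedG2 K (3 ^ m)) = ⊤ := by
  have hle := B.tw_le_commutator hK hm hUiff
  rw [eq_top_iff]
  rintro ⟨g, hg⟩ -
  have h1 := hle hg
  rw [← Subgroup.map_subtype_commutator] at h1
  obtain ⟨x, hx, hxg⟩ := h1
  have : x = ⟨g, hg⟩ := Subtype.ext hxg
  rw [← this]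
  exact hx

theorem ReeBot.simple [CharP K 3] [Fintype K] {m : ℕ} {T : ReeTw K m} (B : ReeBot T)
    (hK : Fintype.card K = 3 ^ (2 * m + 1)) (hm : 1 ≤ m)
    (hUiff : ∀ g : GL chevG2.Idx K, g ∈ chevG2.posUnipotent K ⊓ twistedG2 K (3 ^ m) →
      ∃ t u v : K, g = reeA (3 ^ m) t u v) :
    IsSimpleGroup ↥(twistedG2 K (3 ^ m)) ∧ ¬ IsMulCommutative ↥(twistedG2 K (3 ^ m)) := by
  obtain ⟨P, hPB, -, hPS⟩ := B.exists_bnpair hK
  have hperf := B.perfect hK hm hUiff
  have hθ : (3 : ℕ) ^ m ≠ 0 := pow_ne_zero _ (by norm_num)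
  have hxG : (g2u1 : GL chevG2.Idx K) ∈ twistedG2 K (3 ^ m) := g2u1_mem_tw _ hθ
  have hx1 : (⟨_, hxG⟩ : ↥(twistedG2 K (3 ^ m))) ≠ 1 := by
    intro h
    exact g2u1_ne_one (congrArg Subtype.val h)
  haveI hnt : Nontrivial ↥(twistedG2 K (3 ^ m)) := ⟨⟨_, 1, hx1⟩⟩
  have hsolv : Group.IsSolvable ↥P.B := by
    rw [hPB]
    haveI := Cfsg.Agent.S1050.result (F := K) chevG2 g2mem
    let f : ↥((chevG2.borelSubgroup K ⊓ twistedG2 K (3 ^ m)).subgroupOf (twistedG2 K (3 ^ m))) →*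
        ↥(chevG2.borelSubgroup K) :=
      { toFun := fun a => ⟨a.1.1, (Subgroup.mem_inf.mp (Subgroup.mem_subgroupOf.mp a.2)).1⟩
        map_one' := rfl
        map_mul' := fun _ _ => rfl }
    have hf : Function.Injective f := by
      intro a b hab
      apply Subtype.ext
      apply Subtype.ext
      have h1 : ((f a : ↥(chevG2.borelSubgroup K)) : GL chevG2.Idx K) =
          (f b : ↥(chevG2.borelSubgroup K)) := congrArg Subtype.val hab
      exact h1
    exact solvable_of_solvable_injective hf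
  have hcore : P.B.normalCore = ⊥ := by
    rw [hPB, eq_bot_iff]
    intro z hz
    rw [Subgroup.mem_bot]
    apply Subtype.ext
    apply g2_core (3 ^ m) hθ
    intro g hg
    have h1 := hz ⟨g, hg⟩
    have h2 : ((⟨g, hg⟩ * z * (⟨g, hg⟩ : ↥(twistedG2 K (3 ^ m)))⁻¹ : ↥(twistedG2 K (3 ^ m))) :
        GL chevG2.Idx K) ∈ chevG2.borelSubgroup K ⊓ twistedG2 K (3 ^ m) := h1
    exact (Subgroup.mem_inf.mp h2).1
  have hirr : P.Irreducible := by
    intro J hJ hJne hJc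
    exfalso
    obtain ⟨s, hs⟩ := hJne
    obtain ⟨s', hs', hs'J⟩ := hJc
    have h1 : (s : GL chevG2.Idx K) = ((g2n1 : ↥(chevG2.group K)) : GL chevG2.Idx K) := by
      have := hJ hs
      rw [hPS] at this
      exact this
    have h2 : (s' : GL chevG2.Idx K) = ((g2n1 : ↥(chevG2.group K)) : GL chevG2.Idx K) := by
      rw [hPS] at hs'
      exact hs'
    have h3 : s' = s := Subtype.ext (h2.trans h1.symm)
    rw [h3] at hs'J
    exact hs'J hs
  refine ⟨Cfsg.Agent.S0319.result P hirr hsolv hperf hcore, fun hcomm => ?_⟩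
  have hbot : commutator ↥(twistedG2 K (3 ^ m)) = ⊥ := by
    rw [commutator_def, Subgroup.commutator_eq_bot_iff_le_centralizer]
    intro a _
    rw [Subgroup.mem_centralizer_iff]
    intro b _
    exact hcomm.is_comm.comm b a
  rw [hperf] at hbot
  have : (⟨_, hxG⟩ : ↥(twistedG2 K (3 ^ m))) ∈ (⊤ : Subgroup ↥(twistedG2 K (3 ^ m))) :=
    Subgroup.mem_top _
  rw [hbot, Subgroup.mem_bot] at this
  exact hx1 this

end

end Cfsg.Agent.Lib.Helper18
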