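import Cfsg.Agent.Lib.Helper17.ReeT
import Cfsg.Agent.Lib.Helper18.ReeSimple

/-!
# The Ree groups `²G₂(3^(2m+1))`: assembling the bottom (fixed points of `U` and `H`, by
helper17) and the top (Bruhat cells, (B,N)-pair, perfectness, simplicity)
-/

set_option autoImplicit false

namespace Cfsg.Agent.Lib.Helper18

open Cfsg Cfsg.Lie Matrix Cfsg.Agent.Lib.Helper17 Cfsg.Agent.Lib.Helper36

variable {K : Type*} [Field K] [Fintype K] [CharP K 3] {m : ℕ}

/-- the three facts about the bottom of the Ree group -/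
theorem ree_bot (T : ReeTw K m) (hK : Fintype.card K = 3 ^ (2 * m + 1)) : ReeBot T where
  fixed := ree_fixed T hK
  unip := fun g hg hf => by
    obtain ⟨t, u, v, rfl⟩ := ree_fix_unip T hK g hg hf
    exact reeUg_mem _ t u v
  diag := ree_fix_diag T hK

/-- the elements of `U¹` in the normal form used by the commutator computations -/
theorem ree_unip_form (T : ReeTw K m) (hK : Fintype.card K = 3 ^ (2 * m + 1))
    (g : GL chevG2.Idx K) (hg : g ∈ chevG2.posUnipotent K ⊓ twistedG2 K (3 ^ m)) :
    ∃ t u v : K, g = reeA (3 ^ m) t u v := by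
  obtain ⟨t, u, v, h⟩ := (ree_unip_iff T hK g).mp hg
  refine ⟨t, u, v, ?_⟩
  rw [h, coe_reeUg]
  rfl

end Cfsg.Agent.Lib.Helper18
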