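import Cfsg.Agent.Lib.Helper18.ReeStab
import Cfsg.Agent.Lib.Helper18.ReeCube2

/-!
# Three-point stabilisers of the Ree groups on the cosets of `B¹`
-/

set_option autoImplicit false

namespace Cfsg.Agent.Lib.Helper18

open Cfsg Cfsg.Lie Matrix Cfsg.Agent.Lib.Helper17 Cfsg.Agent.Lib.Helper36

variable {K : Type*} [Field K] [Fintype K] [CharP K 3] {m : ℕ}

/-- an element of `²G₂` fixing the cosets `B`, `n₁B` and `u h n₁ B` (`u ≠ 1`) is `1` or the
involution of `H¹` -/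
theorem ree_three_fix (T : ReeTw K m) (hK : Fintype.card K = 3 ^ (2 * m + 1))
    (u : GL chevG2.Idx K) (hu : u ∈ chevG2.posUnipotent K ⊓ twistedG2 K (3 ^ m)) (hu1 : u ≠ 1)
    (h : GL chevG2.Idx K) (hh : h ∈ chevG2.diagonalSubgroup K)
    (s : GL chevG2.Idx K) (hsG : s ∈ twistedG2 K (3 ^ m)) (hsB : s ∈ chevG2.borelSubgroup K)
    (h2 : ((g2n1 : ↥(chevG2.group K)) : GL chevG2.Idx K)⁻¹ * s *
      ((g2n1 : ↥(chevG2.group K)) : GL chevG2.Idx K) ∈ chevG2.borelSubgroup K)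
    (h3 : ((g2n1 : ↥(chevG2.group K)) : GL chevG2.Idx K)⁻¹ * ((u * h)⁻¹ * s * (u * h)) *
      ((g2n1 : ↥(chevG2.group K)) : GL chevG2.Idx K) ∈ chevG2.borelSubgroup K) :
    s = 1 ∨ s = ((g2t ((-1 : K) ^ 3 ^ m) (-1) : ↥(chevG2.group K)) : GL chevG2.Idx K) := by
  have hUB : chevG2.posUnipotent K ≤ chevG2.borelSubgroup K := le_sup_left
  have hHB : chevG2.diagonalSubgroup K ≤ chevG2.borelSubgroup K := le_sup_right
  have hθ : (3 : ℕ) ^ m ≠ 0 := pow_ne_zero _ (by norm_num)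
  have hsH : s ∈ chevG2.diagonalSubgroup K := g2_mem_diag_of_conj s hsB h2
  have huh : u * h ∈ chevG2.borelSubgroup K := mul_mem (hUB hu.1) (hHB hh)
  have h4 : (u * h)⁻¹ * s * (u * h) ∈ chevG2.diagonalSubgroup K :=
    g2_mem_diag_of_conj _ (mul_mem (mul_mem (inv_mem huh) hsB) huh) h3
  have h5 : u⁻¹ * s * u ∈ chevG2.diagonalSubgroup K := by
    have e : u⁻¹ * s * u = h * ((u * h)⁻¹ * s * (u * h)) * h⁻¹ := by group
    rw [e]
    exact mul_mem (mul_mem hh h4) (inv_mem hh)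
  have h6 : s * u * s⁻¹ ∈ chevG2.posUnipotent K :=
    (Subgroup.mem_set_normalizer_iff.mp
      (diagonalSubgroup_le_normalizer_posUnipotent chevG2 g2mem hsH) u).mp hu.1
  have h7 := (g2_UH_inj (s * u * s⁻¹) u s (u⁻¹ * s * u) h6 hu.1 hsH h5 (by group)).1
  have hcomm : s * u = u * s := by
    calc s * u = (s * u * s⁻¹) * s := by group
      _ = u * s := by rw [h7]
  -- parameters
  have hsg : s ∈ chevG2.group K := g2_tw_le_group _ hsG
  obtain ⟨z, hz, ez⟩ := ree_fix_diag_form T ⟨s, hsg⟩ hsH (ree_fixed T hK ⟨s, hsg⟩ hsG)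
  obtain ⟨t, u', v, eu⟩ := (ree_unip_iff T hK u).mp hu
  have es : s = ((g2t (z ^ 3 ^ m) z : ↥(chevG2.group K)) : GL chevG2.Idx K) :=
    congrArg (fun g : ↥(chevG2.group K) => (g : GL chevG2.Idx K)) ez
  have hne : ¬ (t = 0 ∧ u' = 0 ∧ v = 0) := by
    rintro ⟨rfl, rfl, rfl⟩
    apply hu1
    rw [eu, reeUg_zero_zero _ hθ]
    rfl
  have hc : g2t (z ^ 3 ^ m) z * reeUg (3 ^ m) t u' v = reeUg (3 ^ m) t u' v * g2t (z ^ 3 ^ m) z := by
    apply Subtype.ext
    rw [Subgroup.coe_mul, Subgroup.coe_mul, ← es, ← eu]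
    exact hcomm
  rcases ree_cent_param hK z hz t u' v hne hc with rfl | rfl
  · left
    rw [es, one_pow, g2t_one]
    rfl
  · right
    exact es

/-- the stabilisers of three distinct cosets of `B¹` in the Ree group have order at most `2`,
and order `2` occurs -/
theorem ree_three_point (T : ReeTw K m) (hK : Fintype.card K = 3 ^ (2 * m + 1)) :
    (∀ x y z : ↥(twistedG2 K (3 ^ m)) ⧸
        (chevG2.borelSubgroup K ⊓ twistedG2 K (3 ^ m)).subgroupOf (twistedG2 K (3 ^ m)),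
      x ≠ y → x ≠ z → y ≠ z →
        Nat.card ↥(MulAction.stabilizer ↥(twistedG2 K (3 ^ m)) x ⊓
          MulAction.stabilizer ↥(twistedG2 K (3 ^ m)) y ⊓
          MulAction.stabilizer ↥(twistedG2 K (3 ^ m)) z) ≤ 2) ∧
    ∃ x y z : ↥(twistedG2 K (3 ^ m)) ⧸
        (chevG2.borelSubgroup K ⊓ twistedG2 K (3 ^ m)).subgroupOf (twistedG2 K (3 ^ m)),
      x ≠ y ∧ x ≠ z ∧ y ≠ z ∧
        Nat.card ↥(MulAction.stabilizer ↥(twistedG2 K (3 ^ m)) x ⊓
          MulAction.stabilizer ↥(twistedG2 K (3 ^ m)) y ⊓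
          MulAction.stabilizer ↥(twistedG2 K (3 ^ m)) z) = 2 := by
  classical
  have B := ree_bot T hK
  have hUB : chevG2.posUnipotent K ≤ chevG2.borelSubgroup K := le_sup_left
  have hHB : chevG2.diagonalSubgroup K ≤ chevG2.borelSubgroup K := le_sup_right
  have hθ : (3 : ℕ) ^ m ≠ 0 := pow_ne_zero _ (by norm_num)
  have hn1 := g2n1_mem_tw (K := K) (3 ^ m) hθ
  have hm1 : (-1 : K) ≠ 0 := neg_ne_zero.mpr one_ne_zero
  have hcG : ((g2t ((-1 : K) ^ 3 ^ m) (-1) : ↥(chevG2.group K)) : GL chevG2.Idx K) ∈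
      twistedG2 K (3 ^ m) := ree_torus_mem hK (-1) hm1
  have hcH : ((g2t ((-1 : K) ^ 3 ^ m) (-1) : ↥(chevG2.group K)) : GL chevG2.Idx K) ∈
      chevG2.diagonalSubgroup K := g2t_mem_diag _ _ (pow_ne_zero _ hm1) hm1
  have hnorm : ∀ h ∈ chevG2.diagonalSubgroup K,
      ((g2n1 : ↥(chevG2.group K)) : GL chevG2.Idx K)⁻¹ * h *
        ((g2n1 : ↥(chevG2.group K)) : GL chevG2.Idx K) ∈ chevG2.diagonalSubgroup K := by
    intro h hh
    have h1 := (Subgroup.mem_set_normalizer_iff.mp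
      (monomialSubgroup_le_normalizer chevG2 g2mem (g2n1_mem_monomial (K := K))))
      (((g2n1 : ↥(chevG2.group K)) : GL chevG2.Idx K)⁻¹ * h *
        ((g2n1 : ↥(chevG2.group K)) : GL chevG2.Idx K))
    rw [SetLike.mem_coe, SetLike.mem_coe] at h1
    rw [h1]
    have e : ((g2n1 : ↥(chevG2.group K)) : GL chevG2.Idx K) *
        (((g2n1 : ↥(chevG2.group K)) : GL chevG2.Idx K)⁻¹ * h *
        ((g2n1 : ↥(chevG2.group K)) : GL chevG2.Idx K)) *
        ((g2n1 : ↥(chevG2.group K)) : GL chevG2.Idx K)⁻¹ = h := by group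
    rw [e]
    exact hh
  constructor
  · refine three_point_le
      ((chevG2.borelSubgroup K ⊓ twistedG2 K (3 ^ m)).subgroupOf (twistedG2 K (3 ^ m)))
      ((chevG2.posUnipotent K ⊓ twistedG2 K (3 ^ m)).subgroupOf (twistedG2 K (3 ^ m)))
      ((chevG2.diagonalSubgroup K ⊓ twistedG2 K (3 ^ m)).subgroupOf (twistedG2 K (3 ^ m)))
      ⟨_, hn1⟩ ⟨_, hcG⟩ ?_ ?_ ?_ ?_ ?_
    · intro x hx
      rw [Subgroup.mem_subgroupOf] at hx ⊢
      exact ⟨hUB hx.1, hx.2⟩
    · intro x hx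
      rw [Subgroup.mem_subgroupOf] at hx ⊢
      exact ⟨hHB hx.1, hx.2⟩
    · intro h hh
      rw [Subgroup.mem_subgroupOf] at hh ⊢
      exact ⟨hHB (hnorm _ hh.1), SetLike.coe_mem _⟩
    · intro g
      rcases B.cells hK (g : GL chevG2.Idx K) g.2 with ⟨u', hu', h, hh, e⟩ |
        ⟨u', hu', h, hh, u, hu, e⟩
      · left
        rw [Subgroup.mem_subgroupOf, e]
        exact ⟨mul_mem (hUB hu'.1) (hHB hh.1), mul_mem hu'.2 hh.2⟩
      · right
        refine ⟨⟨u', hu'.2⟩, ?_, ⟨h, hh.2⟩, ?_, ⟨u, hu.2⟩, ?_, Subtype.ext e⟩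
        · rw [Subgroup.mem_subgroupOf]
          exact hu'
        · rw [Subgroup.mem_subgroupOf]
          exact hh
        · rw [Subgroup.mem_subgroupOf]
          exact ⟨hUB hu.1, hu.2⟩
    · intro u hu hu1 h hh s hs h2 h3
      rw [Subgroup.mem_subgroupOf] at hu hh hs h2 h3
      have hu1' : (u : GL chevG2.Idx K) ≠ 1 := fun h0 => hu1 (Subtype.ext h0)
      rcases ree_three_fix T hK (u : GL chevG2.Idx K) hu hu1' (h : GL chevG2.Idx K) hh.1
        (s : GL chevG2.Idx K) s.2 hs.1 h2.1 h3.1 with h0 | h0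
      · left
        exact Subtype.ext h0
      · right
        exact Subtype.ext h0
  · have hu0G := reeUg_mem (K := K) (3 ^ m) 0 1 0
    have hu0U := reeUg_mem_unip (K := K) (3 ^ m) 0 1 0
    have hu0ne : ((reeUg (3 ^ m) (0 : K) 1 0 : ↥(chevG2.group K)) : GL chevG2.Idx K) ≠ 1 := by
      intro h0
      have h1 : reeUg (3 ^ m) (0 : K) 1 0 = reeUg (3 ^ m) 0 0 0 := by
        rw [reeUg_zero_zero _ hθ]
        exact Subtype.ext h0
      exact one_ne_zero (reeUg_inj _ _ _ _ _ _ _ h1).2.1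
    refine three_point_eq
      ((chevG2.borelSubgroup K ⊓ twistedG2 K (3 ^ m)).subgroupOf (twistedG2 K (3 ^ m)))
      ⟨_, hn1⟩ ⟨_, hcG⟩ ⟨_, hu0G⟩ ?_ ?_ ?_ ?_ ?_ ?_ ?_ ?_
    · intro h0
      rw [Subgroup.mem_subgroupOf] at h0
      exact g2_cell_disj _ 1 1 h0.1 (one_mem _) (one_mem _) (by rw [one_mul, mul_one])
    · intro h0
      rw [Subgroup.mem_subgroupOf] at h0
      exact g2_cell_disj _ _ 1 h0.1 (hUB hu0U) (one_mem _) (by rw [mul_one]; rfl)
    · intro h0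
      rw [Subgroup.mem_subgroupOf] at h0
      have h1 := g2_mem_diag_of_conj _ (hUB hu0U) h0.1
      have h2 : ((reeUg (3 ^ m) (0 : K) 1 0 : ↥(chevG2.group K)) : GL chevG2.Idx K) ∈
          chevG2.posUnipotent K ⊓ chevG2.diagonalSubgroup K := Subgroup.mem_inf.mpr ⟨hu0U, h1⟩
      rw [(Cfsg.Agent.S1036.result chevG2 g2mem).2, Subgroup.mem_bot] at h2
      exact hu0ne h2
    · rw [Subgroup.mem_subgroupOf]
      exact ⟨hHB hcH, hcG⟩
    · rw [Subgroup.mem_subgroupOf]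
      exact ⟨hHB (hnorm _ hcH), SetLike.coe_mem _⟩
    · apply Subtype.ext
      exact congrArg (fun g : ↥(chevG2.group K) => (g : GL chevG2.Idx K)) (ree_hm_comm (K := K))
    · intro h0
      have h0' : ((g2t ((-1 : K) ^ 3 ^ m) (-1) : ↥(chevG2.group K)) : GL chevG2.Idx K) = 1 :=
        congrArg Subtype.val h0
      have h1 : g2t ((-1 : K) ^ 3 ^ m) (-1) = g2t 1 1 := by
        rw [g2t_one]
        apply Subtype.ext
        rw [h0']
        rfl
      have h2 := (g2t_inj _ _ _ _ (pow_ne_zero _ hm1) hm1 one_ne_zero one_ne_zero h1).2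
      have h3 := three_eq_zero_of_char (K := K)
      have h4 : (1 : K) = 0 := by linear_combination h3 + h2
      exact one_ne_zero h4
    · intro s hs h2 h3
      rw [Subgroup.mem_subgroupOf] at hs h2 h3
      have h3' : ((g2n1 : ↥(chevG2.group K)) : GL chevG2.Idx K)⁻¹ *
          ((((reeUg (3 ^ m) (0 : K) 1 0 : ↥(chevG2.group K)) : GL chevG2.Idx K) * 1)⁻¹ *
            (s : GL chevG2.Idx K) *
            (((reeUg (3 ^ m) (0 : K) 1 0 : ↥(chevG2.group K)) : GL chevG2.Idx K) * 1)) *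
          ((g2n1 : ↥(chevG2.group K)) : GL chevG2.Idx K) ∈ chevG2.borelSubgroup K := by
        rw [mul_one]
        exact h3.1
      rcases ree_three_fix T hK _ (Subgroup.mem_inf.mpr ⟨hu0U, hu0G⟩) hu0ne 1 (one_mem _)
        (s : GL chevG2.Idx K) s.2 hs.1 h2.1 h3' with h0 | h0
      · left
        exact Subtype.ext h0
      · right
        exact Subtype.ext h0

end Cfsg.Agent.Lib.Helper18
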