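import Cfsg.Agent.Lib.Helper18.F4BN
import Cfsg.Agent.Lib.Helper17.F4Br
import Cfsg.Agent.Lib.Helper17.CellAbs

set_option autoImplicit false

/-!
# The order of the Ree group `²F₄`

The double coset `B¹ n_w B¹` has `|B¹| q^{d(w)}` elements, where `d(w)` is the number of free
parameters of the classes of roots made negative by `w`; summing over the 16 elements of the
Weyl group gives the order.
-/

namespace Cfsg.Agent.Lib.Helper18

open Cfsg Cfsg.Lie Cfsg.Lie.ChevalleyDatum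
open Cfsg.Agent.Lib.Helper17 (oprodL f4L f4Free f4Ext)

/-- the free parameters on which the parameter at a root depends -/
def f4Dep (r : ℕ) : List ℕ :=
  if r = 33 then [24] else
  if r = 34 then [26] else
  if r = 42 then [36, 26] else
  if r = 38 then [43] else
  if r = 29 then [41] else
  if r = 47 then [44, 41] else
  if r = 39 then [45] else
  if r = 35 then [31] else
  if r = 46 then [40, 31] else
  if r = 37 then [32] else
  if r = 27 then [25] else
  if r = 30 then [28, 25] else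
  [r]

theorem f4Ext_zero {K : Type*} [Field K] (m : ℕ) (p : ℕ → K) (r : ℕ)
    (h : ∀ f ∈ f4Dep r, p f = 0) : f4Ext m p r = 0 := by
  have hm : 2 ^ m ≠ 0 := by positivity
  have hm2 : 2 * 2 ^ m ≠ 0 := by positivity
  have hm3 : 2 * 2 ^ m + 1 ≠ 0 := by omega
  by_cases hs : r ∈ [33, 34, 42, 38, 29, 47, 39, 35, 46, 37, 27, 30]
  · simp only [List.mem_cons, List.mem_nil_iff, or_false] at hs
    rcases hs with rfl | rfl | rfl | rfl | rfl | rfl | rfl | rfl | rfl | rfl | rfl | rfl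
    · have h1 := h 24 (by decide)
      show p 24 ^ 2 ^ m = 0
      rw [h1, zero_pow hm]
    · have h1 := h 26 (by decide)
      show p 26 ^ 2 ^ m = 0
      rw [h1, zero_pow hm]
    · have h1 := h 36 (by decide)
      have h2 := h 26 (by decide)
      show p 36 ^ (2 * 2 ^ m) + p 26 ^ (2 * 2 ^ m + 1) = 0
      rw [h1, h2, zero_pow hm2, zero_pow hm3, add_zero]
    · have h1 := h 43 (by decide)
      show p 43 ^ 2 ^ m = 0
      rw [h1, zero_pow hm]
    · have h1 := h 41 (by decide)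
      show p 41 ^ 2 ^ m = 0
      rw [h1, zero_pow hm]
    · have h1 := h 44 (by decide)
      have h2 := h 41 (by decide)
      show p 44 ^ (2 * 2 ^ m) + p 41 ^ (2 * 2 ^ m + 1) = 0
      rw [h1, h2, zero_pow hm2, zero_pow hm3, add_zero]
    · have h1 := h 45 (by decide)
      show p 45 ^ 2 ^ m = 0
      rw [h1, zero_pow hm]
    · have h1 := h 31 (by decide)
      show p 31 ^ 2 ^ m = 0
      rw [h1, zero_pow hm]
    · have h1 := h 40 (by decide)
      have h2 := h 31 (by decide)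
      show p 40 ^ (2 * 2 ^ m) + p 31 ^ (2 * 2 ^ m + 1) = 0
      rw [h1, h2, zero_pow hm2, zero_pow hm3, add_zero]
    · have h1 := h 32 (by decide)
      show p 32 ^ 2 ^ m = 0
      rw [h1, zero_pow hm]
    · have h1 := h 25 (by decide)
      show p 25 ^ 2 ^ m = 0
      rw [h1, zero_pow hm]
    · have h1 := h 28 (by decide)
      have h2 := h 25 (by decide)
      show p 28 ^ (2 * 2 ^ m) + p 25 ^ (2 * 2 ^ m + 1) = 0
      rw [h1, h2, zero_pow hm2, zero_pow hm3, add_zero]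
  · simp only [List.mem_cons, List.mem_nil_iff, or_false, not_or] at hs
    obtain ⟨n1, n2, n3, n4, n5, n6, n7, n8, n9, n10, n11, n12⟩ := hs
    have e : f4Dep r = [r] := by
      unfold f4Dep
      rw [if_neg n1, if_neg n2, if_neg n3, if_neg n4, if_neg n5, if_neg n6, if_neg n7, if_neg n8, if_neg n9, if_neg n10, if_neg n11, if_neg n12]
    have h1 := h r (by rw [e]; exact List.mem_singleton.mpr rfl)
    show (if r = 33 then _ else if r = 34 then _ else if r = 42 then _ else if r = 38 then _ else if r = 29 then _ else if r = 47 then _ else if r = 39 then _ else if r = 35 then _ else if r = 46 then _ else if r = 37 then _ else if r = 27 then _ else if r = 30 then _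
      else p r) = 0
    rw [if_neg n1, if_neg n2, if_neg n3, if_neg n4, if_neg n5, if_neg n6, if_neg n7, if_neg n8, if_neg n9, if_neg n10, if_neg n11, if_neg n12]
    exact h1

/-- representatives of the 16 elements of the Weyl group of `²F₄` -/
def f4W16 : List (List ℕ) :=
  [[], [0], [1], [0, 1], [1, 0], [0, 1, 0], [1, 0, 1], [0, 1, 0, 1], [1, 0, 1, 0],
   [0, 1, 0, 1, 0], [1, 0, 1, 0, 1], [0, 1, 0, 1, 0, 1], [1, 0, 1, 0, 1, 0],
   [0, 1, 0, 1, 0, 1, 0], [1, 0, 1, 0, 1, 0, 1], [0, 1, 0, 1, 0, 1, 0, 1]]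

set_option maxRecDepth 100000 in
theorem f4W16_lt : ∀ τ ∈ f4W16, ∀ i ∈ τ, i < 2 := by decide

set_option maxRecDepth 100000 in
theorem f4W16_closed : ∀ τ ∈ f4W16, ∀ k < 2, ∃ τ' ∈ f4W16, ∀ s < 48,
    Cfsg.Agent.Lib.Helper36.wordF chevF4 ((k :: τ).flatMap f4Orb) s =
      Cfsg.Agent.Lib.Helper36.wordF chevF4 (τ'.flatMap f4Orb) s := by decide +kernel

set_option maxRecDepth 100000 in
theorem f4W16_distinct : f4W16.Pairwise (fun a b => ∃ s < 48,
    Cfsg.Agent.Lib.Helper36.wordF chevF4 (a.flatMap f4Orb) s ≠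
      Cfsg.Agent.Lib.Helper36.wordF chevF4 (b.flatMap f4Orb) s) := by decide +kernel

set_option maxRecDepth 100000 in
theorem f4W16_compat : ∀ τ ∈ f4W16, ∀ r ∈ f4L, ∀ f ∈ f4Dep r,
    (chevF4.IsNegRoot (Cfsg.Agent.Lib.Helper36.wordF chevF4 (τ.flatMap f4Orb) f) ↔
      chevF4.IsNegRoot (Cfsg.Agent.Lib.Helper36.wordF chevF4 (τ.flatMap f4Orb) r)) := by
  decide +kernel

set_option maxRecDepth 100000 in
theorem f4W16_deg : f4W16.map (fun τ => (f4Free.filter (fun s => chevF4.IsNegRoot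
    (Cfsg.Agent.Lib.Helper36.wordF chevF4 (τ.flatMap f4Orb) s))).card) =
    [0, 1, 2, 3, 3, 4, 5, 6, 6, 7, 8, 9, 9, 10, 11, 12] := by decide +kernel

theorem f4Free_card : f4Free.card = 12 := by decide

theorem f4L_lt : ∀ r ∈ f4L, r < 48 := by decide

section

variable {K : Type*} [Field K]

/-- the fixed points of `U` with free parameters supported on `S` -/
noncomputable def f4Fam (m : ℕ) (S : Finset ℕ) (p : ↥S → K) : GL chevF4.Idx K :=
  oprodL chevF4 f4mem f4L (f4Ext m (fun s => if h : s ∈ S then p ⟨s, h⟩ else 0))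

theorem f4Fam_mem_pos [Fintype K] [CharP K 2] (m : ℕ) (S : Finset ℕ) (p : ↥S → K) :
    f4Fam m S p ∈ chevF4.posUnipotent K := by
  unfold f4Fam
  rw [← Cfsg.Agent.Lib.Helper17.f4_genL]
  exact Cfsg.Agent.Lib.Helper17.oprodL_mem chevF4 _ f4L _

theorem f4Fam_mem_tw [Fintype K] [CharP K 2] {m : ℕ} (hK : Fintype.card K = 2 ^ (2 * m + 1))
    (S : Finset ℕ) (p : ↥S → K) : f4Fam m S p ∈ twistedF4 K (2 ^ m) :=
  Cfsg.Agent.Lib.Helper17.f4_cond_mem hK _ (Cfsg.Agent.Lib.Helper17.f4Ext_cond m _)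

theorem f4Fam_inj [Fintype K] (m : ℕ) (S : Finset ℕ) (hS : S ⊆ f4Free) :
    Function.Injective (f4Fam (K := K) m S) := by
  intro p q hpq
  have h2 := Cfsg.Agent.Lib.Helper17.ord_unique chevF4 f4mem f4L Cfsg.Agent.Lib.Helper17.f4L_pos
    Cfsg.Agent.Lib.Helper17.f4L_nodup Cfsg.Agent.Lib.Helper17.f4L_chk
    Cfsg.Agent.Lib.Helper17.f4L_all _ _ hpq
  funext ⟨s, hs⟩
  have h3 := h2 s (Cfsg.Agent.Lib.Helper17.f4Free_sub s (hS hs))
  rw [Cfsg.Agent.Lib.Helper17.f4Ext_free m _ s (hS hs),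
    Cfsg.Agent.Lib.Helper17.f4Ext_free m _ s (hS hs)] at h3
  simpa only [dif_pos hs] using h3

theorem f4Fam_zero (m : ℕ) (S : Finset ℕ) : f4Fam m S (fun _ => (0 : K)) = 1 := by
  unfold f4Fam
  apply Cfsg.Agent.Lib.Helper17.oprodL_one_of_zero
  intro r _
  apply f4Ext_zero
  intro f _
  by_cases h : f ∈ S
  · rw [dif_pos h]
  · rw [dif_neg h]

theorem f4_oprodL_conj_mem (Q : Subgroup (GL chevF4.Idx K)) (n : GL chevF4.Idx K) (L : List ℕ)
    (t : ℕ → K) (h : ∀ r ∈ L, n * xU chevF4 f4mem r (t r) * n⁻¹ ∈ Q) :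
    n * oprodL chevF4 f4mem L t * n⁻¹ ∈ Q := by
  induction L with
  | nil =>
    rw [Cfsg.Agent.Lib.Helper17.oprodL_nil, mul_one, mul_inv_cancel]
    exact one_mem _
  | cons r L ih =>
    rw [Cfsg.Agent.Lib.Helper17.oprodL_cons]
    have e : n * (xU chevF4 f4mem r (t r) * oprodL chevF4 f4mem L t) * n⁻¹ =
        (n * xU chevF4 f4mem r (t r) * n⁻¹) * (n * oprodL chevF4 f4mem L t * n⁻¹) := by group
    rw [e]
    exact mul_mem (h r List.mem_cons_self) (ih (fun s hs => h s (List.mem_cons_of_mem _ hs)))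

/-- a family supported on classes made negative is conjugated into `V` -/
theorem f4Fam_conj_neg (m : ℕ) (S : Finset ℕ) (n : GL chevF4.Idx K) (π : Equiv.Perm ℕ)
    (hR : RootAct chevF4 f4mem n π)
    (hS : ∀ r ∈ f4L, ¬ chevF4.IsNegRoot (π r) → ∀ f ∈ f4Dep r, f ∉ S) (p : ↥S → K) :
    n * f4Fam m S p * n⁻¹ ∈ chevF4.negUnipotent K := by
  unfold f4Fam
  apply f4_oprodL_conj_mem
  intro r hr
  by_cases hneg : chevF4.IsNegRoot (π r)
  · obtain ⟨c, -, e⟩ := hR.conj r (f4L_lt r hr)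
    rw [e, mul_inv_cancel_right]
    exact Subgroup.subset_closure ⟨π r, _, hneg, coe_xU chevF4 f4mem _ _⟩
  · have h0 : f4Ext m (fun s => if h : s ∈ S then p ⟨s, h⟩ else 0) r = 0 := by
      apply f4Ext_zero
      intro f hf
      rw [dif_neg (hS r hr hneg f hf)]
    rw [h0, xU_zero, mul_one, mul_inv_cancel]
    exact one_mem _

/-- a family supported on classes kept positive is conjugated into `U` -/
theorem f4Fam_conj_pos (m : ℕ) (S : Finset ℕ) (n : GL chevF4.Idx K) (π : Equiv.Perm ℕ)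
    (hR : RootAct chevF4 f4mem n π)
    (hS : ∀ r ∈ f4L, ¬ chevF4.IsPosRoot (π r) → ∀ f ∈ f4Dep r, f ∉ S) (p : ↥S → K) :
    n * f4Fam m S p * n⁻¹ ∈ chevF4.posUnipotent K := by
  unfold f4Fam
  apply f4_oprodL_conj_mem
  intro r hr
  by_cases hpos : chevF4.IsPosRoot (π r)
  · obtain ⟨c, -, e⟩ := hR.conj r (f4L_lt r hr)
    rw [e, mul_inv_cancel_right]
    exact Subgroup.subset_closure ⟨π r, _, hpos, coe_xU chevF4 f4mem _ _⟩
  · have h0 : f4Ext m (fun s => if h : s ∈ S then p ⟨s, h⟩ else 0) r = 0 := by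
      apply f4Ext_zero
      intro f hf
      rw [dif_neg (hS r hr hpos f hf)]
    rw [h0, xU_zero, mul_one, mul_inv_cancel]
    exact one_mem _

theorem f4nC_inv_mul_mem_diag (a b : List ℕ)
    (h : (f4nC a : GL chevF4.Idx K)⁻¹ * f4nC b ∈ chevF4.diagonalSubgroup K) :
    ∀ s < 48, Cfsg.Agent.Lib.Helper36.wordF chevF4 (a.flatMap f4Orb) s =
      Cfsg.Agent.Lib.Helper36.wordF chevF4 (b.flatMap f4Orb) s := by
  intro s hs
  have h1 := RootAct.unique ((f4nC_rootAct (K := K) a).inv.mul (f4nC_rootAct (K := K) b))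
    (rootAct_of_mem_diagonal chevF4 f4mem _ h)
  have h2 : wordPerm chevF4 f4mem (a.flatMap f4Orb) = wordPerm chevF4 f4mem (b.flatMap f4Orb) :=
    inv_mul_eq_one.mp h1
  rw [← wordPerm_eq_wordF chevF4 f4mem _ s hs, ← wordPerm_eq_wordF chevF4 f4mem _ s hs, h2]

theorem f4_wordF_cons (k : ℕ) (c : List ℕ) (s : ℕ) :
    Cfsg.Agent.Lib.Helper36.wordF chevF4 ((k :: c).flatMap f4Orb) s =
      Cfsg.Agent.Lib.Helper36.wordF chevF4 (f4Orb k)
        (Cfsg.Agent.Lib.Helper36.wordF chevF4 (c.flatMap f4Orb) s) := by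
  rw [List.flatMap_cons]
  unfold Cfsg.Agent.Lib.Helper36.wordF
  rw [List.foldr_append]

/-- every word in `w₁`, `w₂` acts on the roots as one of the 16 representatives -/
theorem f4W16_ex (c : List ℕ) (hc : ∀ i ∈ c, i < 2) : ∃ τ ∈ f4W16, ∀ s < 48,
    Cfsg.Agent.Lib.Helper36.wordF chevF4 (c.flatMap f4Orb) s =
      Cfsg.Agent.Lib.Helper36.wordF chevF4 (τ.flatMap f4Orb) s := by
  induction c with
  | nil => exact ⟨[], by decide, fun s _ => rfl⟩
  | cons k c ih =>
    obtain ⟨τ, hτ, h⟩ := ih (fun i hi => hc i (List.mem_cons_of_mem _ hi))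
    obtain ⟨τ', hτ', h'⟩ := f4W16_closed τ hτ k (hc k List.mem_cons_self)
    refine ⟨τ', hτ', fun s hs => ?_⟩
    rw [← h' s hs, f4_wordF_cons, f4_wordF_cons, h s hs]

end

end Cfsg.Agent.Lib.Helper18
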