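import Cfsg.Agent.Lib.Helper18.ReeOrd
import Cfsg.Agent.Lib.Helper18.ChevTorus
import Cfsg.Agent.S1040
import Cfsg.Agent.S1037

set_option autoImplicit false

/-!
# The Ree group: `N¹ / H¹`, the `(B, N)`-pair and the core of `B¹`
-/

namespace Cfsg.Agent.Lib.Helper18

open Cfsg Cfsg.Lie Cfsg.Lie.ChevalleyDatum

theorem g2_cartan_lin : ∀ s < 12, ∀ i < 2, chevG2.cartan i s =
    ([(-3 : ℤ), -3, -2, -1, -1, 0, 0, 1, 1, 2, 3, 3].getD s 0) * chevG2.cartan i 7 +
    ([(-2 : ℤ), -1, -1, -1, 0, -1, 1, 0, 1, 1, 1, 2].getD s 0) * chevG2.cartan i 6 := by decide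

set_option maxRecDepth 100000 in
theorem g2u1_entry_chk :
    intEntry chevG2 [(7, 1), (6, 1), (8, 1), (9, 1), (10, 0), (11, 0)] (2 + 7) 0 % 3 ≠ 0 ∧
    intEntry chevG2 [(7, 1), (6, 1), (8, 1), (9, 1), (10, 0), (11, 0)] (2 + 6) 1 % 3 ≠ 0 := by
  decide +kernel

theorem g2_pos_word_chk : ∀ r ∈ [7, 6, 8, 9, 10, 11], chevG2.IsPosRoot r := by decide

section

variable {K : Type*} [Field K]

theorem g2n1_sq_mem [CharP K 3] :
    ((g2n1 : ↥(chevG2.group K)) : GL chevG2.Idx K) * ((g2n1 : ↥(chevG2.group K)) : GL chevG2.Idx K) ∈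
      chevG2.diagonalSubgroup K := by
  obtain ⟨π, hπ, hπs⟩ := g2n1_rootAct (K := K)
  have h1 := hπ.mul hπ
  have e : π * π = 1 := by
    apply g2_perm_ext _ _ _ (fun s hs => by rw [Equiv.Perm.mul_apply, hπ.ge s hs, hπ.ge s hs])
      (fun s _ => rfl)
    intro s hs
    rw [Equiv.Perm.mul_apply, hπs s hs, hπs (11 - s) (by omega)]
    show 11 - (11 - s) = s
    omega
  rw [e] at h1
  exact g2_mem_diag_of_rootAct_one _ (mul_mem g2n1_mem_monomial g2n1_mem_monomial) h1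

/-- the element `u₁ = x_a(1) x_b(1) x_{a+b}(1) x_{2a+b}(1)` of the Ree group -/
def g2u1 : GL chevG2.Idx K :=
  wordU chevG2 g2mem (iwF K [(7, 1), (6, 1), (8, 1), (9, 1), (10, 0), (11, 0)])

theorem g2u1_mem_tw (e : ℕ) (he : e ≠ 0) : (g2u1 : GL chevG2.Idx K) ∈ twistedG2 K e := by
  have e1 : reeWordU e (1 : K) 0 0 = iwF K [(7, 1), (6, 1), (8, 1), (9, 1), (10, 0), (11, 0)] := by
    simp [reeWordU, iwF, g2a, g2b, g2ab, g2aab, g2aaab, g2aaabb, zero_pow he]
  unfold g2u1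
  rw [← e1]
  exact g2_word_mem_tw e _ ⟨1, 0, 0, Or.inl rfl⟩

theorem g2u1_mem_pos : (g2u1 : GL chevG2.Idx K) ∈ chevG2.posUnipotent K := by
  unfold g2u1 wordU
  apply Subgroup.list_prod_mem
  intro x hx
  obtain ⟨p, hp, rfl⟩ := List.mem_map.mp hx
  apply Subgroup.subset_closure
  refine ⟨p.1, p.2, ?_, coe_xU chevG2 g2mem _ _⟩
  apply g2_pos_word_chk
  simp only [iwF, List.map_cons, List.map_nil, List.mem_cons, List.not_mem_nil, or_false] at hp
  rcases hp with rfl | rfl | rfl | rfl | rfl | rfl <;> simp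

theorem g2u1_entry [CharP K 3] :
    ((g2u1 : GL chevG2.Idx K) : Matrix chevG2.Idx chevG2.Idx K)
        (Sum.inr ⟨7, by decide⟩) (Sum.inl ⟨0, by decide⟩) ≠ 0 ∧
    ((g2u1 : GL chevG2.Idx K) : Matrix chevG2.Idx chevG2.Idx K)
        (Sum.inr ⟨6, by decide⟩) (Sum.inl ⟨1, by decide⟩) ≠ 0 := by
  unfold g2u1
  rw [coe_wordU, wordMat_int_entry, wordMat_int_entry]
  constructor
  · intro h
    rw [CharP.intCast_eq_zero_iff K 3] at h
    exact g2u1_entry_chk.1 (Int.emod_eq_zero_of_dvd h)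
  · intro h
    rw [CharP.intCast_eq_zero_iff K 3] at h
    exact g2u1_entry_chk.2 (Int.emod_eq_zero_of_dvd h)

theorem g2u1_ne_one [CharP K 3] : (g2u1 : GL chevG2.Idx K) ≠ 1 := by
  intro h
  apply (g2u1_entry (K := K)).1
  rw [h, Units.val_one]
  exact Matrix.one_apply_ne (by simp)

/-- an element of `B` whose conjugate by `n₁⁻¹` lies in `B` is in `H` -/
theorem g2_mem_diag_of_conj [CharP K 3] (z : GL chevG2.Idx K) (hz : z ∈ chevG2.borelSubgroup K)
    (hz' : ((g2n1 : ↥(chevG2.group K)) : GL chevG2.Idx K)⁻¹ * z *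
      ((g2n1 : ↥(chevG2.group K)) : GL chevG2.Idx K) ∈ chevG2.borelSubgroup K) :
    z ∈ chevG2.diagonalSubgroup K := by
  have hz2 : ((g2n1 : ↥(chevG2.group K)) : GL chevG2.Idx K)⁻¹ * z *
      ((g2n1 : ↥(chevG2.group K)) : GL chevG2.Idx K) ∈
      ((chevG2.posUnipotent K ⊔ chevG2.diagonalSubgroup K : Subgroup (GL chevG2.Idx K)) :
        Set (GL chevG2.Idx K)) := hz'
  rw [Subgroup.coe_mul_of_right_le_normalizer_left _ _
    (diagonalSubgroup_le_normalizer_posUnipotent chevG2 g2mem), Set.mem_mul] at hz2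
  obtain ⟨u, hu, h, hh, e⟩ := hz2
  have e1 : z = (((g2n1 : ↥(chevG2.group K)) : GL chevG2.Idx K) * u *
        ((g2n1 : ↥(chevG2.group K)) : GL chevG2.Idx K)⁻¹) *
      (((g2n1 : ↥(chevG2.group K)) : GL chevG2.Idx K) * h *
        ((g2n1 : ↥(chevG2.group K)) : GL chevG2.Idx K)⁻¹) := by
    have : z = ((g2n1 : ↥(chevG2.group K)) : GL chevG2.Idx K) *
        (((g2n1 : ↥(chevG2.group K)) : GL chevG2.Idx K)⁻¹ * z *
          ((g2n1 : ↥(chevG2.group K)) : GL chevG2.Idx K)) *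
        ((g2n1 : ↥(chevG2.group K)) : GL chevG2.Idx K)⁻¹ := by group
    rw [this, ← e]
    group
  have h1 : ((g2n1 : ↥(chevG2.group K)) : GL chevG2.Idx K) * h *
      ((g2n1 : ↥(chevG2.group K)) : GL chevG2.Idx K)⁻¹ ∈ chevG2.diagonalSubgroup K :=
    (Subgroup.mem_normalizer_iff.mp
      (monomialSubgroup_le_normalizer chevG2 g2mem g2n1_mem_monomial) h).mp hh
  have h2 : z ∈ chevG2.negUnipotent K ⊔ chevG2.diagonalSubgroup K := by
    rw [e1]
    exact Subgroup.mul_mem_sup (g2n1_conj_U u hu) h1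
  have h3 := (Cfsg.Agent.S1037.result (F := K) chevG2 g2mem).2
  rw [← h3]
  exact Subgroup.mem_inf.mpr ⟨hz, h2⟩

/-- A normal subgroup of the Ree group contained in `B` is trivial, elementwise. -/
theorem g2_core [CharP K 3] (e : ℕ) (he : e ≠ 0) (z : GL chevG2.Idx K)
    (hz : ∀ g ∈ twistedG2 K e, g * z * g⁻¹ ∈ chevG2.borelSubgroup K) : z = 1 := by
  have hn0 := g2n1_mem_tw (K := K) e he
  have hH : ∀ g ∈ twistedG2 K e, g * z * g⁻¹ ∈ chevG2.diagonalSubgroup K := by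
    intro g hg
    apply g2_mem_diag_of_conj _ (hz g hg)
    have h1 := hz (((g2n1 : ↥(chevG2.group K)) : GL chevG2.Idx K)⁻¹ * g)
      (Subgroup.mul_mem _ (Subgroup.inv_mem _ hn0) hg)
    have e' : ((g2n1 : ↥(chevG2.group K)) : GL chevG2.Idx K)⁻¹ * (g * z * g⁻¹) *
        ((g2n1 : ↥(chevG2.group K)) : GL chevG2.Idx K) =
        ((g2n1 : ↥(chevG2.group K)) : GL chevG2.Idx K)⁻¹ * g * z *
          (((g2n1 : ↥(chevG2.group K)) : GL chevG2.Idx K)⁻¹ * g)⁻¹ := by
      group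
    rw [e']
    exact h1
  have hz0 : z ∈ chevG2.diagonalSubgroup K := by
    have := hH 1 (Subgroup.one_mem _)
    simpa using this
  have hUH := (Cfsg.Agent.S1036.result (F := K) chevG2 g2mem).2
  have hHU := (Cfsg.Agent.S1036.result (F := K) chevG2 g2mem).1
  -- `z` commutes with `u₁`
  have hcomm : z * g2u1 = g2u1 * z := by
    have h1 := hH g2u1 (g2u1_mem_tw e he)
    have h2 : (g2u1 : GL chevG2.Idx K) * z * g2u1⁻¹ * z⁻¹ ∈
        chevG2.posUnipotent K ⊓ chevG2.diagonalSubgroup K := by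
      refine Subgroup.mem_inf.mpr ⟨?_, mul_mem h1 (inv_mem hz0)⟩
      have h3 : z * (g2u1 : GL chevG2.Idx K)⁻¹ * z⁻¹ ∈ chevG2.posUnipotent K :=
        (Subgroup.mem_normalizer_iff.mp (hHU hz0) _).mp (inv_mem g2u1_mem_pos)
      have e2 : (g2u1 : GL chevG2.Idx K) * z * g2u1⁻¹ * z⁻¹ =
          g2u1 * (z * (g2u1 : GL chevG2.Idx K)⁻¹ * z⁻¹) := by group
      rw [e2]
      exact mul_mem g2u1_mem_pos h3
    rw [hUH, Subgroup.mem_bot] at h2
    have e3 : z * g2u1 = ((g2u1 : GL chevG2.Idx K) * z * g2u1⁻¹ * z⁻¹)⁻¹ * (g2u1 * z) := by group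
    rw [e3, h2, inv_one, one_mul]
  rw [diagonalSubgroup_eq_range chevG2 g2mem] at hz0
  obtain ⟨c, rfl⟩ := MonoidHom.mem_range.mp hz0
  have hmat := congrArg (fun g : GL chevG2.Idx K => (g : Matrix chevG2.Idx chevG2.Idx K)) hcomm
  simp only [Units.val_mul, coe_torusHom] at hmat
  have hsimple : ∀ j : Fin 2, mono c (fun i => chevG2.cartan i (chevG2.simple j)) = 1 := by
    intro j
    fin_cases j
    · have h1 := congrFun (congrFun hmat (Sum.inr ⟨7, by decide⟩)) (Sum.inl ⟨0, by decide⟩)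
      rw [Matrix.diagonal_mul, Matrix.mul_diagonal, dvecL_inl, mul_one,
        dvecL_inr_eq_mono] at h1
      have h2 := mul_right_cancel₀ (g2u1_entry (K := K)).1 (h1.trans (one_mul _).symm)
      have h7 : chevG2.simple 0 = 7 := by decide
      show mono c (fun i => chevG2.cartan i (chevG2.simple 0)) = 1
      rw [h7]
      exact Units.ext h2
    · have h1 := congrFun (congrFun hmat (Sum.inr ⟨6, by decide⟩)) (Sum.inl ⟨1, by decide⟩)
      rw [Matrix.diagonal_mul, Matrix.mul_diagonal, dvecL_inl, mul_one,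
        dvecL_inr_eq_mono] at h1
      have h2 := mul_right_cancel₀ (g2u1_entry (K := K)).2 (h1.trans (one_mul _).symm)
      have h6 : chevG2.simple 1 = 6 := by decide
      show mono c (fun i => chevG2.cartan i (chevG2.simple 1)) = 1
      rw [h6]
      exact Units.ext h2
  apply MonoidHom.mem_ker.mp
  rw [mem_ker_torusHom]
  intro s
  have hlin : (fun i : Fin chevG2.rank => chevG2.cartan i s) =
      ([(-3 : ℤ), -3, -2, -1, -1, 0, 0, 1, 1, 2, 3, 3].getD s.val 0) •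
        (fun i : Fin chevG2.rank => chevG2.cartan i (chevG2.simple (0 : Fin 2))) +
      ([(-2 : ℤ), -1, -1, -1, 0, -1, 1, 0, 1, 1, 1, 2].getD s.val 0) •
        (fun i : Fin chevG2.rank => chevG2.cartan i (chevG2.simple (1 : Fin 2))) := by
    funext i
    have := g2_cartan_lin s.val s.isLt i.val i.isLt
    simp only [Pi.add_apply, Pi.smul_apply, smul_eq_mul]
    exact this
  have hadd : ∀ v w : Fin chevG2.rank → ℤ, mono c (v + w) = mono c v * mono c w := by
    intro v w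
    have := mono_sum (Finset.univ : Finset (Fin 2)) c (fun j => if j = 0 then v else w)
    simpa [Fin.sum_univ_two, Fin.prod_univ_two] using this
  rw [hlin, hadd, mono_smul, mono_smul, hsimple 0, hsimple 1, one_zpow, one_zpow, one_mul]

end

end Cfsg.Agent.Lib.Helper18
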