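import Cfsg.Agent.Lib.Helper18.ReeBN

set_option autoImplicit false

/-!
# The Ree group: `N¹ / H¹` and the `(B, N)`-pair
-/

namespace Cfsg.Agent.Lib.Helper18

open Cfsg Cfsg.Lie Cfsg.Lie.ChevalleyDatum

section

variable {K : Type*} [Field K] {m : ℕ} {T : ReeTw K m}

/-- `N ∩ G¹ = H¹ ∪ H¹ n₁` -/
theorem ReeBot.N_tw [CharP K 3] (B : ReeBot T) (n : GL chevG2.Idx K)
    (hn : n ∈ chevG2.monomialSubgroup K ⊓ twistedG2 K (3 ^ m)) :
    n ∈ chevG2.diagonalSubgroup K ⊓ twistedG2 K (3 ^ m) ∨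
      n * ((g2n1 : ↥(chevG2.group K)) : GL chevG2.Idx K)⁻¹ ∈
        chevG2.diagonalSubgroup K ⊓ twistedG2 K (3 ^ m) := by
  obtain ⟨hnN, hnG⟩ := Subgroup.mem_inf.mp hn
  have hn1 := g2n1_mem_tw (K := K) (3 ^ m) (pow_ne_zero _ (by norm_num))
  rcases T.fix_N ⟨n, g2_tw_le_group _ hnG⟩ hnN (B.fixed _ hnG) with h | h
  · left
    exact Subgroup.mem_inf.mpr ⟨h, hnG⟩
  · right
    exact Subgroup.mem_inf.mpr ⟨h, mul_mem hnG (inv_mem hn1)⟩

/-- `N¹ / H¹` has order 2 -/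
theorem ReeBot.exists_hom [CharP K 3] (B : ReeBot T) :
    ∃ φ : ↥(chevG2.monomialSubgroup K ⊓ twistedG2 K (3 ^ m)) →* Multiplicative (ZMod 2),
      Function.Surjective φ ∧
      φ.ker = (chevG2.diagonalSubgroup K ⊓ twistedG2 K (3 ^ m)).subgroupOf
        (chevG2.monomialSubgroup K ⊓ twistedG2 K (3 ^ m)) := by
  classical
  have hn1 := g2n1_mem_tw (K := K) (3 ^ m) (pow_ne_zero _ (by norm_num))
  have hidx : ((chevG2.diagonalSubgroup K ⊓ twistedG2 K (3 ^ m)).subgroupOf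
      (chevG2.monomialSubgroup K ⊓ twistedG2 K (3 ^ m))).index = 2 := by
    rw [Subgroup.index_eq_two_iff]
    refine ⟨⟨((g2n1 : ↥(chevG2.group K)) : GL chevG2.Idx K),
      Subgroup.mem_inf.mpr ⟨g2n1_mem_monomial, hn1⟩⟩, ?_⟩
    intro b
    rcases B.N_tw b.1 b.2 with h | h
    · right
      refine ⟨Subgroup.mem_subgroupOf.mpr h, fun hba => ?_⟩
      have hba' : (b : GL chevG2.Idx K) * ((g2n1 : ↥(chevG2.group K)) : GL chevG2.Idx K) ∈
          chevG2.diagonalSubgroup K ⊓ twistedG2 K (3 ^ m) := Subgroup.mem_subgroupOf.mp hba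
      apply g2n1_not_diag (K := K)
      have e : ((g2n1 : ↥(chevG2.group K)) : GL chevG2.Idx K) = (b : GL chevG2.Idx K)⁻¹ *
          ((b : GL chevG2.Idx K) * ((g2n1 : ↥(chevG2.group K)) : GL chevG2.Idx K)) := by group
      rw [e]
      exact mul_mem (inv_mem (Subgroup.mem_inf.mp h).1) (Subgroup.mem_inf.mp hba').1
    · left
      constructor
      · have e : (b : GL chevG2.Idx K) * ((g2n1 : ↥(chevG2.group K)) : GL chevG2.Idx K) =
            ((b : GL chevG2.Idx K) * ((g2n1 : ↥(chevG2.group K)) : GL chevG2.Idx K)⁻¹) *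
              (((g2n1 : ↥(chevG2.group K)) : GL chevG2.Idx K) *
                ((g2n1 : ↥(chevG2.group K)) : GL chevG2.Idx K)) := by group
        have h1 : (b : GL chevG2.Idx K) * ((g2n1 : ↥(chevG2.group K)) : GL chevG2.Idx K) ∈
            chevG2.diagonalSubgroup K ⊓ twistedG2 K (3 ^ m) := by
          refine Subgroup.mem_inf.mpr ⟨?_, mul_mem (Subgroup.mem_inf.mp b.2).2 hn1⟩
          rw [e]
          exact mul_mem (Subgroup.mem_inf.mp h).1 g2n1_sq_mem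
        exact Subgroup.mem_subgroupOf.mpr h1
      · intro hb
        have hb' : (b : GL chevG2.Idx K) ∈ chevG2.diagonalSubgroup K ⊓ twistedG2 K (3 ^ m) :=
          Subgroup.mem_subgroupOf.mp hb
        apply g2n1_not_diag (K := K)
        have e : ((g2n1 : ↥(chevG2.group K)) : GL chevG2.Idx K) =
            ((b : GL chevG2.Idx K) * ((g2n1 : ↥(chevG2.group K)) : GL chevG2.Idx K)⁻¹)⁻¹ *
              (b : GL chevG2.Idx K) := by group
        rw [e]
        exact mul_mem (inv_mem (Subgroup.mem_inf.mp h).1) (Subgroup.mem_inf.mp hb').1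
  haveI hnorm : ((chevG2.diagonalSubgroup K ⊓ twistedG2 K (3 ^ m)).subgroupOf
      (chevG2.monomialSubgroup K ⊓ twistedG2 K (3 ^ m))).Normal :=
    Subgroup.normal_of_index_eq_two hidx
  have hcard : Nat.card (↥(chevG2.monomialSubgroup K ⊓ twistedG2 K (3 ^ m)) ⧸
      ((chevG2.diagonalSubgroup K ⊓ twistedG2 K (3 ^ m)).subgroupOf
        (chevG2.monomialSubgroup K ⊓ twistedG2 K (3 ^ m)))) = 2 := by
    rw [← Subgroup.index_eq_card]
    exact hidx
  haveI : Fact (Nat.Prime 2) := ⟨Nat.prime_two⟩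
  have hcard2 : Nat.card (Multiplicative (ZMod 2)) = 2 := by
    rw [Nat.card_eq_fintype_card]
    rfl
  let e := mulEquivOfPrimeCardEq hcard hcard2
  refine ⟨e.toMonoidHom.comp (QuotientGroup.mk' _),
    e.surjective.comp (QuotientGroup.mk'_surjective _), ?_⟩
  ext x
  rw [MonoidHom.mem_ker, MonoidHom.comp_apply]
  show e (QuotientGroup.mk' _ x) = 1 ↔ _
  rw [MulEquiv.map_eq_one_iff, QuotientGroup.mk'_apply, QuotientGroup.eq_one_iff]

/-- the double coset axiom in the Ree group -/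
theorem ReeBot.bn_tw [CharP K 3] [Fintype K] (B : ReeBot T)
    (hK : Fintype.card K = 3 ^ (2 * m + 1)) (n : GL chevG2.Idx K)
    (hn : n ∈ chevG2.monomialSubgroup K ⊓ twistedG2 K (3 ^ m)) (b : GL chevG2.Idx K)
    (hb : b ∈ chevG2.borelSubgroup K ⊓ twistedG2 K (3 ^ m)) :
    (∃ b₁ ∈ chevG2.borelSubgroup K ⊓ twistedG2 K (3 ^ m),
      ∃ b₂ ∈ chevG2.borelSubgroup K ⊓ twistedG2 K (3 ^ m),
        ((g2n1 : ↥(chevG2.group K)) : GL chevG2.Idx K) * b * n =
          b₁ * (((g2n1 : ↥(chevG2.group K)) : GL chevG2.Idx K) * n) * b₂) ∨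
    (∃ b₁ ∈ chevG2.borelSubgroup K ⊓ twistedG2 K (3 ^ m),
      ∃ b₂ ∈ chevG2.borelSubgroup K ⊓ twistedG2 K (3 ^ m),
        ((g2n1 : ↥(chevG2.group K)) : GL chevG2.Idx K) * b * n = b₁ * n * b₂) := by
  have hUB : chevG2.posUnipotent K ≤ chevG2.borelSubgroup K := le_sup_left
  have hHB : chevG2.diagonalSubgroup K ≤ chevG2.borelSubgroup K := le_sup_right
  have hn1 := g2n1_mem_tw (K := K) (3 ^ m) (pow_ne_zero _ (by norm_num))
  obtain ⟨hbB, hbG⟩ := Subgroup.mem_inf.mp hb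
  obtain ⟨hnN, hnG⟩ := Subgroup.mem_inf.mp hn
  rcases B.N_tw n hn with h | h
  · left
    obtain ⟨hH, hG⟩ := Subgroup.mem_inf.mp h
    refine ⟨1, one_mem _, n⁻¹ * b * n, Subgroup.mem_inf.mpr
      ⟨mul_mem (mul_mem (inv_mem (hHB hH)) hbB) (hHB hH), mul_mem (mul_mem (inv_mem hG) hbG) hG⟩,
      ?_⟩
    group
  · obtain ⟨hH, hG⟩ := Subgroup.mem_inf.mp h
    have hg : ((g2n1 : ↥(chevG2.group K)) : GL chevG2.Idx K) * b * n ∈ twistedG2 K (3 ^ m) :=
      mul_mem (mul_mem hn1 hbG) hnG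
    rcases B.cells hK _ hg with ⟨u', hu', h', hh', e⟩ | ⟨u', hu', h', hh', u, hu, e⟩
    · left
      have hnn : ((g2n1 : ↥(chevG2.group K)) : GL chevG2.Idx K) * n ∈
          chevG2.diagonalSubgroup K := by
        have e1 : ((g2n1 : ↥(chevG2.group K)) : GL chevG2.Idx K) * n =
            (((g2n1 : ↥(chevG2.group K)) : GL chevG2.Idx K) *
              (n * ((g2n1 : ↥(chevG2.group K)) : GL chevG2.Idx K)⁻¹) *
              ((g2n1 : ↥(chevG2.group K)) : GL chevG2.Idx K)⁻¹) *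
            (((g2n1 : ↥(chevG2.group K)) : GL chevG2.Idx K) *
              ((g2n1 : ↥(chevG2.group K)) : GL chevG2.Idx K)) := by group
        rw [e1]
        exact mul_mem ((Subgroup.mem_normalizer_iff.mp
          (monomialSubgroup_le_normalizer chevG2 g2mem g2n1_mem_monomial) _).mp hH) g2n1_sq_mem
      refine ⟨(u' * h') * (((g2n1 : ↥(chevG2.group K)) : GL chevG2.Idx K) * n)⁻¹,
        Subgroup.mem_inf.mpr ⟨mul_mem (mul_mem (hUB (Subgroup.mem_inf.mp hu').1)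
          (hHB (Subgroup.mem_inf.mp hh').1)) (inv_mem (hHB hnn)),
          mul_mem (mul_mem (Subgroup.mem_inf.mp hu').2 (Subgroup.mem_inf.mp hh').2)
            (inv_mem (mul_mem hn1 hnG))⟩, 1, one_mem _, ?_⟩
      rw [e]
      group
    · right
      refine ⟨u' * h' * (n * ((g2n1 : ↥(chevG2.group K)) : GL chevG2.Idx K)⁻¹)⁻¹,
        Subgroup.mem_inf.mpr ⟨mul_mem (mul_mem (hUB (Subgroup.mem_inf.mp hu').1)
          (hHB (Subgroup.mem_inf.mp hh').1)) (inv_mem (hHB hH)),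
          mul_mem (mul_mem (Subgroup.mem_inf.mp hu').2 (Subgroup.mem_inf.mp hh').2)
            (inv_mem hG)⟩, u,
        Subgroup.mem_inf.mpr ⟨hUB (Subgroup.mem_inf.mp hu).1, (Subgroup.mem_inf.mp hu).2⟩, ?_⟩
      rw [e]
      group

theorem g2n1_conj_not_mem [CharP K 3] (e : ℕ) (he : e ≠ 0) :
    ∃ b ∈ chevG2.borelSubgroup K ⊓ twistedG2 K e,
      ((g2n1 : ↥(chevG2.group K)) : GL chevG2.Idx K) * b *
        ((g2n1 : ↥(chevG2.group K)) : GL chevG2.Idx K) ∉ chevG2.borelSubgroup K := by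
  have hUB : chevG2.posUnipotent K ≤ chevG2.borelSubgroup K := le_sup_left
  have hHB : chevG2.diagonalSubgroup K ≤ chevG2.borelSubgroup K := le_sup_right
  refine ⟨g2u1, Subgroup.mem_inf.mpr ⟨hUB g2u1_mem_pos, g2u1_mem_tw e he⟩, fun hcon => ?_⟩
  have e1 : (1 : GL chevG2.Idx K) * ((g2n1 : ↥(chevG2.group K)) : GL chevG2.Idx K) * g2u1 =
      ((((g2n1 : ↥(chevG2.group K)) : GL chevG2.Idx K) * g2u1 *
          ((g2n1 : ↥(chevG2.group K)) : GL chevG2.Idx K)) *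
        (((g2n1 : ↥(chevG2.group K)) : GL chevG2.Idx K) *
          ((g2n1 : ↥(chevG2.group K)) : GL chevG2.Idx K))⁻¹) *
        ((g2n1 : ↥(chevG2.group K)) : GL chevG2.Idx K) * 1 := by group
  have h1 := g2_cell_inj _ _ _ _ (one_mem _)
    (mul_mem hcon (inv_mem (hHB g2n1_sq_mem))) g2u1_mem_pos (one_mem _) e1
  exact g2u1_ne_one h1.2

/-- the `(B, N)`-pair of the Ree group -/
theorem ReeBot.exists_bnpair [CharP K 3] [Fintype K] (B : ReeBot T)
    (hK : Fintype.card K = 3 ^ (2 * m + 1)) :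
    ∃ P : Cfsg.BNPair ↥(twistedG2 K (3 ^ m)),
      P.B = (chevG2.borelSubgroup K ⊓ twistedG2 K (3 ^ m)).subgroupOf (twistedG2 K (3 ^ m)) ∧
      P.N = (chevG2.monomialSubgroup K ⊓ twistedG2 K (3 ^ m)).subgroupOf (twistedG2 K (3 ^ m)) ∧
      P.S = {s : ↥(twistedG2 K (3 ^ m)) |
        (s : GL chevG2.Idx K) = ((g2n1 : ↥(chevG2.group K)) : GL chevG2.Idx K)} := by
  have hHB : chevG2.diagonalSubgroup K ≤ chevG2.borelSubgroup K := le_sup_right
  have hUB : chevG2.posUnipotent K ≤ chevG2.borelSubgroup K := le_sup_left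
  have hHN : chevG2.diagonalSubgroup K ≤ chevG2.monomialSubgroup K := le_sup_left
  have hBN := (Cfsg.Agent.S1040.result (F := K) chevG2 g2mem).2
  have hn1 := g2n1_mem_tw (K := K) (3 ^ m) (pow_ne_zero _ (by norm_num))
  have hSN : {s : ↥(twistedG2 K (3 ^ m)) |
        (s : GL chevG2.Idx K) = ((g2n1 : ↥(chevG2.group K)) : GL chevG2.Idx K)} ⊆
      ((((chevG2.monomialSubgroup K ⊓ twistedG2 K (3 ^ m)).subgroupOf (twistedG2 K (3 ^ m)) :
        Subgroup ↥(twistedG2 K (3 ^ m)))) : Set ↥(twistedG2 K (3 ^ m))) := by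
    intro s hs
    rw [SetLike.mem_coe, Subgroup.mem_subgroupOf, hs]
    exact Subgroup.mem_inf.mpr ⟨g2n1_mem_monomial, hn1⟩
  refine ⟨{ B := (chevG2.borelSubgroup K ⊓ twistedG2 K (3 ^ m)).subgroupOf (twistedG2 K (3 ^ m))
            N := (chevG2.monomialSubgroup K ⊓ twistedG2 K (3 ^ m)).subgroupOf
              (twistedG2 K (3 ^ m))
            S := {s : ↥(twistedG2 K (3 ^ m)) |
              (s : GL chevG2.Idx K) = ((g2n1 : ↥(chevG2.group K)) : GL chevG2.Idx K)}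
            sup_eq_top := ?_
            conj_mem := ?_
            subset := hSN
            sq_mem := ?_
            inj := ?_
            closure_sup := ?_
            mul_mem_union := ?_
            conj_ne := ?_ }, rfl, rfl, rfl⟩
  · -- sup_eq_top
    rw [eq_top_iff]
    intro g _
    rcases B.cells hK g.1 g.2 with ⟨u', hu', h, hh, e⟩ | ⟨u', hu', h, hh, u, hu, e⟩
    · obtain ⟨hu'U, hu'G⟩ := Subgroup.mem_inf.mp hu'
      obtain ⟨hhH, hhG⟩ := Subgroup.mem_inf.mp hh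
      apply Subgroup.mem_sup_left
      rw [Subgroup.mem_subgroupOf, e]
      exact Subgroup.mem_inf.mpr ⟨mul_mem (hUB hu'U) (hHB hhH), mul_mem hu'G hhG⟩
    · obtain ⟨hu'U, hu'G⟩ := Subgroup.mem_inf.mp hu'
      obtain ⟨huU, huG⟩ := Subgroup.mem_inf.mp hu
      obtain ⟨hhH, hhG⟩ := Subgroup.mem_inf.mp hh
      have e' : g = (⟨u' * h, Subgroup.mul_mem _ hu'G hhG⟩ : ↥(twistedG2 K (3 ^ m))) *
          ⟨_, hn1⟩ * ⟨u, huG⟩ := Subtype.ext e
      rw [e']
      refine Subgroup.mul_mem _ (Subgroup.mul_mem _ (Subgroup.mem_sup_left ?_)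
        (Subgroup.mem_sup_right ?_)) (Subgroup.mem_sup_left ?_)
      · rw [Subgroup.mem_subgroupOf]
        exact Subgroup.mem_inf.mpr ⟨Subgroup.mul_mem _ (hUB hu'U) (hHB hhH),
          Subgroup.mul_mem _ hu'G hhG⟩
      · rw [Subgroup.mem_subgroupOf]
        exact Subgroup.mem_inf.mpr ⟨g2n1_mem_monomial, hn1⟩
      · rw [Subgroup.mem_subgroupOf]
        exact Subgroup.mem_inf.mpr ⟨hUB huU, huG⟩
  · -- conj_mem
    intro n hn t ht
    rw [Subgroup.mem_subgroupOf] at hn ⊢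
    have ht1 := Subgroup.mem_subgroupOf.mp ht.1
    have ht2 := Subgroup.mem_subgroupOf.mp ht.2
    have ht' : (t : GL chevG2.Idx K) ∈ chevG2.diagonalSubgroup K := by
      rw [← hBN]
      exact Subgroup.mem_inf.mpr ⟨(Subgroup.mem_inf.mp ht1).1, (Subgroup.mem_inf.mp ht2).1⟩
    refine Subgroup.mem_inf.mpr ⟨?_, (n * t * n⁻¹).2⟩
    have := (Subgroup.mem_normalizer_iff.mp
      (monomialSubgroup_le_normalizer chevG2 g2mem (Subgroup.mem_inf.mp hn).1) _).mp ht'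
    exact hHB this
  · -- sq_mem
    intro s hs
    have hs' : (s : GL chevG2.Idx K) = ((g2n1 : ↥(chevG2.group K)) : GL chevG2.Idx K) := hs
    rw [Subgroup.mem_subgroupOf, Subgroup.coe_mul, hs']
    exact Subgroup.mem_inf.mpr ⟨hHB g2n1_sq_mem, Subgroup.mul_mem _ hn1 hn1⟩
  · -- inj
    intro s hs s' hs' _
    have h1 : (s : GL chevG2.Idx K) = ((g2n1 : ↥(chevG2.group K)) : GL chevG2.Idx K) := hs
    have h2 : (s' : GL chevG2.Idx K) = ((g2n1 : ↥(chevG2.group K)) : GL chevG2.Idx K) := hs'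
    exact Subtype.ext (h1.trans h2.symm)
  · -- closure_sup
    apply le_antisymm
    · refine sup_le ?_ inf_le_right
      rw [Subgroup.closure_le]
      exact hSN
    · intro n hn
      rw [Subgroup.mem_subgroupOf] at hn
      rcases B.N_tw _ hn with h | h
      · obtain ⟨hhH, hhG⟩ := Subgroup.mem_inf.mp h
        apply Subgroup.mem_sup_right
        exact ⟨Subgroup.mem_subgroupOf.mpr (Subgroup.mem_inf.mpr ⟨hHB hhH, hhG⟩),
          Subgroup.mem_subgroupOf.mpr (Subgroup.mem_inf.mpr ⟨hHN hhH, hhG⟩)⟩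
      · obtain ⟨hhH, hhG⟩ := Subgroup.mem_inf.mp h
        have e' : n = (⟨_, hhG⟩ : ↥(twistedG2 K (3 ^ m))) * ⟨_, hn1⟩ :=
          Subtype.ext (by simp)
        rw [e']
        refine Subgroup.mul_mem _ (Subgroup.mem_sup_right ⟨?_, ?_⟩) (Subgroup.mem_sup_left ?_)
        · exact Subgroup.mem_subgroupOf.mpr (Subgroup.mem_inf.mpr ⟨hHB hhH, hhG⟩)
        · exact Subgroup.mem_subgroupOf.mpr (Subgroup.mem_inf.mpr ⟨hHN hhH, hhG⟩)
        · exact Subgroup.subset_closure rfl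
  · -- mul_mem_union
    intro s hs n hn b hb
    have hs' : (s : GL chevG2.Idx K) = ((g2n1 : ↥(chevG2.group K)) : GL chevG2.Idx K) := hs
    rw [Subgroup.mem_subgroupOf] at hn hb
    rcases B.bn_tw hK _ hn _ hb with ⟨b₁, hb₁, b₂, hb₂, e⟩ | ⟨b₁, hb₁, b₂, hb₂, e⟩
    · left
      rw [DoubleCoset.mem_doubleCoset]
      refine ⟨⟨b₁, (Subgroup.mem_inf.mp hb₁).2⟩, Subgroup.mem_subgroupOf.mpr hb₁,
        ⟨b₂, (Subgroup.mem_inf.mp hb₂).2⟩, Subgroup.mem_subgroupOf.mpr hb₂, Subtype.ext ?_⟩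
      simp only [Subgroup.coe_mul]
      rw [hs']
      exact e
    · right
      rw [DoubleCoset.mem_doubleCoset]
      refine ⟨⟨b₁, (Subgroup.mem_inf.mp hb₁).2⟩, Subgroup.mem_subgroupOf.mpr hb₁,
        ⟨b₂, (Subgroup.mem_inf.mp hb₂).2⟩, Subgroup.mem_subgroupOf.mpr hb₂, Subtype.ext ?_⟩
      simp only [Subgroup.coe_mul]
      rw [hs']
      exact e
  · -- conj_ne
    intro s hs hEq
    have hs' : (s : GL chevG2.Idx K) = ((g2n1 : ↥(chevG2.group K)) : GL chevG2.Idx K) := hs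
    obtain ⟨b, hb, hnot⟩ := g2n1_conj_not_mem (K := K) (3 ^ m) (pow_ne_zero _ (by norm_num))
    have h1 : (s * (⟨b, (Subgroup.mem_inf.mp hb).2⟩ : ↥(twistedG2 K (3 ^ m))) * s) ∈
        ((((chevG2.borelSubgroup K ⊓ twistedG2 K (3 ^ m)).subgroupOf (twistedG2 K (3 ^ m)) :
          Subgroup ↥(twistedG2 K (3 ^ m)))) : Set ↥(twistedG2 K (3 ^ m))) := by
      rw [← hEq]
      exact ⟨⟨b, (Subgroup.mem_inf.mp hb).2⟩, Subgroup.mem_subgroupOf.mpr hb, rfl⟩
    rw [SetLike.mem_coe, Subgroup.mem_subgroupOf] at h1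
    simp only [Subgroup.coe_mul] at h1
    rw [hs'] at h1
    exact hnot (Subgroup.mem_inf.mp h1).1

end

end Cfsg.Agent.Lib.Helper18
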