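import Cfsg.Agent.Lib.Helper18.ReeFinal

/-!
# Cubes in the unipotent subgroup `U¹` of the Ree groups

The elements `α(t, u, v)` of `U¹` with `t = 0` have order dividing `3`; those with `t ≠ 0` have
order `9`.  The cube is read off on the `4 × 4` block of the adjoint matrix at the four lowest
root vectors, on which `U` acts by lower unitriangular matrices.
-/

set_option autoImplicit false

namespace Cfsg.Agent.Lib.Helper18

open Cfsg Cfsg.Lie Matrix Cfsg.Agent.Lib.Helper17 Cfsg.Agent.Lib.Helper36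

/-- the four lowest root vectors -/
def g2ι (i : Fin 4) : chevG2.Idx := Sum.inr ⟨i.val, lt_of_lt_of_le i.isLt (by decide)⟩

theorem g2ι_injective : Function.Injective g2ι := by decide

theorem g2ι_bUp : ∀ i : Fin 4, bUp chevG2 (g2ι i) = i.val := by decide

theorem g2ι_range : ∀ k : chevG2.Idx, (∃ s : Fin 4, g2ι s = k) ∨ 4 ≤ bUp chevG2 k := by decide

/-- the entries of the blocks of the positive root elements -/
def g2blkT (r i j : ℕ) : List (ℕ × ℤ) :=
  if i = j then [(0, 1)] else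
    if r = 6 ∧ i = 1 ∧ j = 0 then [(1, -1)] else
    if r = 7 ∧ i = 2 ∧ j = 1 then [(1, -1)] else
    if r = 7 ∧ i = 3 ∧ j = 1 then [(2, -1)] else
    if r = 7 ∧ i = 3 ∧ j = 2 then [(1, 2)] else
    if r = 8 ∧ i = 2 ∧ j = 0 then [(1, -1)] else
    if r = 9 ∧ i = 3 ∧ j = 0 then [(1, 1)] else []

theorem g2blk_tab : ∀ r : Fin chevG2.nroots, 6 ≤ r.val → ∀ i j : Fin 4,
    xTerms chevG2 r (g2ι i) (g2ι j) = g2blkT r.val i.val j.val := by decide +kernel

section

variable {K : Type*} [Field K]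

/-- the block of a matrix at the four lowest root vectors -/
def g2blk (M : Matrix chevG2.Idx chevG2.Idx K) : Matrix (Fin 4) (Fin 4) K :=
  fun i j => M (g2ι i) (g2ι j)

theorem g2blk_one : g2blk (1 : Matrix chevG2.Idx chevG2.Idx K) = 1 := by
  ext i j
  show (1 : Matrix chevG2.Idx chevG2.Idx K) (g2ι i) (g2ι j) = _
  rw [Matrix.one_apply, Matrix.one_apply]
  by_cases h : i = j
  · rw [if_pos h, if_pos (congrArg g2ι h)]
  · rw [if_neg h, if_neg (fun h' => h (g2ι_injective h'))]

theorem g2blk_mul (M M' : Matrix chevG2.Idx chevG2.Idx K) (hM : M.BlockTriangular (bDown chevG2)) :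
    g2blk (M * M') = g2blk M * g2blk M' := by
  ext i j
  show (M * M') (g2ι i) (g2ι j) = _
  rw [Matrix.mul_apply, Matrix.mul_apply]
  symm
  apply Fintype.sum_of_injective g2ι g2ι_injective
  · intro k hk
    have h4 : 4 ≤ bUp chevG2 k := by
      rcases g2ι_range k with ⟨s, hs⟩ | h
      · exact absurd ⟨s, hs⟩ hk
      · exact h
    have h0 : M (g2ι i) k = 0 := by
      apply hM
      show OrderDual.toDual (bUp chevG2 k) < OrderDual.toDual (bUp chevG2 (g2ι i))
      rw [OrderDual.toDual_lt_toDual, g2ι_bUp]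
      have := i.isLt
      omega
    rw [h0, zero_mul]
  · intro s
    rfl

theorem g2_pos_tri (g : GL chevG2.Idx K) (hg : g ∈ chevG2.posUnipotent K) :
    (g : Matrix chevG2.Idx chevG2.Idx K).BlockTriangular (bDown chevG2) :=
  (posUnipotent_le_uniTri chevG2 g2mem hg).1

theorem g2x_tri (r : ℕ) (hr : chevG2.IsPosRoot r) (c : K) :
    (chevG2.x K r c).BlockTriangular (bDown chevG2) := by
  rw [← coe_xU chevG2 g2mem]
  exact g2_pos_tri _ (Subgroup.subset_closure ⟨r, c, hr, coe_xU chevG2 g2mem r c⟩)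

theorem g2blk_x (r : ℕ) (hr : r < chevG2.nroots) (h6 : 6 ≤ r) (c : K) (i j : Fin 4) :
    g2blk (chevG2.x K r c) i j = evalTerms (g2blkT r i.val j.val) c := by
  show chevG2.x K r c (g2ι i) (g2ι j) = _
  rw [ChevalleyDatum.x, dif_pos hr, xMat_entry, g2blk_tab ⟨r, hr⟩ h6]

/-- the block of a product of positive root elements in the order `a, b, a+b, 2a+b, 3a+b, 3a+2b` -/
theorem g2blk_word (A t c d u v : K) :
    g2blk (chevG2.wordMat K [(7, A), (6, t), (8, c), (9, d), (10, u), (11, v)]) =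
      !![1, 0, 0, 0; -t, 1, 0, 0; A * t - c, -A, 1, 0; A ^ 2 * t - 2 * A * c + d, -A ^ 2, 2 * A, 1] := by
  have hp : ∀ r ∈ [7, 6, 8, 9, 10, 11], chevG2.IsPosRoot r := by decide
  rw [wordMat_cons, wordMat_cons, wordMat_cons, wordMat_cons, wordMat_cons, wordMat_cons,
    wordMat_nil, mul_one]
  rw [g2blk_mul _ _ (g2x_tri 7 (hp 7 (by simp)) A), g2blk_mul _ _ (g2x_tri 6 (hp 6 (by simp)) t),
    g2blk_mul _ _ (g2x_tri 8 (hp 8 (by simp)) c), g2blk_mul _ _ (g2x_tri 9 (hp 9 (by simp)) d),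
    g2blk_mul _ _ (g2x_tri 10 (hp 10 (by simp)) u)]
  ext i j
  simp only [Matrix.mul_apply, Fin.sum_univ_four,
    g2blk_x 7 (by decide) (by decide), g2blk_x 6 (by decide) (by decide),
    g2blk_x 8 (by decide) (by decide), g2blk_x 9 (by decide) (by decide),
    g2blk_x 10 (by decide) (by decide), g2blk_x 11 (by decide) (by decide)]
  fin_cases i <;> fin_cases j <;> simp [g2blkT, evalTerms] <;> ring

/-- the entry of the cube of a lower unitriangular `4 × 4` matrix in the corner -/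
theorem cube_corner {R : Type*} [CommRing R] (a b c d e f : R) :
    (!![1, 0, 0, 0; a, 1, 0, 0; b, c, 1, 0; d, e, f, 1] *
      (!![1, 0, 0, 0; a, 1, 0, 0; b, c, 1, 0; d, e, f, 1] *
        !![1, 0, 0, 0; a, 1, 0, 0; b, c, 1, 0; d, e, f, 1])) 3 0 =
      3 * d + 3 * (e * a) + 3 * (f * b) + f * c * a := by
  simp [Matrix.mul_apply, Fin.sum_univ_four]
  ring

end

end Cfsg.Agent.Lib.Helper18
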