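import Cfsg.Agent.Lib.Helper18.ReeTw3

set_option autoImplicit false

/-!
# The order of the Ree group from its two cells
-/

namespace Cfsg.Agent.Lib.Helper18

open Cfsg Cfsg.Lie Cfsg.Lie.ChevalleyDatum

section

variable {K : Type*} [Field K]

theorem charP_three_of_card [Fintype K] {n : ℕ} (hK : Fintype.card K = 3 ^ n) :
    CharP K 3 := by
  obtain ⟨p, hp⟩ := CharP.exists K
  have := hp
  obtain ⟨k, hpp, hk⟩ := FiniteField.card K p
  have h1 : p ∣ 3 ^ n := by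
    rw [← hK, hk]
    exact dvd_pow_self p k.ne_zero
  have h2 : p = 3 := (Nat.prime_dvd_prime_iff_eq hpp Nat.prime_three).mp (hpp.dvd_of_dvd_pow h1)
  rw [← h2]
  exact hp

theorem g2_UH_inj (u u' h h' : GL chevG2.Idx K) (hu : u ∈ chevG2.posUnipotent K)
    (hu' : u' ∈ chevG2.posUnipotent K) (hh : h ∈ chevG2.diagonalSubgroup K)
    (hh' : h' ∈ chevG2.diagonalSubgroup K) (e : u * h = u' * h') : u = u' ∧ h = h' := by
  have h1 : u'⁻¹ * u ∈ chevG2.posUnipotent K ⊓ chevG2.diagonalSubgroup K := by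
    refine Subgroup.mem_inf.mpr ⟨mul_mem (inv_mem hu') hu, ?_⟩
    have e1 : u'⁻¹ * u = h' * h⁻¹ := by
      rw [inv_mul_eq_iff_eq_mul, ← mul_assoc, ← e, mul_inv_cancel_right]
    rw [e1]
    exact mul_mem hh' (inv_mem hh)
  rw [(Cfsg.Agent.S1036.result chevG2 g2mem).2, Subgroup.mem_bot, inv_mul_eq_one] at h1
  subst h1
  exact ⟨rfl, mul_left_cancel e⟩

theorem g2n1_not_diag [CharP K 3] :
    ((g2n1 : ↥(chevG2.group K)) : GL chevG2.Idx K) ∉ chevG2.diagonalSubgroup K := by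
  intro h
  obtain ⟨π, hπ, hπs⟩ := g2n1_rootAct (K := K)
  have h1 := RootAct.unique hπ (rootAct_of_mem_diagonal chevG2 g2mem _ h)
  have h2 := hπs 11 (by decide)
  rw [h1] at h2
  exact absurd h2 (by decide)

theorem g2_cell_inj [CharP K 3] (b b' u u' : GL chevG2.Idx K) (hb : b ∈ chevG2.borelSubgroup K)
    (hb' : b' ∈ chevG2.borelSubgroup K) (hu : u ∈ chevG2.posUnipotent K)
    (hu' : u' ∈ chevG2.posUnipotent K)
    (e : b * ((g2n1 : ↥(chevG2.group K)) : GL chevG2.Idx K) * u =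
      b' * ((g2n1 : ↥(chevG2.group K)) : GL chevG2.Idx K) * u') : b = b' ∧ u = u' := by
  obtain ⟨π, hπ, hπs⟩ := g2n1_rootAct (K := K)
  have hU := g2_uMinus_top _ π hπ hπs
  have hu₁ : u ∈ uMinus chevG2 ((g2n1 : ↥(chevG2.group K)) : GL chevG2.Idx K) := by
    rw [hU]
    exact hu
  have hu₂ : u' ∈ uMinus chevG2 ((g2n1 : ↥(chevG2.group K)) : GL chevG2.Idx K) := by
    rw [hU]
    exact hu'
  exact ((Cfsg.Agent.S1100.result chevG2 g2mem).2 b b' _ _ u u' hb hb' g2n1_mem_monomial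
    g2n1_mem_monomial hu₁ hu₂ e).2 rfl

theorem g2_cell_disj [CharP K 3] (b b' u' : GL chevG2.Idx K) (hb : b ∈ chevG2.borelSubgroup K)
    (hb' : b' ∈ chevG2.borelSubgroup K) (hu' : u' ∈ chevG2.posUnipotent K) :
    b ≠ b' * ((g2n1 : ↥(chevG2.group K)) : GL chevG2.Idx K) * u' := by
  intro e
  obtain ⟨π, hπ, hπs⟩ := g2n1_rootAct (K := K)
  have hU := g2_uMinus_top _ π hπ hπs
  have e' : b * 1 * 1 = b' * ((g2n1 : ↥(chevG2.group K)) : GL chevG2.Idx K) * u' := by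
    rw [mul_one, mul_one]
    exact e
  have hu₂ : u' ∈ uMinus chevG2 ((g2n1 : ↥(chevG2.group K)) : GL chevG2.Idx K) := by
    rw [hU]
    exact hu'
  have h1 := ((Cfsg.Agent.S1100.result chevG2 g2mem).2 b b' 1 _ 1 u' hb hb' (one_mem _)
    g2n1_mem_monomial (one_mem _) hu₂ e').1
  rw [inv_one, one_mul] at h1
  exact g2n1_not_diag h1

/-- the order of the Ree group, from the orders of `U¹` and `H¹` -/
theorem ReeBot.card_tw [CharP K 3] [Fintype K] {m : ℕ} {T : ReeTw K m} (B : ReeBot T)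
    (hK : Fintype.card K = 3 ^ (2 * m + 1)) {a b : ℕ}
    (hU : Nat.card ↥(chevG2.posUnipotent K ⊓ twistedG2 K (3 ^ m)) = a)
    (hH : Nat.card ↥(chevG2.diagonalSubgroup K ⊓ twistedG2 K (3 ^ m)) = b) :
    Nat.card ↥(twistedG2 K (3 ^ m)) = a * b * (a + 1) := by
  classical
  have hUB : chevG2.posUnipotent K ≤ chevG2.borelSubgroup K := le_sup_left
  have hHB : chevG2.diagonalSubgroup K ≤ chevG2.borelSubgroup K := le_sup_right
  have hn := g2n1_mem_tw (K := K) (3 ^ m) (pow_ne_zero _ (by norm_num))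
  let f : (↥(chevG2.posUnipotent K ⊓ twistedG2 K (3 ^ m)) ×
        ↥(chevG2.diagonalSubgroup K ⊓ twistedG2 K (3 ^ m))) ⊕
      (↥(chevG2.posUnipotent K ⊓ twistedG2 K (3 ^ m)) ×
        ↥(chevG2.diagonalSubgroup K ⊓ twistedG2 K (3 ^ m)) ×
        ↥(chevG2.posUnipotent K ⊓ twistedG2 K (3 ^ m))) → ↥(twistedG2 K (3 ^ m)) :=
    fun x => match x with
      | Sum.inl p => ⟨(p.1 : GL chevG2.Idx K) * (p.2 : GL chevG2.Idx K),
          mul_mem (Subgroup.mem_inf.mp p.1.2).2 (Subgroup.mem_inf.mp p.2.2).2⟩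
      | Sum.inr p => ⟨(p.1 : GL chevG2.Idx K) * (p.2.1 : GL chevG2.Idx K) *
            ((g2n1 : ↥(chevG2.group K)) : GL chevG2.Idx K) * (p.2.2 : GL chevG2.Idx K),
          mul_mem (mul_mem (mul_mem (Subgroup.mem_inf.mp p.1.2).2 (Subgroup.mem_inf.mp p.2.1.2).2)
            hn) (Subgroup.mem_inf.mp p.2.2.2).2⟩
  have hf : Function.Bijective f := by
    constructor
    · rintro (⟨u, h⟩ | ⟨u', h, u⟩) (⟨v, k⟩ | ⟨v', k, v⟩) e
      · have e1 : (u : GL chevG2.Idx K) * (h : GL chevG2.Idx K) =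
            (v : GL chevG2.Idx K) * (k : GL chevG2.Idx K) := congrArg Subtype.val e
        obtain ⟨e2, e3⟩ := g2_UH_inj _ _ _ _ (Subgroup.mem_inf.mp u.2).1
          (Subgroup.mem_inf.mp v.2).1 (Subgroup.mem_inf.mp h.2).1 (Subgroup.mem_inf.mp k.2).1 e1
        rw [Subtype.ext e2, Subtype.ext e3]
      · exfalso
        have e1 : (u : GL chevG2.Idx K) * (h : GL chevG2.Idx K) =
            (v' : GL chevG2.Idx K) * (k : GL chevG2.Idx K) *
              ((g2n1 : ↥(chevG2.group K)) : GL chevG2.Idx K) * (v : GL chevG2.Idx K) :=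
          congrArg Subtype.val e
        exact g2_cell_disj _ _ _
          (mul_mem (hUB (Subgroup.mem_inf.mp u.2).1) (hHB (Subgroup.mem_inf.mp h.2).1))
          (mul_mem (hUB (Subgroup.mem_inf.mp v'.2).1) (hHB (Subgroup.mem_inf.mp k.2).1))
          (Subgroup.mem_inf.mp v.2).1 e1
      · exfalso
        have e1 : (u' : GL chevG2.Idx K) * (h : GL chevG2.Idx K) *
              ((g2n1 : ↥(chevG2.group K)) : GL chevG2.Idx K) * (u : GL chevG2.Idx K) =
            (v : GL chevG2.Idx K) * (k : GL chevG2.Idx K) := congrArg Subtype.val e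
        exact g2_cell_disj _ _ _
          (mul_mem (hUB (Subgroup.mem_inf.mp v.2).1) (hHB (Subgroup.mem_inf.mp k.2).1))
          (mul_mem (hUB (Subgroup.mem_inf.mp u'.2).1) (hHB (Subgroup.mem_inf.mp h.2).1))
          (Subgroup.mem_inf.mp u.2).1 e1.symm
      · have e1 : (u' : GL chevG2.Idx K) * (h : GL chevG2.Idx K) *
              ((g2n1 : ↥(chevG2.group K)) : GL chevG2.Idx K) * (u : GL chevG2.Idx K) =
            (v' : GL chevG2.Idx K) * (k : GL chevG2.Idx K) *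
              ((g2n1 : ↥(chevG2.group K)) : GL chevG2.Idx K) * (v : GL chevG2.Idx K) :=
          congrArg Subtype.val e
        obtain ⟨e2, e3⟩ := g2_cell_inj _ _ _ _
          (mul_mem (hUB (Subgroup.mem_inf.mp u'.2).1) (hHB (Subgroup.mem_inf.mp h.2).1))
          (mul_mem (hUB (Subgroup.mem_inf.mp v'.2).1) (hHB (Subgroup.mem_inf.mp k.2).1))
          (Subgroup.mem_inf.mp u.2).1 (Subgroup.mem_inf.mp v.2).1 e1
        obtain ⟨e4, e5⟩ := g2_UH_inj _ _ _ _ (Subgroup.mem_inf.mp u'.2).1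
          (Subgroup.mem_inf.mp v'.2).1 (Subgroup.mem_inf.mp h.2).1 (Subgroup.mem_inf.mp k.2).1 e2
        rw [Subtype.ext e3, Subtype.ext e4, Subtype.ext e5]
    · rintro ⟨g, hg⟩
      rcases B.cells hK g hg with ⟨u', hu', h, hh, e⟩ | ⟨u', hu', h, hh, u, hu, e⟩
      · exact ⟨Sum.inl (⟨u', hu'⟩, ⟨h, hh⟩), Subtype.ext e.symm⟩
      · exact ⟨Sum.inr (⟨u', hu'⟩, ⟨h, hh⟩, ⟨u, hu⟩), Subtype.ext e.symm⟩
  rw [← Nat.card_congr (Equiv.ofBijective f hf), Nat.card_sum, Nat.card_prod, Nat.card_prod,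
    Nat.card_prod, hU, hH]
  ring

end

end Cfsg.Agent.Lib.Helper18
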