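import Cfsg.Agent.Lib.Helper18.ReeBN
import Cfsg.Agent.Lib.Helper18.ChevTw
import Cfsg.Agent.S1032

set_option autoImplicit false

/-!
# Tools for the perfectness of the Ree groups

The action of the torus on words in positive root elements, the parameters of an ordered product,
and the conjugation by `n₁⁻¹` of `V` into `U`.
-/

namespace Cfsg.Agent.Lib.Helper18

open Cfsg Cfsg.Lie Cfsg.Lie.ChevalleyDatum

/-- the grading by the height -/
def g2wt : ℕ → ℤ := fun i => if i = 0 then 3 else 5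

theorem g2wt_lev (s : ℕ) : rootLev chevG2 g2wt s = 3 * chevG2.cartan 0 s + 5 * chevG2.cartan 1 s := by
  unfold rootLev
  have h : chevG2.rank = 2 := rfl
  rw [h, Finset.sum_range_succ, Finset.sum_range_one]
  rfl

theorem g2O_chk : [7, 6, 8, 9, 10, 11].Nodup ∧
    (∀ r ∈ [7, 6, 8, 9, 10, 11], r < 12 ∧ chevG2.IsPosRoot r ∧
      0 < 3 * chevG2.cartan 0 r + 5 * chevG2.cartan 1 r ∧
      3 * chevG2.cartan 0 6 + 5 * chevG2.cartan 1 6 ≤ 3 * chevG2.cartan 0 r + 5 * chevG2.cartan 1 r ∧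
      (r ≠ 7 → r ≠ 6 → 3 * chevG2.cartan 0 8 + 5 * chevG2.cartan 1 8 ≤
        3 * chevG2.cartan 0 r + 5 * chevG2.cartan 1 r)) ∧
    [7, 6, 8, 9, 10, 11].Pairwise (fun a b => 3 * chevG2.cartan 0 a + 5 * chevG2.cartan 1 a ≤
      3 * chevG2.cartan 0 b + 5 * chevG2.cartan 1 b) := by decide

theorem g2_neg_pos_chk : ∀ r < 12, chevG2.IsNegRoot r → chevG2.IsPosRoot (11 - r) := by decide

theorem g2_comm_chk : ∀ x ∈ [((8 : ℕ), (10 : ℕ)), (9, 10), (9, 11)],
    x.1 < chevG2.nroots ∧ x.2 < chevG2.nroots ∧ x.2 ≠ x.1 ∧ x.2 ≠ chevG2.neg x.1 ∧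
      chevG2.commTerms x.1 x.2 = [] := by decide

section

variable {K : Type*} [Field K]

theorem wordU_inv (D : ChevalleyDatum)
    (hD : D ∈ [chevG2, chevB2, chevD4, chevF4, chevE6, chevE7, chevE8]) (w : List (ℕ × K)) :
    (wordU D hD w)⁻¹ = wordU D hD (w.reverse.map fun p => (p.1, -p.2)) := by
  induction w with
  | nil => simp [wordU]
  | cons p w ih =>
    have h1 : wordU D hD (p :: w) = xU D hD p.1 p.2 * wordU D hD w := by simp [wordU]
    rw [h1, mul_inv_rev, ih, xU_inv, List.reverse_cons, List.map_append, wordU_append]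
    simp [wordU]

/-- the character of `h_a(A) h_b(B)` on the root `r` -/
def g2chi (A B : K) (r : ℕ) : K := A ^ chevG2.cartan 0 r * B ^ chevG2.cartan 1 r

/-- the torus element `h_a(A) h_b(B)` -/
def g2hh (A B : K) : GL chevG2.Idx K := hU chevG2 g2mem 7 A * hU chevG2 g2mem 6 B

theorem g2hh_mem (A B : K) (hA : A ≠ 0) (hB : B ≠ 0) : g2hh A B ∈ chevG2.diagonalSubgroup K :=
  mul_mem (hU_mem chevG2 g2mem 7 (by decide) A hA) (hU_mem chevG2 g2mem 6 (by decide) B hB)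

theorem g2hh_mul_xU (A B : K) (hA : A ≠ 0) (hB : B ≠ 0) (r : ℕ) (hr : r < 12) (t : K) :
    g2hh A B * xU chevG2 g2mem r t = xU chevG2 g2mem r (g2chi A B r * t) * g2hh A B := by
  have h7 : chevG2.simple 0 = 7 := by decide
  have h6 : chevG2.simple 1 = 6 := by decide
  have e1 : hU chevG2 g2mem 6 B * xU chevG2 g2mem r t =
      xU chevG2 g2mem r (B ^ chevG2.cartan 1 r * t) * hU chevG2 g2mem 6 B := by
    apply Units.ext
    rw [Units.val_mul, Units.val_mul, coe_hU, coe_xU, coe_xU, ← h6]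
    exact Cfsg.Agent.S1032.result chevG2 g2mem 1 r (by decide) hr B hB t
  have e2 : ∀ t' : K, hU chevG2 g2mem 7 A * xU chevG2 g2mem r t' =
      xU chevG2 g2mem r (A ^ chevG2.cartan 0 r * t') * hU chevG2 g2mem 7 A := by
    intro t'
    apply Units.ext
    rw [Units.val_mul, Units.val_mul, coe_hU, coe_xU, coe_xU, ← h7]
    exact Cfsg.Agent.S1032.result chevG2 g2mem 0 r (by decide) hr A hA t'
  unfold g2hh g2chi
  rw [mul_assoc, e1, ← mul_assoc, e2, mul_assoc, mul_assoc]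

theorem g2hh_mul_wordU (A B : K) (hA : A ≠ 0) (hB : B ≠ 0) (w : List (ℕ × K))
    (hw : ∀ p ∈ w, p.1 < 12) :
    g2hh A B * wordU chevG2 g2mem w =
      wordU chevG2 g2mem (w.map fun p => (p.1, g2chi A B p.1 * p.2)) * g2hh A B := by
  induction w with
  | nil => simp [wordU]
  | cons p w ih =>
    have h1 : wordU chevG2 g2mem (p :: w) = xU chevG2 g2mem p.1 p.2 * wordU chevG2 g2mem w := by
      simp [wordU]
    have h2 : wordU chevG2 g2mem ((p :: w).map fun p => (p.1, g2chi A B p.1 * p.2)) =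
        xU chevG2 g2mem p.1 (g2chi A B p.1 * p.2) *
          wordU chevG2 g2mem (w.map fun p => (p.1, g2chi A B p.1 * p.2)) := by
      simp [wordU]
    rw [h1, h2, ← mul_assoc, g2hh_mul_xU A B hA hB p.1 (hw p List.mem_cons_self), mul_assoc,
      ih (fun q hq => hw q (List.mem_cons_of_mem _ hq)), mul_assoc]

/-- a word along the positive roots in the order `a, b, a+b, 2a+b, 3a+b, 3a+2b` -/
def g2w6 (c : ℕ → K) : List (ℕ × K) := [7, 6, 8, 9, 10, 11].map fun r => (r, c r)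

theorem g2w6_inj [CharP K 3] (c d : ℕ → K)
    (h : wordU chevG2 g2mem (g2w6 c) = wordU chevG2 g2mem (g2w6 d)) :
    ∀ r ∈ [7, 6, 8, 9, 10, 11], c r = d r := by
  obtain ⟨h1, h2, h3⟩ := g2O_chk
  refine wordU_param_eq chevG2 g2mem g2wt [7, 6, 8, 9, 10, 11] h1 (fun r hr => (h2 r hr).1)
    (fun r hr => by rw [g2wt_lev]; exact (h2 r hr).2.2.1) ?_ ?_ c d h
  · refine List.Pairwise.imp ?_ h3
    intro a b hab
    rw [g2wt_lev, g2wt_lev]
    exact hab
  · intro r hr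
    obtain ⟨i, hi, hA⟩ := (g2ρ_chk r (h2 r hr).1).2.2.2.2.2.2.2.2.2
    refine ⟨i, hi, ?_⟩
    rw [Ne, CharP.intCast_eq_zero_iff K 3]
    rcases hA with h | h | h | h <;> rw [h] <;> omega

/-- the entry at (`e_b`, `h_b`) of a product of positive root elements -/
theorem g2_entry6 (l : List (ℕ × K)) (hl : ∀ p ∈ l, p.1 ∈ [7, 6, 8, 9, 10, 11]) :
    chevG2.wordMat K l (Sum.inr ⟨6, by decide⟩) (Sum.inl ⟨1, by decide⟩) =
      -((chevG2.cartan 1 6 : ℤ) : K) * ((l.filter (fun p => p.1 = 6)).map Prod.snd).sum := by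
  obtain ⟨-, h2, -⟩ := g2O_chk
  refine wordMat_entry chevG2 g2mem g2wt ⟨6, by decide⟩ ?_ ⟨1, by decide⟩ l ?_
  · rw [g2wt_lev]
    exact (h2 6 (by decide)).2.2.1
  · intro p hp
    refine ⟨(h2 _ (hl p hp)).1, ?_⟩
    rw [g2wt_lev, g2wt_lev]
    exact (h2 _ (hl p hp)).2.2.2.1

/-- conjugation by `n₁⁻¹` maps `V` into `U` -/
theorem g2n1_inv_conj_V [CharP K 3] (v : GL chevG2.Idx K) (hv : v ∈ chevG2.negUnipotent K) :
    ((g2n1 : ↥(chevG2.group K)) : GL chevG2.Idx K)⁻¹ * v *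
      ((g2n1 : ↥(chevG2.group K)) : GL chevG2.Idx K) ∈ chevG2.posUnipotent K := by
  obtain ⟨π, hπ, hπs⟩ := g2n1_rootAct (K := K)
  have hinv := hπ.inv
  have hπi : ∀ s < 12, π⁻¹ s = 11 - s := by
    intro s hs
    rw [Equiv.Perm.inv_eq_iff_eq, hπs (11 - s) (by omega)]
    omega
  have hle : chevG2.negUnipotent K ≤ (chevG2.posUnipotent K).comap
      (MulAut.conj ((g2n1 : ↥(chevG2.group K)) : GL chevG2.Idx K)⁻¹).toMonoidHom := by
    refine (Subgroup.closure_le _).mpr ?_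
    rintro x ⟨r, t, hr, hx⟩
    show ((g2n1 : ↥(chevG2.group K)) : GL chevG2.Idx K)⁻¹ * x *
      (((g2n1 : ↥(chevG2.group K)) : GL chevG2.Idx K)⁻¹)⁻¹ ∈ chevG2.posUnipotent K
    obtain ⟨c, -, e⟩ := hinv.conj r hr.1
    rw [eq_xU chevG2 g2mem r t x hx, e t, mul_inv_cancel_right, hπi r hr.1]
    exact Subgroup.subset_closure ⟨_, _, g2_neg_pos_chk r hr.1 hr, coe_xU chevG2 g2mem _ _⟩
  have h1 := hle hv
  rw [Subgroup.mem_comap] at h1
  simpa using h1

/-- the derived subgroup of a subgroup is normalised by it -/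
theorem commutator_conj_mem {G : Type*} [Group G] (H : Subgroup G) (g : G) (hg : g ∈ H) (d : G)
    (hd : d ∈ ⁅H, H⁆) : g * d * g⁻¹ ∈ ⁅H, H⁆ := by
  have h1 : H.map (MulAut.conj g).toMonoidHom = H := by
    ext x
    constructor
    · rintro ⟨y, hy, rfl⟩
      exact mul_mem (mul_mem hg hy) (inv_mem hg)
    · intro hx
      refine ⟨g⁻¹ * x * g, mul_mem (mul_mem (inv_mem hg) hx) hg, ?_⟩
      show g * (g⁻¹ * x * g) * g⁻¹ = x
      group
  have h2 := Subgroup.map_commutator H H (MulAut.conj g).toMonoidHom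
  rw [h1] at h2
  rw [← h2]
  exact ⟨d, hd, rfl⟩

theorem g2_diag_comm (a b : GL chevG2.Idx K) (ha : a ∈ chevG2.diagonalSubgroup K)
    (hb : b ∈ chevG2.diagonalSubgroup K) : a * b = b * a := by
  rw [diagonalSubgroup_eq_range chevG2 g2mem] at ha hb
  obtain ⟨c, rfl⟩ := MonoidHom.mem_range.mp ha
  obtain ⟨c', rfl⟩ := MonoidHom.mem_range.mp hb
  rw [← map_mul, ← map_mul, mul_comm]

end

end Cfsg.Agent.Lib.Helper18
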