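import Cfsg.Agent.Lib.Helper18.ReePerf1

set_option autoImplicit false

/-!
# The Ree groups `²G₂(3^(2m+1))`, `m ≥ 1`, are perfect

`U¹ = {α(t, u, v)}` is generated by commutators with a torus element `h` whose characters on the
roots `b`, `3a+b`, `3a+2b` are not `1`: first the elements `α(0, 0, v)`, then `α(0, u, 0)`, then,
using the additivity of the matrix entry at (`e_b`, `h_b`), all of `U¹`; and `V¹` is conjugate to
`U¹` by `n₁`.
-/

namespace Cfsg.Agent.Lib.Helper18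

open Cfsg Cfsg.Lie Cfsg.Lie.ChevalleyDatum

open scoped commutatorElement

theorem g2_cartan_vals : chevG2.cartan 0 6 = -3 ∧ chevG2.cartan 1 6 = 2 ∧ chevG2.cartan 0 10 = 3 ∧
    chevG2.cartan 1 10 = -1 ∧ chevG2.cartan 0 11 = 0 ∧ chevG2.cartan 1 11 = 1 := by decide

theorem g2_neg_word_chk : ∀ r ∈ [7, 6, 8, 9, 10, 11],
    chevG2.IsNegRoot (chevG2.negIdx.getD r 0) := by decide

section

variable {K : Type*} [Field K]

/-- the parameters of `reeWordU` -/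
def reeP (θ : ℕ) (t u v : K) (r : ℕ) : K :=
  if r = 7 then t ^ θ else if r = 6 then t else if r = 8 then t ^ (θ + 1) + u ^ θ
  else if r = 9 then t ^ (2 * θ + 1) + v ^ θ else if r = 10 then u else v

theorem reeWordU_eq (θ : ℕ) (t u v : K) : reeWordU θ t u v = g2w6 (reeP θ t u v) := rfl

/-- `α(t, u, v)` -/
def reeA (θ : ℕ) (t u v : K) : GL chevG2.Idx K := wordU chevG2 g2mem (reeWordU θ t u v)

theorem reeA_mem_tw (θ : ℕ) (t u v : K) : reeA θ t u v ∈ twistedG2 K θ :=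
  g2_word_mem_tw θ _ ⟨t, u, v, Or.inl rfl⟩

theorem g2w6_mem_pos (c : ℕ → K) : wordU chevG2 g2mem (g2w6 c) ∈ chevG2.posUnipotent K := by
  unfold wordU
  apply Subgroup.list_prod_mem
  intro x hx
  obtain ⟨p, hp, rfl⟩ := List.mem_map.mp hx
  obtain ⟨r, hr, rfl⟩ := List.mem_map.mp hp
  exact Subgroup.subset_closure ⟨r, c r, (g2O_chk.2.1 r hr).2.1, coe_xU chevG2 g2mem _ _⟩

theorem reeA_mem_pos (θ : ℕ) (t u v : K) : reeA θ t u v ∈ chevG2.posUnipotent K := by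
  unfold reeA
  rw [reeWordU_eq]
  exact g2w6_mem_pos _

theorem reeA_mem (θ : ℕ) (t u v : K) :
    reeA θ t u v ∈ chevG2.posUnipotent K ⊓ twistedG2 K θ :=
  Subgroup.mem_inf.mpr ⟨reeA_mem_pos θ t u v, reeA_mem_tw θ t u v⟩

/-- the entry at (`e_b`, `h_b`) -/
def g2tco (g : GL chevG2.Idx K) : K :=
  (g : Matrix chevG2.Idx chevG2.Idx K) (Sum.inr ⟨6, by decide⟩) (Sum.inl ⟨1, by decide⟩)

theorem g2tco_mul_inv (θ : ℕ) (t u v t' u' v' : K) :
    g2tco (reeA θ t u v * (reeA θ t' u' v')⁻¹) = -((2 : ℤ) : K) * (t - t') := by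
  unfold reeA g2tco
  rw [wordU_inv, ← wordU_append, coe_wordU, g2_entry6, g2_cartan_vals.2.1]
  · congr 1
    simp [reeWordU, g2a, g2b, g2ab, g2aab, g2aaab, g2aaabb]
    ring
  · intro p hp
    simp only [reeWordU, g2a, g2b, g2ab, g2aab, g2aaab, g2aaabb, List.reverse_cons,
      List.reverse_nil, List.nil_append, List.cons_append, List.map_cons, List.map_nil,
      List.mem_cons, List.not_mem_nil, or_false] at hp
    rcases hp with rfl | rfl | rfl | rfl | rfl | rfl | rfl | rfl | rfl | rfl | rfl | rfl <;> simp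

theorem g2tco_reeA (θ : ℕ) (t u v : K) : g2tco (reeA θ t u v) = -((2 : ℤ) : K) * t := by
  unfold reeA g2tco
  rw [coe_wordU, g2_entry6, g2_cartan_vals.2.1]
  · congr 1
    simp [reeWordU, g2a, g2b, g2ab, g2aab, g2aaab, g2aaabb]
  · intro p hp
    simp only [reeWordU, g2a, g2b, g2ab, g2aab, g2aaab, g2aaabb, List.mem_cons,
      List.not_mem_nil, or_false] at hp
    rcases hp with rfl | rfl | rfl | rfl | rfl | rfl <;> simp

theorem two_ne_zero_of_char_three [CharP K 3] : -((2 : ℤ) : K) ≠ 0 := by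
  rw [neg_ne_zero, Ne, CharP.intCast_eq_zero_iff K 3]
  omega

/-- the forms of `α(0, 0, v)`, `α(0, u, 0)` and `α(0, u, v)` -/
theorem reeA_z (θ : ℕ) (hθ : θ ≠ 0) (v : K) :
    reeA θ 0 0 v = xU chevG2 g2mem 9 (v ^ θ) * xU chevG2 g2mem 11 v := by
  unfold reeA
  simp [wordU, reeWordU, g2a, g2b, g2ab, g2aab, g2aaab, g2aaabb, zero_pow hθ, xU_zero]

theorem reeA_y (θ : ℕ) (hθ : θ ≠ 0) (u : K) :
    reeA θ 0 u 0 = xU chevG2 g2mem 8 (u ^ θ) * xU chevG2 g2mem 10 u := by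
  unfold reeA
  simp [wordU, reeWordU, g2a, g2b, g2ab, g2aab, g2aaab, g2aaabb, zero_pow hθ, xU_zero]

theorem g2_comm_pair (x : ℕ × ℕ) (hx : x ∈ [((8 : ℕ), (10 : ℕ)), (9, 10), (9, 11)]) (a b : K) :
    xU chevG2 g2mem x.2 b * xU chevG2 g2mem x.1 a =
      xU chevG2 g2mem x.1 a * xU chevG2 g2mem x.2 b := by
  obtain ⟨h1, h2, h3, h4, h5⟩ := g2_comm_chk x hx
  exact (xU_commute_of_commTerms_nil chevG2 g2mem x.1 x.2 h1 h2 h3 h4 h5 a b).eq

theorem reeA_yz (θ : ℕ) (hθ : θ ≠ 0) (u v : K) :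
    reeA θ 0 u v = reeA θ 0 u 0 * reeA θ 0 0 v := by
  rw [reeA_y θ hθ, reeA_z θ hθ]
  have e : reeA θ 0 u v = xU chevG2 g2mem 8 (u ^ θ) * (xU chevG2 g2mem 9 (v ^ θ) *
      (xU chevG2 g2mem 10 u * xU chevG2 g2mem 11 v)) := by
    unfold reeA
    simp [wordU, reeWordU, g2a, g2b, g2ab, g2aab, g2aaab, g2aaabb, zero_pow hθ, xU_zero]
  rw [e, ← mul_assoc (xU chevG2 g2mem 9 (v ^ θ)), ← g2_comm_pair (9, 10) (by simp)]
  group

theorem reeA_z_sub [CharP K 3] (m : ℕ) (a b : K) :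
    reeA (3 ^ m) 0 0 a * (reeA (3 ^ m) 0 0 b)⁻¹ = reeA (3 ^ m) 0 0 (a - b) := by
  have : Fact (Nat.Prime 3) := ⟨Nat.prime_three⟩
  have hθ : (3 : ℕ) ^ m ≠ 0 := pow_ne_zero _ (by norm_num)
  rw [reeA_z _ hθ, reeA_z _ hθ, reeA_z _ hθ, mul_inv_rev, xU_inv, xU_inv, sub_pow_char_pow]
  have e1 := g2_comm_pair (K := K) (9, 11) (by simp) (-(b ^ 3 ^ m)) (a + -b)
  calc xU chevG2 g2mem 9 (a ^ 3 ^ m) * xU chevG2 g2mem 11 a *
        (xU chevG2 g2mem 11 (-b) * xU chevG2 g2mem 9 (-(b ^ 3 ^ m)))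
      = xU chevG2 g2mem 9 (a ^ 3 ^ m) * (xU chevG2 g2mem 11 a * xU chevG2 g2mem 11 (-b)) *
          xU chevG2 g2mem 9 (-(b ^ 3 ^ m)) := by group
    _ = xU chevG2 g2mem 9 (a ^ 3 ^ m) * (xU chevG2 g2mem 11 (a + -b) *
          xU chevG2 g2mem 9 (-(b ^ 3 ^ m))) := by rw [xU_mul, mul_assoc]
    _ = xU chevG2 g2mem 9 (a ^ 3 ^ m) * (xU chevG2 g2mem 9 (-(b ^ 3 ^ m)) *
          xU chevG2 g2mem 11 (a + -b)) := by rw [e1]
    _ = _ := by rw [← mul_assoc, xU_mul, sub_eq_add_neg, sub_eq_add_neg]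

theorem reeA_y_sub [CharP K 3] (m : ℕ) (a b : K) :
    reeA (3 ^ m) 0 a 0 * (reeA (3 ^ m) 0 b 0)⁻¹ = reeA (3 ^ m) 0 (a - b) 0 := by
  have : Fact (Nat.Prime 3) := ⟨Nat.prime_three⟩
  have hθ : (3 : ℕ) ^ m ≠ 0 := pow_ne_zero _ (by norm_num)
  rw [reeA_y _ hθ, reeA_y _ hθ, reeA_y _ hθ, mul_inv_rev, xU_inv, xU_inv, sub_pow_char_pow]
  have e1 := g2_comm_pair (K := K) (8, 10) (by simp) (-(b ^ 3 ^ m)) (a + -b)
  calc xU chevG2 g2mem 8 (a ^ 3 ^ m) * xU chevG2 g2mem 10 a *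
        (xU chevG2 g2mem 10 (-b) * xU chevG2 g2mem 8 (-(b ^ 3 ^ m)))
      = xU chevG2 g2mem 8 (a ^ 3 ^ m) * (xU chevG2 g2mem 10 a * xU chevG2 g2mem 10 (-b)) *
          xU chevG2 g2mem 8 (-(b ^ 3 ^ m)) := by group
    _ = xU chevG2 g2mem 8 (a ^ 3 ^ m) * (xU chevG2 g2mem 10 (a + -b) *
          xU chevG2 g2mem 8 (-(b ^ 3 ^ m))) := by rw [xU_mul, mul_assoc]
    _ = xU chevG2 g2mem 8 (a ^ 3 ^ m) * (xU chevG2 g2mem 8 (-(b ^ 3 ^ m)) *
          xU chevG2 g2mem 10 (a + -b)) := by rw [e1]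
    _ = _ := by rw [← mul_assoc, xU_mul, sub_eq_add_neg, sub_eq_add_neg]

/-- the action of a torus element of the Ree group on `U¹` -/
theorem reeA_conj [CharP K 3] (θ : ℕ) (A B : K) (hA : A ≠ 0) (hB : B ≠ 0)
    (hh : g2hh A B ∈ twistedG2 K θ)
    (hUiff : ∀ g : GL chevG2.Idx K, g ∈ chevG2.posUnipotent K ⊓ twistedG2 K θ →
      ∃ t u v : K, g = reeA θ t u v) (t u v : K) :
    g2hh A B * reeA θ t u v * (g2hh A B)⁻¹ =
      reeA θ (g2chi A B 6 * t) (g2chi A B 10 * u) (g2chi A B 11 * v) := by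
  have hHU := (Cfsg.Agent.S1036.result (F := K) chevG2 g2mem).1
  have h1 : g2hh A B * reeA θ t u v * (g2hh A B)⁻¹ ∈
      chevG2.posUnipotent K ⊓ twistedG2 K θ :=
    Subgroup.mem_inf.mpr ⟨(Subgroup.mem_normalizer_iff.mp (hHU (g2hh_mem A B hA hB)) _).mp
      (reeA_mem_pos θ t u v), mul_mem (mul_mem hh (reeA_mem_tw θ t u v)) (inv_mem hh)⟩
  obtain ⟨t', u', v', e⟩ := hUiff _ h1
  have h2 : g2hh A B * reeA θ t u v * (g2hh A B)⁻¹ =
      wordU chevG2 g2mem (g2w6 fun r => g2chi A B r * reeP θ t u v r) := by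
    unfold reeA
    rw [g2hh_mul_wordU A B hA hB _ (fun p hp => by
      rw [reeWordU_eq] at hp
      obtain ⟨r, hr, rfl⟩ := List.mem_map.mp hp
      exact (g2O_chk.2.1 r hr).1), mul_inv_cancel_right, reeWordU_eq]
    rfl
  have h3 : wordU chevG2 g2mem (g2w6 fun r => g2chi A B r * reeP θ t u v r) =
      wordU chevG2 g2mem (g2w6 (reeP θ t' u' v')) := by
    rw [← h2, e]
    rfl
  have h4 := g2w6_inj _ _ h3
  have e6 : g2chi A B 6 * t = t' := h4 6 (by simp)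
  have e10 : g2chi A B 10 * u = u' := h4 10 (by simp)
  have e11 : g2chi A B 11 * v = v' := h4 11 (by simp)
  rw [e, e6, e10, e11]

/-- `U¹` lies in the derived subgroup, given a suitable torus element -/
theorem reeA_mem_commutator [CharP K 3] (m : ℕ) (A B : K) (hA : A ≠ 0) (hB : B ≠ 0)
    (hh : g2hh A B ∈ twistedG2 K (3 ^ m))
    (hUiff : ∀ g : GL chevG2.Idx K, g ∈ chevG2.posUnipotent K ⊓ twistedG2 K (3 ^ m) →
      ∃ t u v : K, g = reeA (3 ^ m) t u v)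
    (h6 : g2chi A B 6 ≠ 1) (h10 : g2chi A B 10 ≠ 1) (h11 : g2chi A B 11 ≠ 1) (t u v : K) :
    reeA (3 ^ m) t u v ∈ ⁅twistedG2 K (3 ^ m), twistedG2 K (3 ^ m)⁆ := by
  have hθ : (3 : ℕ) ^ m ≠ 0 := pow_ne_zero _ (by norm_num)
  have hconj := reeA_conj (3 ^ m) A B hA hB hh hUiff
  have hcomm : ∀ t u v : K, reeA (3 ^ m) (g2chi A B 6 * t) (g2chi A B 10 * u)
      (g2chi A B 11 * v) * (reeA (3 ^ m) t u v)⁻¹ ∈
      ⁅twistedG2 K (3 ^ m), twistedG2 K (3 ^ m)⁆ := by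
    intro t u v
    have h1 := Subgroup.commutator_mem_commutator hh (reeA_mem_tw (3 ^ m) t u v)
    rw [commutatorElement_def, hconj] at h1
    exact h1
  -- the elements `α(0, 0, v)`
  have hz : ∀ v : K, reeA (3 ^ m) 0 0 v ∈ ⁅twistedG2 K (3 ^ m), twistedG2 K (3 ^ m)⁆ := by
    intro v
    have h1 := hcomm 0 0 (v / (g2chi A B 11 - 1))
    rw [mul_zero, mul_zero, reeA_z_sub] at h1
    have e : g2chi A B 11 * (v / (g2chi A B 11 - 1)) - v / (g2chi A B 11 - 1) = v := by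
      field_simp [sub_ne_zero.mpr h11]
    rwa [e] at h1
  -- the elements `α(0, u, 0)`
  have hy : ∀ u : K, reeA (3 ^ m) 0 u 0 ∈ ⁅twistedG2 K (3 ^ m), twistedG2 K (3 ^ m)⁆ := by
    intro u
    have h1 := hcomm 0 (u / (g2chi A B 10 - 1)) 0
    rw [mul_zero, mul_zero, reeA_y_sub] at h1
    have e : g2chi A B 10 * (u / (g2chi A B 10 - 1)) - u / (g2chi A B 10 - 1) = u := by
      field_simp [sub_ne_zero.mpr h10]
    rwa [e] at h1
  have hyz : ∀ u v : K, reeA (3 ^ m) 0 u v ∈ ⁅twistedG2 K (3 ^ m), twistedG2 K (3 ^ m)⁆ := by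
    intro u v
    rw [reeA_yz _ hθ]
    exact mul_mem (hy u) (hz v)
  -- the general element
  have h1 := hcomm (t / (g2chi A B 6 - 1)) 0 0
  rw [mul_zero, mul_zero] at h1
  obtain ⟨t₁, u₁, v₁, e₁⟩ := hUiff _ (mul_mem (reeA_mem _ _ _ _) (inv_mem (reeA_mem _ _ _ _)) :
    reeA (3 ^ m) (g2chi A B 6 * (t / (g2chi A B 6 - 1))) 0 0 *
      (reeA (3 ^ m) (t / (g2chi A B 6 - 1)) 0 0)⁻¹ ∈
      chevG2.posUnipotent K ⊓ twistedG2 K (3 ^ m))
  have ht₁ : t₁ = t := by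
    have h2 := congrArg g2tco e₁
    rw [g2tco_mul_inv, g2tco_reeA] at h2
    have h3 := mul_left_cancel₀ two_ne_zero_of_char_three h2
    rw [← h3]
    field_simp [sub_ne_zero.mpr h6]
  rw [e₁, ht₁] at h1
  obtain ⟨t₂, u₂, v₂, e₂⟩ := hUiff _ (mul_mem (reeA_mem _ _ _ _) (inv_mem (reeA_mem _ _ _ _)) :
    reeA (3 ^ m) t u v * (reeA (3 ^ m) t u₁ v₁)⁻¹ ∈ chevG2.posUnipotent K ⊓ twistedG2 K (3 ^ m))
  have ht₂ : t₂ = 0 := by
    have h2 := congrArg g2tco e₂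
    rw [g2tco_mul_inv, g2tco_reeA, sub_self] at h2
    have h3 := mul_left_cancel₀ two_ne_zero_of_char_three h2
    exact h3.symm
  have e₃ : reeA (3 ^ m) t u v = reeA (3 ^ m) 0 u₂ v₂ * reeA (3 ^ m) t u₁ v₁ := by
    rw [← ht₂, ← e₂, inv_mul_cancel_right]
  rw [e₃]
  exact mul_mem (hyz u₂ v₂) h1

end

end Cfsg.Agent.Lib.Helper18
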