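import Cfsg.Agent.Lib.Helper18.ReePerf2
import Cfsg.Agent.Lib.Helper18.ReeBN2

set_option autoImplicit false

/-!
# The Ree groups `²G₂(3^(2m+1))`, `m ≥ 1`, are perfect: the torus element and the assembly
-/

namespace Cfsg.Agent.Lib.Helper18

open Cfsg Cfsg.Lie Cfsg.Lie.ChevalleyDatum

open scoped commutatorElement

section

variable {K : Type*} [Field K]

theorem exists_unit_pow_ne [Fintype K] {m : ℕ} (hK : Fintype.card K = 3 ^ (2 * m + 1))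
    (hm : 1 ≤ m) :
    ∃ s : Kˣ, s ≠ 1 ∧ s ^ (3 * 3 ^ m + 1) ≠ 1 ∧ s ^ (3 * 3 ^ m + 2) ≠ 1 := by
  classical
  obtain ⟨g, hg⟩ := IsCyclic.exists_generator (α := Kˣ)
  have hord : orderOf g = 3 ^ (2 * m + 1) - 1 := by
    rw [orderOf_eq_card_of_forall_mem_zpowers hg, Nat.card_units, Nat.card_eq_fintype_card, hK]
  have hθ : 3 ≤ 3 ^ m := by
    calc 3 = 3 ^ 1 := by norm_num
      _ ≤ 3 ^ m := Nat.pow_le_pow_right (by norm_num) hm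
  have hq : 3 ^ (2 * m + 1) = 3 * (3 ^ m) ^ 2 := by ring
  have key : ∀ k : ℕ, 0 < k → k < 3 ^ (2 * m + 1) - 1 → g ^ k ≠ 1 := by
    intro k hk0 hk h
    have h1 := Nat.le_of_dvd hk0 (orderOf_dvd_of_pow_eq_one h)
    rw [hord] at h1
    omega
  have hbig : 3 * 3 ^ m + 2 < 3 ^ (2 * m + 1) - 1 := by
    rw [hq]
    have : 3 * 3 ^ m ≤ (3 ^ m) ^ 2 := by nlinarith
    omega
  refine ⟨g, ?_, key _ (by omega) (by omega), key _ (by omega) hbig⟩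
  have h1 := key 1 (by omega) (by omega)
  rwa [pow_one] at h1

theorem g2chi_vals (s : K) (hs : s ≠ 0) (θ : ℕ) :
    g2chi (s ^ (2 * θ + 1)) (s ^ (3 * θ + 2)) 6 = s ∧
    g2chi (s ^ (2 * θ + 1)) (s ^ (3 * θ + 2)) 10 = s ^ (3 * θ + 1) ∧
    g2chi (s ^ (2 * θ + 1)) (s ^ (3 * θ + 2)) 11 = s ^ (3 * θ + 2) := by
  obtain ⟨c1, c2, c3, c4, c5, c6⟩ := g2_cartan_vals
  have hA : s ^ (2 * θ + 1) ≠ 0 := pow_ne_zero _ hs
  have hB : s ^ (3 * θ + 2) ≠ 0 := pow_ne_zero _ hs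
  unfold g2chi
  rw [c1, c2, c3, c4, c5, c6]
  refine ⟨?_, ?_, ?_⟩
  · rw [zpow_neg, zpow_ofNat, zpow_ofNat, inv_mul_eq_iff_eq_mul₀ (pow_ne_zero 3 hA)]
    ring
  · rw [zpow_neg, zpow_one, zpow_ofNat, mul_inv_eq_iff_eq_mul₀ hB]
    ring
  · rw [zpow_zero, zpow_one, one_mul]

/-- the torus element `h_a(s^(2θ+1)) h_b(s^(3θ+2))` lies in the Ree group -/
theorem ReeBot.hh_mem [Fintype K] {m : ℕ} {T : ReeTw K m} (B : ReeBot T)
    (hK : Fintype.card K = 3 ^ (2 * m + 1)) (s : K) (hs : s ≠ 0) :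
    g2hh (s ^ (2 * 3 ^ m + 1)) (s ^ (3 * 3 ^ m + 2)) ∈ twistedG2 K (3 ^ m) := by
  have hA : s ^ (2 * 3 ^ m + 1) ≠ 0 := pow_ne_zero _ hs
  have hB : s ^ (3 * 3 ^ m + 2) ≠ 0 := pow_ne_zero _ hs
  have hq : s ^ 3 ^ (2 * m + 1) = s := by
    rw [← hK, FiniteField.pow_card]
  have h7 : g2ρ 7 = 6 ∧ g2lam 7 = 3 ∧ g2ρ 6 = 7 ∧ g2lam 6 = 1 := by decide
  have e1 : (s ^ (2 * 3 ^ m + 1)) ^ (3 * 3 ^ m) = s ^ (3 * 3 ^ m + 2) := by
    have e : (2 * 3 ^ m + 1) * (3 * 3 ^ m) = 3 ^ (2 * m + 1) * 2 + 3 * 3 ^ m := by ring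
    rw [← pow_mul, e, pow_add, pow_mul, hq]
    ring
  have e2 : (s ^ (3 * 3 ^ m + 2)) ^ (1 * 3 ^ m) = s ^ (2 * 3 ^ m + 1) := by
    have e : (3 * 3 ^ m + 2) * (1 * 3 ^ m) = 3 ^ (2 * m + 1) + 2 * 3 ^ m := by ring
    rw [← pow_mul, e, pow_add, hq]
    ring
  have hfix : T.σ (g2h 7 (s ^ (2 * 3 ^ m + 1)) * g2h 6 (s ^ (3 * 3 ^ m + 2))) =
      g2h 7 (s ^ (2 * 3 ^ m + 1)) * g2h 6 (s ^ (3 * 3 ^ m + 2)) := by
    rw [map_mul, T.σ_h 7 (by decide), T.σ_h 6 (by decide), h7.1, h7.2.1, h7.2.2.1, h7.2.2.2, e1,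
      e2]
    exact Subtype.ext (g2_diag_comm _ _ (hU_mem chevG2 g2mem 6 (by decide) _ hB)
      (hU_mem chevG2 g2mem 7 (by decide) _ hA))
  exact B.diag (g2h 7 (s ^ (2 * 3 ^ m + 1)) * g2h 6 (s ^ (3 * 3 ^ m + 2)))
    (g2hh_mem _ _ hA hB) hfix

theorem reeV_mem_neg (θ : ℕ) (t u v : K) :
    wordU chevG2 g2mem (reeWordV θ t u v) ∈ chevG2.negUnipotent K := by
  unfold wordU reeWordV ChevalleyDatum.negWord
  rw [reeWordU_eq]
  apply Subgroup.list_prod_mem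
  intro x hx
  obtain ⟨p, hp, rfl⟩ := List.mem_map.mp hx
  obtain ⟨q, hq, rfl⟩ := List.mem_map.mp hp
  obtain ⟨r, hr, rfl⟩ := List.mem_map.mp hq
  exact Subgroup.subset_closure ⟨_, _, g2_neg_word_chk r hr, coe_xU chevG2 g2mem _ _⟩

/-- the Ree group `²G₂(3^(2m+1))`, `m ≥ 1`, is contained in its derived subgroup -/
theorem ReeBot.tw_le_commutator [CharP K 3] [Fintype K] {m : ℕ} {T : ReeTw K m} (B : ReeBot T)
    (hK : Fintype.card K = 3 ^ (2 * m + 1)) (hm : 1 ≤ m)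
    (hUiff : ∀ g : GL chevG2.Idx K, g ∈ chevG2.posUnipotent K ⊓ twistedG2 K (3 ^ m) →
      ∃ t u v : K, g = reeA (3 ^ m) t u v) :
    twistedG2 K (3 ^ m) ≤ ⁅twistedG2 K (3 ^ m), twistedG2 K (3 ^ m)⁆ := by
  obtain ⟨s, hs1, hs2, hs3⟩ := exists_unit_pow_ne hK hm
  have hs0 : (s : K) ≠ 0 := s.ne_zero
  obtain ⟨c6, c10, c11⟩ := g2chi_vals (s : K) hs0 (3 ^ m)
  have hh := B.hh_mem hK (s : K) hs0
  have hn1 := g2n1_mem_tw (K := K) (3 ^ m) (pow_ne_zero _ (by norm_num))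
  have hall : ∀ t u v : K, reeA (3 ^ m) t u v ∈ ⁅twistedG2 K (3 ^ m), twistedG2 K (3 ^ m)⁆ := by
    apply reeA_mem_commutator m _ _ (pow_ne_zero _ hs0) (pow_ne_zero _ hs0) hh hUiff
    · rw [c6]
      intro h
      exact hs1 (Units.ext h)
    · rw [c10]
      intro h
      apply hs2
      apply Units.ext
      rw [Units.val_pow_eq_pow_val, h, Units.val_one]
    · rw [c11]
      intro h
      apply hs3
      apply Units.ext
      rw [Units.val_pow_eq_pow_val, h, Units.val_one]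
  unfold twistedG2 ChevalleyDatum.genSubgroup
  rw [Subgroup.closure_le]
  rintro g ⟨w, ⟨t, u, v, rfl | rfl⟩, hg⟩
  · have e : g = reeA (3 ^ m) t u v := Units.ext (by rw [hg]; exact (coe_wordU _ _ _).symm)
    rw [e]
    exact hall t u v
  · have e : g = wordU chevG2 g2mem (reeWordV (3 ^ m) t u v) :=
      Units.ext (by rw [hg]; exact (coe_wordU _ _ _).symm)
    have hβG : wordU chevG2 g2mem (reeWordV (3 ^ m) t u v) ∈ twistedG2 K (3 ^ m) :=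
      g2_word_mem_tw _ _ ⟨t, u, v, Or.inr rfl⟩
    have hx : ((g2n1 : ↥(chevG2.group K)) : GL chevG2.Idx K)⁻¹ *
        wordU chevG2 g2mem (reeWordV (3 ^ m) t u v) *
        ((g2n1 : ↥(chevG2.group K)) : GL chevG2.Idx K) ∈
        chevG2.posUnipotent K ⊓ twistedG2 K (3 ^ m) :=
      Subgroup.mem_inf.mpr ⟨g2n1_inv_conj_V _ (reeV_mem_neg _ t u v),
        mul_mem (mul_mem (inv_mem hn1) hβG) hn1⟩
    obtain ⟨t', u', v', e'⟩ := hUiff _ hx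
    have e2 : wordU chevG2 g2mem (reeWordV (3 ^ m) t u v) =
        ((g2n1 : ↥(chevG2.group K)) : GL chevG2.Idx K) * reeA (3 ^ m) t' u' v' *
          ((g2n1 : ↥(chevG2.group K)) : GL chevG2.Idx K)⁻¹ := by
      rw [← e']
      group
    show g ∈ ⁅twistedG2 K (3 ^ m), twistedG2 K (3 ^ m)⁆
    rw [e, e2]
    exact commutator_conj_mem _ _ hn1 _ (hall t' u' v')

end

end Cfsg.Agent.Lib.Helper18
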