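import Mathlib

/-!
# Three-point stabilisers in the action on the cosets of `B` for a group with two cells

Let `G = B ∪ U H n B` with `U, H ≤ B`.  If an element of `B ∩ ⁿB ∩ ^{uhn}B` (`u ≠ 1`) is `1` or `c₀`,
then the stabiliser of three distinct cosets of `B` has order at most `2`.
-/

set_option autoImplicit false

namespace Cfsg.Agent.Lib.Helper18

theorem quot_stab_iff {G : Type*} [Group G] (B : Subgroup G) (a s : G) :
    s ∈ MulAction.stabilizer G (QuotientGroup.mk a : G ⧸ B) ↔ a⁻¹ * s * a ∈ B := by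
  rw [MulAction.mem_stabilizer_iff]
  show (QuotientGroup.mk (s * a) : G ⧸ B) = QuotientGroup.mk a ↔ _
  rw [QuotientGroup.eq]
  have e : a⁻¹ * s * a = ((s * a)⁻¹ * a)⁻¹ := by group
  rw [e, inv_mem_iff]

theorem three_point_le {G : Type*} [Group G] [Finite G] (B U H : Subgroup G) (n c₀ : G)
    (hUB : U ≤ B) (hHB : H ≤ B) (hnH : ∀ h ∈ H, n⁻¹ * h * n ∈ B)
    (cells : ∀ g : G, g ∈ B ∨ ∃ u ∈ U, ∃ h ∈ H, ∃ b ∈ B, g = u * h * n * b)
    (hP : ∀ u ∈ U, u ≠ 1 → ∀ h ∈ H, ∀ s ∈ B, n⁻¹ * s * n ∈ B →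
      n⁻¹ * ((u * h)⁻¹ * s * (u * h)) * n ∈ B → s = 1 ∨ s = c₀)
    (x y z : G ⧸ B) (hxy : x ≠ y) (hxz : x ≠ z) (hyz : y ≠ z) :
    Nat.card ↥(MulAction.stabilizer G x ⊓ MulAction.stabilizer G y ⊓ MulAction.stabilizer G z) ≤
      2 := by
  induction x using QuotientGroup.induction_on with | H a => ?_
  induction y using QuotientGroup.induction_on with | H b => ?_
  induction z using QuotientGroup.induction_on with | H c => ?_
  have hab : a⁻¹ * b ∉ B := fun h => hxy (QuotientGroup.eq.mpr h)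
  rcases cells (a⁻¹ * b) with h | ⟨u₁, hu₁, h₁, hh₁, b₁, hb₁, e₁⟩
  · exact absurd h hab
  have hb : b = a * u₁ * h₁ * n * b₁ := by
    have : b = a * (a⁻¹ * b) := by group
    rw [this, e₁]
    group
  have hac : (a * u₁ * h₁)⁻¹ * c ∉ B := by
    intro h
    apply hxz
    rw [QuotientGroup.eq]
    have : a⁻¹ * c = (u₁ * h₁) * ((a * u₁ * h₁)⁻¹ * c) := by group
    rw [this]
    exact mul_mem (mul_mem (hUB hu₁) (hHB hh₁)) h
  rcases cells ((a * u₁ * h₁)⁻¹ * c) with h | ⟨u₃, hu₃, h₃, hh₃, b₃, hb₃, e₃⟩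
  · exact absurd h hac
  have hc : c = a * u₁ * h₁ * (u₃ * h₃) * n * b₃ := by
    have : c = (a * u₁ * h₁) * ((a * u₁ * h₁)⁻¹ * c) := by group
    rw [this, e₃]
    group
  have hu₃1 : u₃ ≠ 1 := by
    rintro rfl
    apply hyz
    rw [QuotientGroup.eq, hb, hc]
    have : (a * u₁ * h₁ * n * b₁)⁻¹ * (a * u₁ * h₁ * (1 * h₃) * n * b₃) =
        b₁⁻¹ * (n⁻¹ * h₃ * n) * b₃ := by group
    rw [this]
    exact mul_mem (mul_mem (inv_mem hb₁) (hnH h₃ hh₃)) hb₃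
  have hS : ∀ s ∈ MulAction.stabilizer G (QuotientGroup.mk a : G ⧸ B) ⊓
      MulAction.stabilizer G (QuotientGroup.mk b : G ⧸ B) ⊓
      MulAction.stabilizer G (QuotientGroup.mk c : G ⧸ B),
      s = 1 ∨ s = (a * u₁ * h₁) * c₀ * (a * u₁ * h₁)⁻¹ := by
    intro s hs
    obtain ⟨hs', hsc⟩ := Subgroup.mem_inf.mp hs
    obtain ⟨hsa, hsb⟩ := Subgroup.mem_inf.mp hs'
    rw [quot_stab_iff] at hsa hsb hsc
    have h1 : (a * u₁ * h₁)⁻¹ * s * (a * u₁ * h₁) ∈ B := by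
      have : (a * u₁ * h₁)⁻¹ * s * (a * u₁ * h₁) = (u₁ * h₁)⁻¹ * (a⁻¹ * s * a) * (u₁ * h₁) := by
        group
      rw [this]
      exact mul_mem (mul_mem (inv_mem (mul_mem (hUB hu₁) (hHB hh₁))) hsa)
        (mul_mem (hUB hu₁) (hHB hh₁))
    have h2 : n⁻¹ * ((a * u₁ * h₁)⁻¹ * s * (a * u₁ * h₁)) * n ∈ B := by
      have : n⁻¹ * ((a * u₁ * h₁)⁻¹ * s * (a * u₁ * h₁)) * n = b₁ * (b⁻¹ * s * b) * b₁⁻¹ := by
        rw [hb]
        group
      rw [this]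
      exact mul_mem (mul_mem hb₁ hsb) (inv_mem hb₁)
    have h3 : n⁻¹ * ((u₃ * h₃)⁻¹ * ((a * u₁ * h₁)⁻¹ * s * (a * u₁ * h₁)) * (u₃ * h₃)) * n ∈ B := by
      have : n⁻¹ * ((u₃ * h₃)⁻¹ * ((a * u₁ * h₁)⁻¹ * s * (a * u₁ * h₁)) * (u₃ * h₃)) * n =
          b₃ * (c⁻¹ * s * c) * b₃⁻¹ := by
        rw [hc]
        group
      rw [this]
      exact mul_mem (mul_mem hb₃ hsc) (inv_mem hb₃)
    rcases hP u₃ hu₃ hu₃1 h₃ hh₃ _ h1 h2 h3 with h | h
    · left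
      have : s = (a * u₁ * h₁) * ((a * u₁ * h₁)⁻¹ * s * (a * u₁ * h₁)) * (a * u₁ * h₁)⁻¹ := by
        group
      rw [this, h]
      group
    · right
      have : s = (a * u₁ * h₁) * ((a * u₁ * h₁)⁻¹ * s * (a * u₁ * h₁)) * (a * u₁ * h₁)⁻¹ := by
        group
      rw [this, h]
  rw [← SetLike.coe_sort_coe, Nat.card_coe_set_eq]
  calc Set.ncard ((MulAction.stabilizer G (QuotientGroup.mk a : G ⧸ B) ⊓
          MulAction.stabilizer G (QuotientGroup.mk b : G ⧸ B) ⊓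
          MulAction.stabilizer G (QuotientGroup.mk c : G ⧸ B) : Subgroup G) : Set G)
      ≤ Set.ncard ({1, (a * u₁ * h₁) * c₀ * (a * u₁ * h₁)⁻¹} : Set G) :=
        Set.ncard_le_ncard (fun s hs => hS s hs) (Set.toFinite _)
    _ ≤ Set.ncard ({(a * u₁ * h₁) * c₀ * (a * u₁ * h₁)⁻¹} : Set G) + 1 := Set.ncard_insert_le _ _
    _ = 2 := by rw [Set.ncard_singleton]

theorem three_point_eq {G : Type*} [Group G] [Finite G] (B : Subgroup G) (n c₀ u₀ : G)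
    (hn : n ∉ B) (hun : u₀ * n ∉ B) (hnun : n⁻¹ * u₀ * n ∉ B)
    (hc : c₀ ∈ B) (hcn : n⁻¹ * c₀ * n ∈ B) (hcu : c₀ * u₀ = u₀ * c₀) (hc1 : c₀ ≠ 1)
    (hP : ∀ s ∈ B, n⁻¹ * s * n ∈ B → n⁻¹ * (u₀⁻¹ * s * u₀) * n ∈ B → s = 1 ∨ s = c₀) :
    ∃ x y z : G ⧸ B, x ≠ y ∧ x ≠ z ∧ y ≠ z ∧
      Nat.card ↥(MulAction.stabilizer G x ⊓ MulAction.stabilizer G y ⊓
        MulAction.stabilizer G z) = 2 := by
  refine ⟨QuotientGroup.mk 1, QuotientGroup.mk n, QuotientGroup.mk (u₀ * n), ?_, ?_, ?_, ?_⟩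
  · intro h
    rw [QuotientGroup.eq, inv_one, one_mul] at h
    exact hn h
  · intro h
    rw [QuotientGroup.eq, inv_one, one_mul] at h
    exact hun h
  · intro h
    rw [QuotientGroup.eq, ← mul_assoc] at h
    exact hnun h
  · have hS : ((MulAction.stabilizer G (QuotientGroup.mk 1 : G ⧸ B) ⊓
          MulAction.stabilizer G (QuotientGroup.mk n : G ⧸ B) ⊓
          MulAction.stabilizer G (QuotientGroup.mk (u₀ * n) : G ⧸ B) : Subgroup G) : Set G) =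
        {1, c₀} := by
      ext s
      rw [SetLike.mem_coe, Subgroup.mem_inf, Subgroup.mem_inf, quot_stab_iff, quot_stab_iff,
        quot_stab_iff, inv_one, one_mul, mul_one]
      have e : (u₀ * n)⁻¹ * s * (u₀ * n) = n⁻¹ * (u₀⁻¹ * s * u₀) * n := by group
      rw [e]
      constructor
      · rintro ⟨⟨h1, h2⟩, h3⟩
        exact hP s h1 h2 h3
      · rintro (rfl | rfl)
        · refine ⟨⟨one_mem _, ?_⟩, ?_⟩
          · rw [mul_one, inv_mul_cancel]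
            exact one_mem _
          · rw [mul_one, inv_mul_cancel, mul_one, inv_mul_cancel]
            exact one_mem _
        · refine ⟨⟨hc, hcn⟩, ?_⟩
          have e2 : u₀⁻¹ * s * u₀ = s := by
            rw [mul_assoc, hcu, inv_mul_cancel_left]
          rw [e2]
          exact hcn
    rw [← SetLike.coe_sort_coe, Nat.card_coe_set_eq, hS]
    exact Set.ncard_pair (Ne.symm hc1)

end Cfsg.Agent.Lib.Helper18
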