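import Cfsg.Agent.Lib.Helper18.ReeFinal
import Cfsg.Agent.Lib.Helper18.ThreePoint

/-!
# Centralisers of unipotent elements in the torus `H¹` of the Ree groups
-/

set_option autoImplicit false

namespace Cfsg.Agent.Lib.Helper18

open Cfsg Cfsg.Lie Matrix Cfsg.Agent.Lib.Helper17 Cfsg.Agent.Lib.Helper36

theorem g2_cartan_vals2 : chevG2.cartan 0 8 = -1 ∧ chevG2.cartan 1 8 = 1 := by decide

section

variable {K : Type*} [Field K] [CharP K 3]

/-- the parameters of an ordered product of positive root elements are unique -/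
theorem g2x6_inj (a7 a6 a8 a9 a10 a11 b7 b6 b8 b9 b10 b11 : K)
    (h : g2x 7 a7 * g2x 6 a6 * g2x 8 a8 * g2x 9 a9 * g2x 10 a10 * g2x 11 a11 =
      g2x 7 b7 * g2x 6 b6 * g2x 8 b8 * g2x 9 b9 * g2x 10 b10 * g2x 11 b11) :
    a6 = b6 ∧ a10 = b10 ∧ a11 = b11 := by
  have h1 := congrArg (fun g : ↥(chevG2.group K) => (g : GL chevG2.Idx K)) h
  simp only [Subgroup.coe_mul, coe_g2x] at h1
  have h2 := g2w6_inj (fun r => if r = 7 then a7 else if r = 6 then a6 else if r = 8 then a8 else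
      if r = 9 then a9 else if r = 10 then a10 else a11)
    (fun r => if r = 7 then b7 else if r = 6 then b6 else if r = 8 then b8 else
      if r = 9 then b9 else if r = 10 then b10 else b11) (by
      simpa [g2w6, wordU, mul_assoc] using h1)
  have e6 := h2 6 (by simp)
  have e10 := h2 10 (by simp)
  have e11 := h2 11 (by simp)
  simp only [show (6 : ℕ) ≠ 7 by decide, show (10 : ℕ) ≠ 7 by decide, show (10 : ℕ) ≠ 6 by decide,
    show (10 : ℕ) ≠ 8 by decide, show (10 : ℕ) ≠ 9 by decide, show (11 : ℕ) ≠ 7 by decide,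
    show (11 : ℕ) ≠ 6 by decide, show (11 : ℕ) ≠ 8 by decide, show (11 : ℕ) ≠ 9 by decide,
    show (11 : ℕ) ≠ 10 by decide, if_true, if_false] at e6 e10 e11
  exact ⟨e6, e10, e11⟩

omit [CharP K 3] in
/-- a torus element moves the parameters of an ordered product by its characters -/
theorem g2t_mul_x6 (y z : K) (hy : y ≠ 0) (hz : z ≠ 0) (a7 a6 a8 a9 a10 a11 : K) :
    g2t y z * (g2x 7 a7 * g2x 6 a6 * g2x 8 a8 * g2x 9 a9 * g2x 10 a10 * g2x 11 a11) =
      g2x 7 (Helper17.g2chi y z 7 * a7) * g2x 6 (Helper17.g2chi y z 6 * a6) *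
        g2x 8 (Helper17.g2chi y z 8 * a8) * g2x 9 (Helper17.g2chi y z 9 * a9) *
        g2x 10 (Helper17.g2chi y z 10 * a10) * g2x 11 (Helper17.g2chi y z 11 * a11) * g2t y z := by
  have c := fun (s : ℕ) (hs : s < 12) (t : K) => g2t_conj y z hy hz s hs t
  simp only [← mul_assoc]
  rw [c 7 (by decide), mul_assoc _ (g2t y z), c 6 (by decide), ← mul_assoc,
    mul_assoc _ (g2t y z), c 8 (by decide), ← mul_assoc,
    mul_assoc _ (g2t y z), c 9 (by decide), ← mul_assoc,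
    mul_assoc _ (g2t y z), c 10 (by decide), ← mul_assoc,
    mul_assoc _ (g2t y z), c 11 (by decide), ← mul_assoc]

end

section

variable {K : Type*} [Field K] [Fintype K] [CharP K 3] {m : ℕ}

/-- a torus element of `H¹` commuting with a nontrivial element of `U¹` has parameter `±1` -/
theorem ree_cent_param (hK : Fintype.card K = 3 ^ (2 * m + 1)) (z : K) (hz : z ≠ 0) (t u v : K)
    (hne : ¬ (t = 0 ∧ u = 0 ∧ v = 0))
    (hc : g2t (z ^ 3 ^ m) z * reeUg (3 ^ m) t u v = reeUg (3 ^ m) t u v * g2t (z ^ 3 ^ m) z) :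
    z = 1 ∨ z = -1 := by
  have hy : z ^ 3 ^ m ≠ 0 := pow_ne_zero _ hz
  unfold reeUg at hc
  rw [g2t_mul_x6 _ _ hy hz] at hc
  obtain ⟨e6, e10, e11⟩ := g2x6_inj _ _ _ _ _ _ _ _ _ _ _ _ (mul_right_cancel hc)
  have x6 : Helper17.g2chi (z ^ 3 ^ m) z 6 = ((z ^ 3 ^ m) ^ 3)⁻¹ * z ^ 2 := by
    unfold Helper17.g2chi
    rw [g2_cartan_vals.1, g2_cartan_vals.2.1, _root_.zpow_neg, zpow_ofNat, zpow_ofNat]
  have x10 : Helper17.g2chi (z ^ 3 ^ m) z 10 = (z ^ 3 ^ m) ^ 3 * z⁻¹ := by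
    unfold Helper17.g2chi
    rw [g2_cartan_vals.2.2.1, g2_cartan_vals.2.2.2.1, _root_.zpow_neg, zpow_ofNat, zpow_one]
  have x11 : Helper17.g2chi (z ^ 3 ^ m) z 11 = z := by
    unfold Helper17.g2chi
    rw [g2_cartan_vals.2.2.2.2.1, g2_cartan_vals.2.2.2.2.2, zpow_zero, zpow_one, one_mul]
  have hpw : ((z ^ 3 ^ m) ^ 3) ^ (3 * 3 ^ m) = z ^ 3 := by
    rw [pow_right_comm, ree_pw1 hK z]
  by_cases ht : t = 0
  · by_cases hu : u = 0
    · have hv : v ≠ 0 := fun hv => hne ⟨ht, hu, hv⟩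
      left
      rw [x11] at e11
      exact mul_right_cancel₀ hv (by rw [e11, one_mul])
    · have h1 : (z ^ 3 ^ m) ^ 3 * z⁻¹ = 1 := by
        rw [x10] at e10
        exact mul_right_cancel₀ hu (by rw [e10, one_mul])
      have h2 : (z ^ 3 ^ m) ^ 3 = z := (mul_inv_eq_one₀ hz).mp h1
      have h3 : z ^ 3 = z := by
        have h4 : z ^ (3 * 3 ^ m) = z := by rw [pow_mul', h2]
        rw [← hpw, h2, h4]
      have h5 : (z - 1) * (z + 1) = 0 := by
        have h6 : z * ((z - 1) * (z + 1)) = 0 := by linear_combination h3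
        exact (mul_eq_zero.mp h6).resolve_left hz
      rcases mul_eq_zero.mp h5 with h | h
      · left
        exact sub_eq_zero.mp h
      · right
        exact eq_neg_of_add_eq_zero_left h
  · left
    have h1 : ((z ^ 3 ^ m) ^ 3)⁻¹ * z ^ 2 = 1 := by
      rw [x6] at e6
      exact mul_right_cancel₀ ht (by rw [e6, one_mul])
    have h2 : (z ^ 3 ^ m) ^ 3 = z ^ 2 := (inv_mul_eq_one₀ (pow_ne_zero _ hy)).mp h1
    have h3 : z ^ 3 = z ^ 4 := by
      have h4 : (z ^ 2) ^ (3 * 3 ^ m) = z ^ 4 := by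
        rw [← pow_mul, mul_comm 2, pow_mul, pow_mul', h2, ← pow_mul]
      rw [← hpw, h2, h4]
    have h5 : z ^ 3 * (z - 1) = 0 := by linear_combination -h3
    exact sub_eq_zero.mp ((mul_eq_zero.mp h5).resolve_left (pow_ne_zero _ hz))

omit [Fintype K] in
/-- the involution of `H¹` centralises `α(0, 1, 0)` -/
theorem ree_hm_comm : g2t ((-1 : K) ^ 3 ^ m) (-1) * reeUg (3 ^ m) 0 1 0 =
    reeUg (3 ^ m) 0 1 0 * g2t ((-1 : K) ^ 3 ^ m) (-1) := by
  have hθ : (3 : ℕ) ^ m ≠ 0 := pow_ne_zero _ (by norm_num)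
  have hodd : Odd (3 ^ m) := Odd.pow (by decide)
  have hm1 : (-1 : K) ≠ 0 := neg_ne_zero.mpr one_ne_zero
  rw [reeUg_0u0 _ hθ, hodd.neg_one_pow, ← mul_assoc, g2t_conj _ _ hm1 hm1 8 (by decide),
    mul_assoc, g2t_conj _ _ hm1 hm1 10 (by decide), ← mul_assoc]
  have x8 : Helper17.g2chi (-1 : K) (-1) 8 = 1 := by
    unfold Helper17.g2chi
    rw [g2_cartan_vals2.1, g2_cartan_vals2.2, _root_.zpow_neg, zpow_one]
    norm_num
  have x10 : Helper17.g2chi (-1 : K) (-1) 10 = 1 := by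
    unfold Helper17.g2chi
    rw [g2_cartan_vals.2.2.1, g2_cartan_vals.2.2.2.1, _root_.zpow_neg, zpow_ofNat, zpow_one]
    norm_num
  rw [x8, x10, one_mul, one_mul]

end

end Cfsg.Agent.Lib.Helper18
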