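import Cfsg.Agent.Lib.Helper18.ReeFinal
import Cfsg.Agent.S1037

/-!
# The Sylow 3-subgroups of the Ree groups `²G₂(3^(2m+1))` meet trivially
-/

set_option autoImplicit false

namespace Cfsg.Agent.Lib.Helper18

open Cfsg Cfsg.Lie Matrix Cfsg.Agent.Lib.Helper17 Cfsg.Agent.Lib.Helper36

/-- membership in a conjugate Sylow subgroup -/
theorem mem_smul_sylow_iff {G : Type*} [Group G] {p : ℕ} (c : G) (S : Sylow p G) (x : G) :
    x ∈ ((c • S : Sylow p G) : Subgroup G) ↔ c⁻¹ * x * c ∈ (S : Subgroup G) := by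
  rw [Sylow.smul_def, Sylow.pointwise_smul_def, Subgroup.mem_pointwise_smul_iff_inv_smul_mem,
    MulAut.smul_def, MulAut.conj_inv_apply]

variable {K : Type*} [Field K]

/-- `U¹` inside the Ree group -/
def reeU1 (K : Type*) [Field K] (m : ℕ) : Subgroup ↥(twistedG2 K (3 ^ m)) :=
  (chevG2.posUnipotent K ⊓ twistedG2 K (3 ^ m)).subgroupOf (twistedG2 K (3 ^ m))

theorem mem_reeU1 {m : ℕ} (x : ↥(twistedG2 K (3 ^ m))) :
    x ∈ reeU1 K m ↔ (x : GL chevG2.Idx K) ∈ chevG2.posUnipotent K := by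
  unfold reeU1
  rw [Subgroup.mem_subgroupOf, Subgroup.mem_inf]
  exact ⟨fun h => h.1, fun h => ⟨h, x.2⟩⟩

/-- `B` normalises `U` -/
theorem g2_borel_le_normalizer :
    chevG2.borelSubgroup K ≤ Subgroup.normalizer (chevG2.posUnipotent K : Set (GL chevG2.Idx K)) := by
  unfold ChevalleyDatum.borelSubgroup
  exact sup_le Subgroup.le_normalizer (diagonalSubgroup_le_normalizer_posUnipotent chevG2 g2mem)

variable [Fintype K] [CharP K 3] {m : ℕ}

theorem reeU1_card (T : ReeTw K m) (hK : Fintype.card K = 3 ^ (2 * m + 1)) :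
    Nat.card ↥(reeU1 K m) = 3 ^ (3 * (2 * m + 1)) := by
  unfold reeU1
  rw [Nat.card_congr (Subgroup.subgroupOfEquivOfLe inf_le_right).toEquiv, ree_unip_card T hK,
    ← pow_mul, mul_comm]

theorem reeU1_index (T : ReeTw K m) (hK : Fintype.card K = 3 ^ (2 * m + 1)) :
    ¬ 3 ∣ (reeU1 K m).index := by
  have h1 := (reeU1 K m).card_mul_index
  have h2 : Nat.card ↥(twistedG2 K (3 ^ m)) =
      (3 ^ (2 * m + 1)) ^ 3 * (3 ^ (2 * m + 1) - 1) * ((3 ^ (2 * m + 1)) ^ 3 + 1) :=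
    (ree_bot T hK).card_tw hK (ree_unip_card T hK) (ree_diag_card T hK)
  rw [reeU1_card T hK, h2, ← pow_mul, mul_comm (2 * m + 1) 3, mul_assoc] at h1
  have h3 : (reeU1 K m).index = (3 ^ (2 * m + 1) - 1) * (3 ^ (3 * (2 * m + 1)) + 1) :=
    Nat.eq_of_mul_eq_mul_left (pow_pos (by norm_num) _) h1
  rw [h3]
  intro hdvd
  have e1 : (3 : ℕ) ^ (2 * m + 1) = 3 * 3 ^ (2 * m) := by rw [pow_succ, mul_comm]
  have e2 : (3 : ℕ) ^ (3 * (2 * m + 1)) = 3 * 3 ^ (6 * m + 2) := by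
    rw [show 3 * (2 * m + 1) = (6 * m + 2) + 1 by ring, pow_succ, mul_comm]
  have p1 : 0 < (3 : ℕ) ^ (2 * m) := pow_pos (by norm_num) _
  rcases (Nat.Prime.dvd_mul Nat.prime_three).mp hdvd with h | h
  · rw [e1] at h
    omega
  · rw [e2] at h
    omega

/-- distinct Sylow 3-subgroups of the Ree group meet trivially -/
theorem ree_sylow_TI (T : ReeTw K m) (hK : Fintype.card K = 3 ^ (2 * m + 1))
    (P Q : Sylow 3 ↥(twistedG2 K (3 ^ m))) (hPQ : P ≠ Q) :
    (P : Subgroup ↥(twistedG2 K (3 ^ m))) ⊓ (Q : Subgroup ↥(twistedG2 K (3 ^ m))) = ⊥ := by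
  classical
  have : Fact (Nat.Prime 3) := ⟨Nat.prime_three⟩
  have B := ree_bot T hK
  have hp : IsPGroup 3 ↥(reeU1 K m) := IsPGroup.of_card (reeU1_card T hK)
  obtain ⟨c, rfl⟩ := MulAction.exists_smul_eq ↥(twistedG2 K (3 ^ m))
    (hp.toSylow (reeU1_index T hK)) P
  obtain ⟨d, rfl⟩ := MulAction.exists_smul_eq ↥(twistedG2 K (3 ^ m))
    (hp.toSylow (reeU1_index T hK)) Q
  rw [eq_bot_iff]
  intro x hx
  obtain ⟨hxP, hxQ⟩ := Subgroup.mem_inf.mp hx
  rw [mem_smul_sylow_iff, IsPGroup.toSylow_coe, mem_reeU1] at hxP hxQ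
  rw [Subgroup.mem_bot]
  have hUB : chevG2.posUnipotent K ≤ chevG2.borelSubgroup K := le_sup_left
  have hHB : chevG2.diagonalSubgroup K ≤ chevG2.borelSubgroup K := le_sup_right
  rcases B.cells hK ((c⁻¹ * d : ↥(twistedG2 K (3 ^ m))) : GL chevG2.Idx K) (c⁻¹ * d).2 with
    ⟨u', hu', h, hh, e⟩ | ⟨u', hu', h, hh, u, hu, e⟩
  · -- `c⁻¹ d ∈ B¹` normalises `U¹`: the two Sylow subgroups are equal
    exfalso
    apply hPQ
    have hgB : ((c⁻¹ * d : ↥(twistedG2 K (3 ^ m))) : GL chevG2.Idx K) ∈ chevG2.borelSubgroup K := by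
      rw [e]
      exact mul_mem (hUB hu'.1) (hHB hh.1)
    have hnorm : (c⁻¹ * d) • (hp.toSylow (reeU1_index T hK)) = hp.toSylow (reeU1_index T hK) := by
      rw [Sylow.smul_eq_iff_mem_normalizer, Subgroup.mem_set_normalizer_iff]
      intro y
      have h1 := (Subgroup.mem_set_normalizer_iff.mp (g2_borel_le_normalizer hgB))
        (y : GL chevG2.Idx K)
      rw [SetLike.mem_coe, SetLike.mem_coe] at h1
      rw [SetLike.mem_coe, SetLike.mem_coe, IsPGroup.mem_toSylow, IsPGroup.mem_toSylow, mem_reeU1,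
        mem_reeU1]
      exact h1
    have e2 : d = c * (c⁻¹ * d) := by rw [mul_inv_cancel_left]
    rw [e2, mul_smul, hnorm]
  · -- the big cell: the intersection is trivial
    have hB := (Cfsg.Agent.S1037.result (F := K) chevG2 g2mem).1
    have hs' : ((d⁻¹ * x * d : ↥(twistedG2 K (3 ^ m))) : GL chevG2.Idx K) = 1 := by
      have h1 : ((g2n1 : ↥(chevG2.group K)) : GL chevG2.Idx K) *
          (u * ((d⁻¹ * x * d : ↥(twistedG2 K (3 ^ m))) : GL chevG2.Idx K) * u⁻¹) *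
          ((g2n1 : ↥(chevG2.group K)) : GL chevG2.Idx K)⁻¹ ∈
          chevG2.borelSubgroup K ⊓ chevG2.negUnipotent K := by
        refine Subgroup.mem_inf.mpr ⟨?_, g2n1_conj_U _ (mul_mem (mul_mem hu.1 hxQ) (inv_mem hu.1))⟩
        have e3 : ((g2n1 : ↥(chevG2.group K)) : GL chevG2.Idx K) *
            (u * ((d⁻¹ * x * d : ↥(twistedG2 K (3 ^ m))) : GL chevG2.Idx K) * u⁻¹) *
            ((g2n1 : ↥(chevG2.group K)) : GL chevG2.Idx K)⁻¹ =
            (u' * h)⁻¹ * ((c⁻¹ * x * c : ↥(twistedG2 K (3 ^ m))) : GL chevG2.Idx K) * (u' * h) := by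
          have e4 : ((c⁻¹ * x * c : ↥(twistedG2 K (3 ^ m))) : GL chevG2.Idx K) =
              ((c⁻¹ * d : ↥(twistedG2 K (3 ^ m))) : GL chevG2.Idx K) *
              ((d⁻¹ * x * d : ↥(twistedG2 K (3 ^ m))) : GL chevG2.Idx K) *
              ((c⁻¹ * d : ↥(twistedG2 K (3 ^ m))) : GL chevG2.Idx K)⁻¹ := by
            rw [← Subgroup.coe_inv, ← Subgroup.coe_mul, ← Subgroup.coe_mul]
            congr 1
            group
          rw [e4, e]
          group
        rw [e3]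
        exact mul_mem (mul_mem (inv_mem (mul_mem (hUB hu'.1) (hHB hh.1))) (hUB hxP))
          (mul_mem (hUB hu'.1) (hHB hh.1))
      rw [hB, Subgroup.mem_bot] at h1
      have h2 : u * ((d⁻¹ * x * d : ↥(twistedG2 K (3 ^ m))) : GL chevG2.Idx K) * u⁻¹ = 1 := by
        have := congrArg (fun z => ((g2n1 : ↥(chevG2.group K)) : GL chevG2.Idx K)⁻¹ * z *
          ((g2n1 : ↥(chevG2.group K)) : GL chevG2.Idx K)) h1
        simp only [mul_one, inv_mul_cancel] at this
        rw [← this]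
        group
      have := congrArg (fun z => u⁻¹ * z * u) h2
      simp only [mul_one, inv_mul_cancel] at this
      rw [← this]
      group
    have hs1 : d⁻¹ * x * d = 1 := Subtype.ext hs'
    have := congrArg (fun z => d * z * d⁻¹) hs1
    simp only [mul_one, mul_inv_cancel] at this
    rw [← this]
    group

end Cfsg.Agent.Lib.Helper18
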