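import Cfsg.Agent.Lib.Helper18.ReeTw1
import Cfsg.Agent.Lib.Helper18.ChevSym
import Cfsg.Agent.Lib.Helper18.ChevKer
import Cfsg.Agent.Lib.Helper18.ChevMonoGen

set_option autoImplicit false

/-!
# The fixed points of the twisting endomorphism of `G₂`: the two cells

Matrices of integer words are computed by the sparse engine of `ChevSym`; the element
`n₁ = n_{a+b}(1) n_{3a+b}(1)` is fixed by `σ` and acts on the roots as `-1`; an element of `N`
fixed by `σ` lies in `H` or in `H n₁`.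
-/

namespace Cfsg.Agent.Lib.Helper18

open Cfsg Cfsg.Lie Cfsg.Lie.ChevalleyDatum

/-! ### Integer words -/

/-- the coefficient at the index `u` of a sparse vector (at `c = 1`) -/
def coefI (L : List (ℕ × ℤ × ℤ)) (u : ℕ) : ℤ :=
  ((L.filter fun e => e.1 = u).map fun e => e.2.1).sum

theorem sem_one {F : Type*} [Field F] (D : ChevalleyDatum) (L : List (ℕ × ℤ × ℤ)) (idx : D.Idx) :
    sem D (1 : F) L idx = ((coefI L (enc D idx) : ℤ) : F) := by
  induction L with
  | nil => simp [sem, coefI]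
  | cons x L ih =>
    have h1 : sem D (1 : F) (x :: L) idx =
        (if x.1 = enc D idx then ((x.2.1 : ℤ) : F) else 0) + sem D (1 : F) L idx := by
      simp [sem]
    rw [h1, ih]
    unfold coefI
    rw [List.filter_cons]
    by_cases h : x.1 = enc D idx
    · rw [if_pos h, if_pos (by simpa using h), List.map_cons, List.sum_cons, Int.cast_add]
    · rw [if_neg h, if_neg (by simpa using h), zero_add]

/-- an integer word -/
def iw (l : List (ℕ × ℤ)) : List (ℕ × ℤ × ℤ) := l.map fun p => (p.1, p.2, 0)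

/-- the word over a field of an integer word -/
def iwF (F : Type*) [Field F] (l : List (ℕ × ℤ)) : List (ℕ × F) := l.map fun p => (p.1, (p.2 : F))

theorem evalW_iw {F : Type*} [Field F] (l : List (ℕ × ℤ)) : evalW (1 : F) (iw l) = iwF F l := by
  unfold evalW iw iwF
  rw [List.map_map]
  apply List.map_congr_left
  intro p _
  simp

/-- the entries of the matrix of an integer word -/
def intEntry (D : ChevalleyDatum) (l : List (ℕ × ℤ)) (u v : ℕ) : ℤ :=
  coefI (applyWn D (iw l) [(v, 1, 0)]) u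

theorem wordMat_int_entry {F : Type*} [Field F] (D : ChevalleyDatum) (l : List (ℕ × ℤ))
    (row col : D.Idx) :
    D.wordMat F (iwF F l) row col = ((intEntry D l (enc D row) (enc D col) : ℤ) : F) := by
  have h3 := wordMat_mulVec_sem_n D (1 : F) one_ne_zero (iw l) [(enc D col, 1, 0)]
  rw [sem_single, evalW_iw] at h3
  have h4 := congrFun h3 row
  rw [Matrix.mulVec_single] at h4
  simp only [Int.cast_one, zpow_zero, mul_one, MulOpposite.op_one, one_smul,
    Matrix.col_apply] at h4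
  rw [h4, sem_one]
  rfl

/-- the check that two integer words have the same matrix modulo `p` -/
def intEqChk (D : ChevalleyDatum) (p : ℕ) (l l' : List (ℕ × ℤ)) : Bool :=
  (List.range (D.rank + D.nroots)).all fun v =>
    (List.range (D.rank + D.nroots)).all fun u =>
      decide ((intEntry D l u v - intEntry D l' u v) % (p : ℤ) = 0)

theorem wordMat_int_congr {F : Type*} [Field F] (p : ℕ) [CharP F p] (D : ChevalleyDatum)
    (l l' : List (ℕ × ℤ)) (h : intEqChk D p l l' = true) :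
    D.wordMat F (iwF F l) = D.wordMat F (iwF F l') := by
  ext row col
  rw [wordMat_int_entry, wordMat_int_entry, ← sub_eq_zero, ← Int.cast_sub,
    CharP.intCast_eq_zero_iff F p]
  have h1 := List.all_eq_true.mp h (enc D col) (List.mem_range.mpr (enc_lt D col))
  have h2 := List.all_eq_true.mp h1 (enc D row) (List.mem_range.mpr (enc_lt D row))
  exact Int.dvd_of_emod_eq_zero (of_decide_eq_true h2)

theorem wordU_int_congr {F : Type*} [Field F] (p : ℕ) [CharP F p] (D : ChevalleyDatum)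
    (hD : D ∈ [chevG2, chevB2, chevD4, chevF4, chevE6, chevE7, chevE8])
    (l l' : List (ℕ × ℤ)) (h : intEqChk D p l l' = true) :
    wordU D hD (iwF F l) = wordU D hD (iwF F l') :=
  Units.ext (by rw [coe_wordU, coe_wordU]; exact wordMat_int_congr p D l l' h)

theorem wordU_append {F : Type*} [Field F] (D : ChevalleyDatum)
    (hD : D ∈ [chevG2, chevB2, chevD4, chevF4, chevE6, chevE7, chevE8]) (w w' : List (ℕ × F)) :
    wordU D hD (w ++ w') = wordU D hD w * wordU D hD w' := by
  unfold wordU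
  rw [List.map_append, List.prod_append]

/-! ### The Weyl group of `G₂` -/

/-- the images of the roots under the elements of the Weyl group -/
def g2W : List (List ℕ) :=
  [[0, 1, 2, 3, 4, 5, 6, 7, 8, 9, 10, 11], [0, 5, 3, 2, 7, 1, 10, 4, 9, 8, 6, 11],
   [1, 0, 2, 4, 3, 6, 5, 8, 7, 9, 11, 10], [5, 0, 3, 7, 2, 10, 1, 9, 4, 8, 11, 6],
   [1, 6, 4, 2, 8, 0, 11, 3, 9, 7, 5, 10], [5, 10, 7, 3, 9, 0, 11, 2, 8, 4, 1, 6],
   [6, 1, 4, 8, 2, 11, 0, 9, 3, 7, 10, 5], [10, 5, 7, 9, 3, 11, 0, 8, 2, 4, 6, 1],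
   [6, 11, 8, 4, 9, 1, 10, 2, 7, 3, 0, 5], [10, 11, 9, 7, 8, 5, 6, 3, 4, 2, 0, 1],
   [11, 6, 8, 9, 4, 10, 1, 7, 2, 3, 5, 0], [11, 10, 9, 8, 7, 6, 5, 4, 3, 2, 1, 0]]

set_option maxRecDepth 100000 in
theorem g2W_chk : List.range 12 ∈ g2W ∧
    (∀ w ∈ g2W, (∀ x ∈ w, x < 12) ∧ w.length = 12 ∧
      (∀ i < 2, w.map (chevG2.reflectRoot i) ∈ g2W) ∧
      ((∀ s < 12, w.getD (g2ρ s) 0 = g2ρ (w.getD s 0)) →
        (∀ s < 12, w.getD s 0 = s) ∨ (∀ s < 12, w.getD s 0 = 11 - s))) := by decide +kernel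

theorem g2_wordPerm_mem (l : List (Fin chevG2.rank)) :
    (List.range 12).map (wordPerm chevG2 g2mem l) ∈ g2W := by
  induction l with
  | nil =>
    have e : (List.range 12).map (wordPerm chevG2 g2mem []) = List.range 12 := by
      rw [wordPerm_nil]
      simp
    rw [e]
    exact g2W_chk.1
  | cons i l ih =>
    obtain ⟨h1, -, h3, -⟩ := g2W_chk.2 _ ih
    have e : (List.range 12).map (wordPerm chevG2 g2mem (i :: l)) =
        ((List.range 12).map (wordPerm chevG2 g2mem l)).map (chevG2.reflectRoot i.val) := by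
      rw [wordPerm_cons, List.map_map]
      apply List.map_congr_left
      intro s hs
      rw [Equiv.Perm.mul_apply, Function.comp_apply]
      exact reflPerm_apply chevG2 g2mem i.val i.isLt _
        (h1 _ (List.mem_map.mpr ⟨s, hs, rfl⟩))
    rw [e]
    exact h3 i.val i.isLt

theorem g2_wordPerm_comm (l : List (Fin chevG2.rank))
    (h : ∀ s < 12, wordPerm chevG2 g2mem l (g2ρ s) = g2ρ (wordPerm chevG2 g2mem l s)) :
    (∀ s < 12, wordPerm chevG2 g2mem l s = s) ∨ (∀ s < 12, wordPerm chevG2 g2mem l s = 11 - s) := by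
  have hget : ∀ s < 12, ((List.range 12).map (wordPerm chevG2 g2mem l)).getD s 0 =
      wordPerm chevG2 g2mem l s := by
    intro s hs
    simp [List.getD_eq_getElem?_getD, hs]
  obtain ⟨-, -, -, h4⟩ := g2W_chk.2 _ (g2_wordPerm_mem l)
  have h5 := h4 (fun s hs => by rw [hget _ (g2ρ_lt s hs), hget s hs]; exact h s hs)
  rcases h5 with h5 | h5
  · left
    intro s hs
    rw [← hget s hs]
    exact h5 s hs
  · right
    intro s hs
    rw [← hget s hs]
    exact h5 s hs

/-! ### The element `n₁` -/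

section

variable {K : Type*} [Field K]

/-- `n₁ = n_{a+b}(1) n_{3a+b}(1)` -/
def g2n1 : ↥(chevG2.group K) := g2n 8 1 * g2n 10 1

theorem g2n1_eq_word :
    ((g2n1 : ↥(chevG2.group K)) : GL chevG2.Idx K) =
      wordU chevG2 g2mem (iwF K [(8, 1), (3, -1), (8, 1), (10, 1), (1, -1), (10, 1)]) := by
  have e : iwF K [(8, 1), (3, -1), (8, 1), (10, 1), (1, -1), (10, 1)] =
      chevG2.nWord 8 (1 : K) ++ chevG2.nWord 10 (1 : K) := by
    have h8 : chevG2.neg 8 = 3 := by decide
    have h10 : chevG2.neg 10 = 1 := by decide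
    simp [iwF, ChevalleyDatum.nWord, h8, h10]
  rw [e, wordU_append]
  rfl

set_option maxRecDepth 100000 in
theorem g2n1_comm_chk : intEqChk chevG2 3 [(10, 1), (1, -1), (10, 1), (8, 1), (3, -1), (8, 1)]
    [(8, 1), (3, -1), (8, 1), (10, 1), (1, -1), (10, 1)] = true := by decide +kernel

theorem g2n1_comm [CharP K 3] : g2n 10 (1 : K) * g2n 8 1 = g2n1 := by
  apply Subtype.ext
  rw [g2n1_eq_word, ← wordU_int_congr 3 chevG2 g2mem _ _ g2n1_comm_chk]
  have e : iwF K [(10, 1), (1, -1), (10, 1), (8, 1), (3, -1), (8, 1)] =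
      chevG2.nWord 10 (1 : K) ++ chevG2.nWord 8 (1 : K) := by
    have h8 : chevG2.neg 8 = 3 := by decide
    have h10 : chevG2.neg 10 = 1 := by decide
    simp [iwF, ChevalleyDatum.nWord, h8, h10]
  rw [e, wordU_append]
  rfl

theorem ReeTw.σ_n1 [CharP K 3] {m : ℕ} (T : ReeTw K m) : T.σ g2n1 = g2n1 := by
  have h8 : g2ρ 8 = 10 := by decide
  have h10 : g2ρ 10 = 8 := by decide
  unfold g2n1
  rw [map_mul, T.σ_n 8 (by decide), T.σ_n 10 (by decide), one_pow, one_pow, h8, h10]
  exact g2n1_comm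

theorem g2n1_mem_monomial :
    ((g2n1 : ↥(chevG2.group K)) : GL chevG2.Idx K) ∈ chevG2.monomialSubgroup K :=
  Subgroup.mul_mem _ (g2_nT_mem_monomial 8 (by decide) 1 one_ne_zero)
    (g2_nT_mem_monomial 10 (by decide) 1 one_ne_zero)

set_option maxRecDepth 100000 in
theorem g2n1_entry_chk :
    intEntry chevG2 [(8, 1), (3, -1), (8, 1), (10, 1), (1, -1), (10, 1)] (2 + 0) (2 + 11) % 3 ≠ 0 := by
  decide +kernel

/-- `n₁` acts on the roots as `-1` -/
theorem g2n1_rootAct [CharP K 3] : ∃ π : Equiv.Perm ℕ,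
    RootAct chevG2 g2mem ((g2n1 : ↥(chevG2.group K)) : GL chevG2.Idx K) π ∧
      ∀ s < 12, π s = 11 - s := by
  obtain ⟨T⟩ := exists_reeTw (K := K) 0
  obtain ⟨l, hl⟩ := exists_wordPerm chevG2 g2mem _ (g2n1_mem_monomial (K := K))
  refine ⟨_, hl, ?_⟩
  rcases g2_wordPerm_comm l (T.rootAct_comm g2n1 _ hl T.σ_n1) with h | h
  · exfalso
    have h1 := hl.colr ⟨11, by decide⟩ ⟨0, by decide⟩ (by rw [h 11 (by decide)]; decide)
    rw [g2n1_eq_word, coe_wordU, wordMat_int_entry, CharP.intCast_eq_zero_iff K 3] at h1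
    exact g2n1_entry_chk (Int.emod_eq_zero_of_dvd h1)
  · exact h

end

end Cfsg.Agent.Lib.Helper18
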