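import Cfsg.Agent.Lib.Helper18.ReeTw2

set_option autoImplicit false

/-!
# The Ree group as the group of fixed points: the two cells

`G^σ = U^σ H^σ ∪ U^σ H^σ n₁ U^σ`; given that the fixed points of `U` and of `H` lie in the
Ree group (and that the Ree group is fixed), the Ree group is `G^σ`.
-/

namespace Cfsg.Agent.Lib.Helper18

open Cfsg Cfsg.Lie Cfsg.Lie.ChevalleyDatum

theorem g2_pos_chk : ∀ r < 12, chevG2.IsPosRoot r → ¬ chevG2.IsPosRoot (11 - r) := by decide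

section

variable {K : Type*} [Field K]

theorem g2_mem_diag_of_rootAct_one (M : GL chevG2.Idx K) (hM : M ∈ chevG2.monomialSubgroup K)
    (h : RootAct chevG2 g2mem M 1) : M ∈ chevG2.diagonalSubgroup K :=
  ker_piN chevG2 g2mem ⟨M, hM⟩ (fun s _ => by rw [piN_eq chevG2 g2mem ⟨M, hM⟩ 1 h]; rfl)

theorem g2_perm_ext (π π' : Equiv.Perm ℕ) (h : ∀ s < 12, π s = π' s)
    (hge : ∀ s, 12 ≤ s → π s = s) (hge' : ∀ s, 12 ≤ s → π' s = s) : π = π' := by
  ext s
  by_cases hs : s < 12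
  · exact h s hs
  · rw [hge s (Nat.le_of_not_lt hs), hge' s (Nat.le_of_not_lt hs)]

theorem g2_uMinus_bot (n : GL chevG2.Idx K) (π : Equiv.Perm ℕ) (hπ : RootAct chevG2 g2mem n π)
    (h : ∀ s < 12, π s = s) : uMinus chevG2 n = ⊥ := by
  rw [eq_bot_iff]
  unfold uMinus
  rw [Subgroup.closure_le]
  rintro x ⟨r, t, hr, hmap, -⟩
  exfalso
  have h1 := (map_conj_le_neg_iff chevG2 g2mem n π hπ r hr.1).mp hmap
  rw [h r hr.1] at h1
  exact h1 hr

theorem g2_uMinus_top (n : GL chevG2.Idx K) (π : Equiv.Perm ℕ) (hπ : RootAct chevG2 g2mem n π)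
    (h : ∀ s < 12, π s = 11 - s) : uMinus chevG2 n = chevG2.posUnipotent K := by
  apply le_antisymm (uMinus_le_posUnipotent chevG2 n)
  refine (Subgroup.closure_le _).mpr ?_
  rintro x ⟨r, t, hr, hx⟩
  apply Subgroup.subset_closure
  refine ⟨r, t, hr, ?_, hx⟩
  rw [map_conj_le_neg_iff chevG2 g2mem n π hπ r hr.1, h r hr.1]
  exact g2_pos_chk r hr.1 hr

/-- conjugation by `n₁` maps `U` into `V` -/
theorem g2n1_conj_U [CharP K 3] (u : GL chevG2.Idx K) (hu : u ∈ chevG2.posUnipotent K) :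
    ((g2n1 : ↥(chevG2.group K)) : GL chevG2.Idx K) * u *
      ((g2n1 : ↥(chevG2.group K)) : GL chevG2.Idx K)⁻¹ ∈ chevG2.negUnipotent K := by
  obtain ⟨π, hπ, hπs⟩ := g2n1_rootAct (K := K)
  have h1 := uMinus_conj_le chevG2 ((g2n1 : ↥(chevG2.group K)) : GL chevG2.Idx K) u
  rw [g2_uMinus_top _ π hπ hπs] at h1
  exact h1 hu

namespace ReeTw

variable {m : ℕ} (T : ReeTw K m)

/-- an element of `N` fixed by `σ` lies in `H` or in `H n₁` -/
theorem fix_N [CharP K 3] (M : ↥(chevG2.group K))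
    (hM : (M : GL chevG2.Idx K) ∈ chevG2.monomialSubgroup K) (hfix : T.σ M = M) :
    (M : GL chevG2.Idx K) ∈ chevG2.diagonalSubgroup K ∨
      ((M * g2n1⁻¹ : ↥(chevG2.group K)) : GL chevG2.Idx K) ∈ chevG2.diagonalSubgroup K := by
  obtain ⟨l, hl⟩ := exists_wordPerm chevG2 g2mem _ hM
  obtain ⟨π, hπ, hπs⟩ := g2n1_rootAct (K := K)
  rcases g2_wordPerm_comm l (T.rootAct_comm M _ hl hfix) with h | h
  · left
    have e : wordPerm chevG2 g2mem l = 1 :=
      g2_perm_ext _ _ (fun s hs => by rw [h s hs]; rfl) hl.ge (fun s _ => rfl)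
    rw [e] at hl
    exact g2_mem_diag_of_rootAct_one _ hM hl
  · right
    have e : wordPerm chevG2 g2mem l = π :=
      g2_perm_ext _ _ (fun s hs => by rw [h s hs, hπs s hs]) hl.ge hπ.ge
    have h1 := hl.mul hπ.inv
    rw [e, mul_inv_cancel] at h1
    exact g2_mem_diag_of_rootAct_one _
      (mul_mem hM (inv_mem g2n1_mem_monomial)) h1

/-- the two cells of the group of fixed points -/
theorem fix_cells [CharP K 3] [Fintype K] (hK : Fintype.card K = 3 ^ (2 * m + 1))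
    (g : ↥(chevG2.group K)) (hfix : T.σ g = g) :
    (∃ u' h : ↥(chevG2.group K), (u' : GL chevG2.Idx K) ∈ chevG2.posUnipotent K ∧
      T.σ u' = u' ∧ (h : GL chevG2.Idx K) ∈ chevG2.diagonalSubgroup K ∧ T.σ h = h ∧
      g = u' * h) ∨
    (∃ u' h u : ↥(chevG2.group K), (u' : GL chevG2.Idx K) ∈ chevG2.posUnipotent K ∧
      T.σ u' = u' ∧ (h : GL chevG2.Idx K) ∈ chevG2.diagonalSubgroup K ∧ T.σ h = h ∧
      (u : GL chevG2.Idx K) ∈ chevG2.posUnipotent K ∧ T.σ u = u ∧ g = u' * h * g2n1 * u) := by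
  obtain ⟨u', M, u, hu', hfu', hM, hfM, hu, hfu, rfl⟩ := T.fix_decomp hK g hfix
  rcases T.fix_N M hM hfM with h | h
  · left
    have h1 := g2_uMinus_bot (M : GL chevG2.Idx K) 1 (rootAct_of_mem_diagonal chevG2 g2mem _ h)
      (fun s _ => rfl)
    rw [h1, Subgroup.mem_bot] at hu
    have hu1 : u = 1 := Subtype.ext hu
    exact ⟨u', M, hu', hfu', h, hfM, by rw [hu1, mul_one]⟩
  · right
    refine ⟨u', M * g2n1⁻¹, u, hu', hfu', h, ?_, uMinus_le_posUnipotent chevG2 _ hu, hfu, ?_⟩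
    · rw [map_mul, map_inv, hfM, T.σ_n1]
    · group

end ReeTw

/-! ### The Ree group -/

theorem g2_tw_le_group (e : ℕ) : twistedG2 K e ≤ chevG2.group K := by
  unfold twistedG2 ChevalleyDatum.genSubgroup
  rw [Subgroup.closure_le]
  rintro g ⟨w, -, hg⟩
  exact mem_group_of_wordMat chevG2 g2mem g w hg

theorem g2_word_mem_tw (e : ℕ) (w : List (ℕ × K)) (hw : w ∈ g2Words K e) :
    wordU chevG2 g2mem w ∈ twistedG2 K e :=
  Subgroup.subset_closure ⟨w, hw, coe_wordU chevG2 g2mem w⟩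

set_option maxRecDepth 100000 in
theorem g2n1_tw_chk : intEqChk chevG2 3
    ([(7, 0), (6, 0), (8, 1), (9, 0), (10, 1), (11, 0)] ++
      [(4, 0), (5, 0), (3, -1), (2, 0), (1, -1), (0, 0)] ++
      [(7, 0), (6, 0), (8, 1), (9, 0), (10, 1), (11, 0)])
    [(8, 1), (3, -1), (8, 1), (10, 1), (1, -1), (10, 1)] = true := by decide +kernel

theorem g2_negIdx_chk : ∀ r < 12, chevG2.negIdx.getD r 0 = 11 - r := by decide

/-- `n₁` lies in the Ree group -/
theorem g2n1_mem_tw [CharP K 3] (e : ℕ) (he : e ≠ 0) :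
    ((g2n1 : ↥(chevG2.group K)) : GL chevG2.Idx K) ∈ twistedG2 K e := by
  have e1 : reeWordU e (0 : K) 1 0 = iwF K [(7, 0), (6, 0), (8, 1), (9, 0), (10, 1), (11, 0)] := by
    simp [reeWordU, iwF, g2a, g2b, g2ab, g2aab, g2aaab, g2aaabb, zero_pow he]
  have e2 : reeWordV e (0 : K) 1 0 =
      iwF K [(4, 0), (5, 0), (3, -1), (2, 0), (1, -1), (0, 0)] := by
    unfold reeWordV
    rw [e1]
    simp [ChevalleyDatum.negWord, iwF]
    decide
  have h1 : wordU chevG2 g2mem (reeWordU e (0 : K) 1 0) ∈ twistedG2 K e :=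
    g2_word_mem_tw e _ ⟨0, 1, 0, Or.inl rfl⟩
  have h2 : wordU chevG2 g2mem (reeWordV e (0 : K) 1 0) ∈ twistedG2 K e :=
    g2_word_mem_tw e _ ⟨0, 1, 0, Or.inr rfl⟩
  have h3 := mul_mem (mul_mem h1 h2) h1
  rw [e1, e2, ← wordU_append, ← wordU_append] at h3
  have e3 : iwF K [(7, 0), (6, 0), (8, 1), (9, 0), (10, 1), (11, 0)] ++
      iwF K [(4, 0), (5, 0), (3, -1), (2, 0), (1, -1), (0, 0)] ++
      iwF K [(7, 0), (6, 0), (8, 1), (9, 0), (10, 1), (11, 0)] =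
      iwF K ([(7, 0), (6, 0), (8, 1), (9, 0), (10, 1), (11, 0)] ++
      [(4, 0), (5, 0), (3, -1), (2, 0), (1, -1), (0, 0)] ++
      [(7, 0), (6, 0), (8, 1), (9, 0), (10, 1), (11, 0)]) := by
    unfold iwF
    rw [List.map_append, List.map_append]
  rw [e3, wordU_int_congr 3 chevG2 g2mem _ _ g2n1_tw_chk, ← g2n1_eq_word] at h3
  exact h3

/-- the facts about the fixed points of `U` and of `H` on which the structure of the Ree group
rests -/
structure ReeBot {m : ℕ} (T : ReeTw K m) : Prop where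
  /-- the Ree group is fixed by `σ` -/
  fixed : ∀ g : ↥(chevG2.group K), (g : GL chevG2.Idx K) ∈ twistedG2 K (3 ^ m) → T.σ g = g
  /-- the fixed points of `U` lie in the Ree group -/
  unip : ∀ g : ↥(chevG2.group K), (g : GL chevG2.Idx K) ∈ chevG2.posUnipotent K → T.σ g = g →
    (g : GL chevG2.Idx K) ∈ twistedG2 K (3 ^ m)
  /-- the fixed points of `H` lie in the Ree group -/
  diag : ∀ g : ↥(chevG2.group K), (g : GL chevG2.Idx K) ∈ chevG2.diagonalSubgroup K → T.σ g = g →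
    (g : GL chevG2.Idx K) ∈ twistedG2 K (3 ^ m)

namespace ReeBot

variable {m : ℕ} {T : ReeTw K m}

/-- the Ree group is the group of fixed points -/
theorem mem_iff [CharP K 3] [Fintype K] (B : ReeBot T) (hK : Fintype.card K = 3 ^ (2 * m + 1))
    (g : ↥(chevG2.group K)) : (g : GL chevG2.Idx K) ∈ twistedG2 K (3 ^ m) ↔ T.σ g = g := by
  have hn := g2n1_mem_tw (K := K) (3 ^ m) (pow_ne_zero _ (by norm_num))
  constructor
  · exact B.fixed g
  · intro hfix
    rcases T.fix_cells hK g hfix with ⟨u', h, hu', hfu', hh, hfh, rfl⟩ |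
      ⟨u', h, u, hu', hfu', hh, hfh, hu, hfu, rfl⟩
    · exact mul_mem (B.unip u' hu' hfu') (B.diag h hh hfh)
    · exact mul_mem (mul_mem (mul_mem (B.unip u' hu' hfu') (B.diag h hh hfh)) hn)
        (B.unip u hu hfu)

/-- the two cells of the Ree group -/
theorem cells [CharP K 3] [Fintype K] (B : ReeBot T) (hK : Fintype.card K = 3 ^ (2 * m + 1))
    (g : GL chevG2.Idx K) (hg : g ∈ twistedG2 K (3 ^ m)) :
    (∃ u' ∈ chevG2.posUnipotent K ⊓ twistedG2 K (3 ^ m),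
      ∃ h ∈ chevG2.diagonalSubgroup K ⊓ twistedG2 K (3 ^ m), g = u' * h) ∨
    (∃ u' ∈ chevG2.posUnipotent K ⊓ twistedG2 K (3 ^ m),
      ∃ h ∈ chevG2.diagonalSubgroup K ⊓ twistedG2 K (3 ^ m),
      ∃ u ∈ chevG2.posUnipotent K ⊓ twistedG2 K (3 ^ m),
        g = u' * h * ((g2n1 : ↥(chevG2.group K)) : GL chevG2.Idx K) * u) := by
  have hgG := g2_tw_le_group _ hg
  rcases T.fix_cells hK ⟨g, hgG⟩ (B.fixed ⟨g, hgG⟩ hg) with ⟨u', h, hu', hfu', hh, hfh, e⟩ |
    ⟨u', h, u, hu', hfu', hh, hfh, hu, hfu, e⟩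
  · left
    exact ⟨u', Subgroup.mem_inf.mpr ⟨hu', B.unip u' hu' hfu'⟩, h,
      Subgroup.mem_inf.mpr ⟨hh, B.diag h hh hfh⟩, congrArg Subtype.val e⟩
  · right
    exact ⟨u', Subgroup.mem_inf.mpr ⟨hu', B.unip u' hu' hfu'⟩, h,
      Subgroup.mem_inf.mpr ⟨hh, B.diag h hh hfh⟩, u,
      Subgroup.mem_inf.mpr ⟨hu, B.unip u hu hfu⟩, congrArg Subtype.val e⟩

end ReeBot

end

end Cfsg.Agent.Lib.Helper18
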