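import Cfsg.Agent.Lib.Helper18.StB2F3a

/-!
# Type B₂ over the field with three elements: the relations (R1), (R2) for the lifts

The lifts `yB` of the root elements of type `B₂` to a central extension, over the field with three
elements, and the verification of the relations (R1) and (R2), pair of roots by pair of roots.
The roots `1, 2, 5, 6` are short, the roots `0, 3, 4, 7` are long.
-/

set_option autoImplicit false

namespace Cfsg.Agent.Lib.Helper18.StAbs.B2F3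

open Cfsg Cfsg.Lie Cfsg.Lie.ChevalleyDatum Cfsg.Agent.Lib.Helper17 Cfsg.Agent.Lib.Helper18.CExt

variable {K : Type*} [Field K] {Γ : Type*} [Group Γ] {E : Type*} [Group E]

theorem nr8 : chevB2.nroots = 8 := by decide +kernel

/-- the lifts of the root elements: commutators with a lift of the diagonal element `h` for the
short roots, commutators of lifts of root elements of two short roots for the long roots -/
noncomputable def yB (X : ℕ → K → Γ) (ψ : E →* Γ) (hs : Function.Surjective ψ) (h : Γ) (γ : ℕ)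
    (v : K) : E :=
  if γ = 1 ∨ γ = 2 ∨ γ = 5 ∨ γ = 6 then cc ψ hs h (X γ v)
  else if γ = 0 then cc ψ hs (X 2 (-((2 : ℤ) : K) * v)) (X 1 1)
  else if γ = 3 then cc ψ hs (X 5 (-((-2 : ℤ) : K) * v)) (X 1 1)
  else if γ = 4 then cc ψ hs (X 6 (-((-2 : ℤ) : K) * v)) (X 2 1)
  else if γ = 7 then cc ψ hs (X 6 (-((2 : ℤ) : K) * v)) (X 5 1)
  else 1

section unfold

variable (X : ℕ → K → Γ) (ψ : E →* Γ) (hs : Function.Surjective ψ) (h : Γ)

theorem yB_1 (v : K) : yB X ψ hs h 1 v = cc ψ hs h (X 1 v) := by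
  unfold yB
  exact if_pos (by decide)

theorem yB_2 (v : K) : yB X ψ hs h 2 v = cc ψ hs h (X 2 v) := by
  unfold yB
  exact if_pos (by decide)

theorem yB_5 (v : K) : yB X ψ hs h 5 v = cc ψ hs h (X 5 v) := by
  unfold yB
  exact if_pos (by decide)

theorem yB_6 (v : K) : yB X ψ hs h 6 v = cc ψ hs h (X 6 v) := by
  unfold yB
  exact if_pos (by decide)

theorem yB_0 (v : K) : yB X ψ hs h 0 v = cc ψ hs (X 2 (-((2 : ℤ) : K) * v)) (X 1 1) := by
  unfold yB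
  rw [if_neg (show ¬ ((0 : ℕ) = 1 ∨ (0 : ℕ) = 2 ∨ (0 : ℕ) = 5 ∨ (0 : ℕ) = 6) by decide), if_pos rfl]

theorem yB_3 (v : K) : yB X ψ hs h 3 v = cc ψ hs (X 5 (-((-2 : ℤ) : K) * v)) (X 1 1) := by
  unfold yB
  rw [if_neg (show ¬ ((3 : ℕ) = 1 ∨ (3 : ℕ) = 2 ∨ (3 : ℕ) = 5 ∨ (3 : ℕ) = 6) by decide), if_neg (show ¬ ((3 : ℕ) = 0) by decide), if_pos rfl]

theorem yB_4 (v : K) : yB X ψ hs h 4 v = cc ψ hs (X 6 (-((-2 : ℤ) : K) * v)) (X 2 1) := by
  unfold yB
  rw [if_neg (show ¬ ((4 : ℕ) = 1 ∨ (4 : ℕ) = 2 ∨ (4 : ℕ) = 5 ∨ (4 : ℕ) = 6) by decide), if_neg (show ¬ ((4 : ℕ) = 0) by decide), if_neg (show ¬ ((4 : ℕ) = 3) by decide), if_pos rfl]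

theorem yB_7 (v : K) : yB X ψ hs h 7 v = cc ψ hs (X 6 (-((2 : ℤ) : K) * v)) (X 5 1) := by
  unfold yB
  rw [if_neg (show ¬ ((7 : ℕ) = 1 ∨ (7 : ℕ) = 2 ∨ (7 : ℕ) = 5 ∨ (7 : ℕ) = 6) by decide), if_neg (show ¬ ((7 : ℕ) = 0) by decide), if_neg (show ¬ ((7 : ℕ) = 3) by decide), if_neg (show ¬ ((7 : ℕ) = 4) by decide), if_pos rfl]

theorem yB_ge (γ : ℕ) (hγ : 8 ≤ γ) (v : K) : yB X ψ hs h γ v = 1 := by
  unfold yB
  rw [if_neg (by omega), if_neg (by omega), if_neg (by omega), if_neg (by omega),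
    if_neg (by omega)]

end unfold

/-- the hypotheses on the field, on the elements `X r t` and on the diagonal element `h` -/
structure Ctx (X : ℕ → K → Γ) (ψ : E →* Γ) (h : Γ) (χ : ℕ → K) : Prop where
  hX : Rel chevB2 X
  hc : ψ.ker ≤ Subgroup.center E
  h3 : (3 : K) = 0
  hcases : ∀ t : K, t = 0 ∨ t = 1 ∨ t = -1
  hdg : Dg chevB2 X h χ
  hχ1 : χ 1 = -1
  hχ2 : χ 2 = -1
  hχ5 : χ 5 = -1
  hχ6 : χ 6 = -1
  hχ0 : χ 0 = 1
  hχ3 : χ 3 = 1
  hχ4 : χ 4 = 1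
  hχ7 : χ 7 = 1
  hh : h * h = 1

section conc

variable {X : ℕ → K → Γ} (ψ : E →* Γ) (hs : Function.Surjective ψ) {h : Γ} {χ : ℕ → K}
  (c : Ctx X ψ h χ)

include c

theorem m1 : (-1 : K) ≠ 1 := by
  intro hm
  have h1 : (1 : K) = 0 := by linear_combination hm + c.h3
  exact one_ne_zero h1

theorem hcomH (lam : ℕ) (hl : lam < chevB2.nroots) (hχ : χ lam = 1) (u : K) :
    h * X lam u = X lam u * h := by
  have := (c.hdg lam hl).2 u
  rwa [hχ, one_mul] at this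

theorem ccN_1_0 (a v : K) : cc ψ hs (X 1 a) (X 0 v) = 1 :=
  ccSL c.hX ψ hs c.hc h χ c.hdg 1 0 (by decide +kernel) (by decide +kernel) (by decide +kernel) (by decide +kernel) (by decide +kernel)
    (by rw [c.hχ1]; exact m1 ψ c) c.hχ0 a v

theorem ccN_1_3 (a v : K) : cc ψ hs (X 1 a) (X 3 v) = 1 :=
  ccSL c.hX ψ hs c.hc h χ c.hdg 1 3 (by decide +kernel) (by decide +kernel) (by decide +kernel) (by decide +kernel) (by decide +kernel)
    (by rw [c.hχ1]; exact m1 ψ c) c.hχ3 a v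

theorem ccN_2_0 (a v : K) : cc ψ hs (X 2 a) (X 0 v) = 1 :=
  ccSL c.hX ψ hs c.hc h χ c.hdg 2 0 (by decide +kernel) (by decide +kernel) (by decide +kernel) (by decide +kernel) (by decide +kernel)
    (by rw [c.hχ2]; exact m1 ψ c) c.hχ0 a v

theorem ccN_2_4 (a v : K) : cc ψ hs (X 2 a) (X 4 v) = 1 :=
  ccSL c.hX ψ hs c.hc h χ c.hdg 2 4 (by decide +kernel) (by decide +kernel) (by decide +kernel) (by decide +kernel) (by decide +kernel)
    (by rw [c.hχ2]; exact m1 ψ c) c.hχ4 a v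

theorem ccN_5_3 (a v : K) : cc ψ hs (X 5 a) (X 3 v) = 1 :=
  ccSL c.hX ψ hs c.hc h χ c.hdg 5 3 (by decide +kernel) (by decide +kernel) (by decide +kernel) (by decide +kernel) (by decide +kernel)
    (by rw [c.hχ5]; exact m1 ψ c) c.hχ3 a v

theorem ccN_5_7 (a v : K) : cc ψ hs (X 5 a) (X 7 v) = 1 :=
  ccSL c.hX ψ hs c.hc h χ c.hdg 5 7 (by decide +kernel) (by decide +kernel) (by decide +kernel) (by decide +kernel) (by decide +kernel)
    (by rw [c.hχ5]; exact m1 ψ c) c.hχ7 a v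

theorem ccN_6_4 (a v : K) : cc ψ hs (X 6 a) (X 4 v) = 1 :=
  ccSL c.hX ψ hs c.hc h χ c.hdg 6 4 (by decide +kernel) (by decide +kernel) (by decide +kernel) (by decide +kernel) (by decide +kernel)
    (by rw [c.hχ6]; exact m1 ψ c) c.hχ4 a v

theorem ccN_6_7 (a v : K) : cc ψ hs (X 6 a) (X 7 v) = 1 :=
  ccSL c.hX ψ hs c.hc h χ c.hdg 6 7 (by decide +kernel) (by decide +kernel) (by decide +kernel) (by decide +kernel) (by decide +kernel)
    (by rw [c.hχ6]; exact m1 ψ c) c.hχ7 a v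

theorem ccN_0_1 (v a : K) : cc ψ hs (X 0 v) (X 1 a) = 1 :=
  cc_swap_one ψ hs _ _ (ccN_1_0 ψ hs c a v)

theorem ccN_0_2 (v a : K) : cc ψ hs (X 0 v) (X 2 a) = 1 :=
  cc_swap_one ψ hs _ _ (ccN_2_0 ψ hs c a v)

theorem ccN_3_1 (v a : K) : cc ψ hs (X 3 v) (X 1 a) = 1 :=
  cc_swap_one ψ hs _ _ (ccN_1_3 ψ hs c a v)

theorem ccN_3_5 (v a : K) : cc ψ hs (X 3 v) (X 5 a) = 1 :=
  cc_swap_one ψ hs _ _ (ccN_5_3 ψ hs c a v)

theorem ccN_4_2 (v a : K) : cc ψ hs (X 4 v) (X 2 a) = 1 :=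
  cc_swap_one ψ hs _ _ (ccN_2_4 ψ hs c a v)

theorem ccN_4_6 (v a : K) : cc ψ hs (X 4 v) (X 6 a) = 1 :=
  cc_swap_one ψ hs _ _ (ccN_6_4 ψ hs c a v)

theorem ccN_7_5 (v a : K) : cc ψ hs (X 7 v) (X 5 a) = 1 :=
  cc_swap_one ψ hs _ _ (ccN_5_7 ψ hs c a v)

theorem ccN_7_6 (v a : K) : cc ψ hs (X 7 v) (X 6 a) = 1 :=
  cc_swap_one ψ hs _ _ (ccN_6_7 ψ hs c a v)

theorem ccN_0_3 (τ v : K) : cc ψ hs (X 0 τ) (X 3 v) = 1 :=
  ccLL c.hX ψ hs c.hc c.hcases 0 3 1 5 (-2) 1 (-1) (by decide +kernel) (by decide +kernel) (by decide +kernel) (by decide +kernel) (by decide +kernel) (by decide +kernel)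
    (by decide +kernel) (by decide +kernel) (by decide +kernel) (by decide +kernel) (by decide +kernel) (by decide +kernel) (by decide +kernel) (by decide +kernel)
    (by decide +kernel) (by decide +kernel) (by push_cast; linear_combination c.h3)
    (fun c0 t => ccN_3_1 ψ hs c c0 t) τ v

theorem ccN_0_4 (τ v : K) : cc ψ hs (X 0 τ) (X 4 v) = 1 :=
  ccLL c.hX ψ hs c.hc c.hcases 0 4 2 6 (-2) (-1) 1 (by decide +kernel) (by decide +kernel) (by decide +kernel) (by decide +kernel) (by decide +kernel) (by decide +kernel)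
    (by decide +kernel) (by decide +kernel) (by decide +kernel) (by decide +kernel) (by decide +kernel) (by decide +kernel) (by decide +kernel) (by decide +kernel)
    (by decide +kernel) (by decide +kernel) (by push_cast; linear_combination c.h3)
    (fun c0 t => ccN_4_2 ψ hs c c0 t) τ v

theorem ccN_3_0 (τ v : K) : cc ψ hs (X 3 τ) (X 0 v) = 1 :=
  ccLL c.hX ψ hs c.hc c.hcases 3 0 1 2 2 (-1) (-1) (by decide +kernel) (by decide +kernel) (by decide +kernel) (by decide +kernel) (by decide +kernel) (by decide +kernel)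
    (by decide +kernel) (by decide +kernel) (by decide +kernel) (by decide +kernel) (by decide +kernel) (by decide +kernel) (by decide +kernel) (by decide +kernel)
    (by decide +kernel) (by decide +kernel) (by push_cast; linear_combination c.h3)
    (fun c0 t => ccN_0_1 ψ hs c c0 t) τ v

theorem ccN_3_7 (τ v : K) : cc ψ hs (X 3 τ) (X 7 v) = 1 :=
  ccLL c.hX ψ hs c.hc c.hcases 3 7 5 6 2 1 1 (by decide +kernel) (by decide +kernel) (by decide +kernel) (by decide +kernel) (by decide +kernel) (by decide +kernel)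
    (by decide +kernel) (by decide +kernel) (by decide +kernel) (by decide +kernel) (by decide +kernel) (by decide +kernel) (by decide +kernel) (by decide +kernel)
    (by decide +kernel) (by decide +kernel) (by push_cast; linear_combination c.h3)
    (fun c0 t => ccN_7_5 ψ hs c c0 t) τ v

theorem ccN_4_0 (τ v : K) : cc ψ hs (X 4 τ) (X 0 v) = 1 :=
  ccLL c.hX ψ hs c.hc c.hcases 4 0 2 1 (-2) (-1) 1 (by decide +kernel) (by decide +kernel) (by decide +kernel) (by decide +kernel) (by decide +kernel) (by decide +kernel)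
    (by decide +kernel) (by decide +kernel) (by decide +kernel) (by decide +kernel) (by decide +kernel) (by decide +kernel) (by decide +kernel) (by decide +kernel)
    (by decide +kernel) (by decide +kernel) (by push_cast; linear_combination c.h3)
    (fun c0 t => ccN_0_2 ψ hs c c0 t) τ v

theorem ccN_4_7 (τ v : K) : cc ψ hs (X 4 τ) (X 7 v) = 1 :=
  ccLL c.hX ψ hs c.hc c.hcases 4 7 6 5 (-2) 1 (-1) (by decide +kernel) (by decide +kernel) (by decide +kernel) (by decide +kernel) (by decide +kernel) (by decide +kernel)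
    (by decide +kernel) (by decide +kernel) (by decide +kernel) (by decide +kernel) (by decide +kernel) (by decide +kernel) (by decide +kernel) (by decide +kernel)
    (by decide +kernel) (by decide +kernel) (by push_cast; linear_combination c.h3)
    (fun c0 t => ccN_7_6 ψ hs c c0 t) τ v

theorem ccN_7_3 (τ v : K) : cc ψ hs (X 7 τ) (X 3 v) = 1 :=
  ccLL c.hX ψ hs c.hc c.hcases 7 3 5 1 2 1 1 (by decide +kernel) (by decide +kernel) (by decide +kernel) (by decide +kernel) (by decide +kernel) (by decide +kernel)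
    (by decide +kernel) (by decide +kernel) (by decide +kernel) (by decide +kernel) (by decide +kernel) (by decide +kernel) (by decide +kernel) (by decide +kernel)
    (by decide +kernel) (by decide +kernel) (by push_cast; linear_combination c.h3)
    (fun c0 t => ccN_3_5 ψ hs c c0 t) τ v

theorem ccN_7_4 (τ v : K) : cc ψ hs (X 7 τ) (X 4 v) = 1 :=
  ccLL c.hX ψ hs c.hc c.hcases 7 4 6 2 2 (-1) (-1) (by decide +kernel) (by decide +kernel) (by decide +kernel) (by decide +kernel) (by decide +kernel) (by decide +kernel)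
    (by decide +kernel) (by decide +kernel) (by decide +kernel) (by decide +kernel) (by decide +kernel) (by decide +kernel) (by decide +kernel) (by decide +kernel)
    (by decide +kernel) (by decide +kernel) (by push_cast; linear_combination c.h3)
    (fun c0 t => ccN_4_6 ψ hs c c0 t) τ v

theorem e5_0 (u t : K) : cc ψ hs (X 2 u) (X 1 t) = yB X ψ hs h 0 (-((2 : ℤ) : K) * u * t) :=
  E5 c.hX ψ hs c.hc 1 2 0 2 (by decide +kernel) (by decide +kernel) (by decide +kernel) (by decide +kernel) (by decide +kernel)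
    (fun t w => ccN_1_0 ψ hs c t w) (fun u w => ccN_2_0 ψ hs c u w)
    (yB X ψ hs h) (fun v => yB_0 X ψ hs h v) (by push_cast; linear_combination c.h3) c.hcases u t

theorem psiL_0 (v : K) : ψ (yB X ψ hs h 0 v) = X 0 v :=
  psi_YL c.hX ψ hs 1 2 0 2 (by decide +kernel) (by decide +kernel) (by decide +kernel) (by decide +kernel) (by decide +kernel)
    (yB X ψ hs h) (fun v => yB_0 X ψ hs h v) (by push_cast; linear_combination c.h3) v

theorem addL_0 (v v' : K) : yB X ψ hs h 0 v * yB X ψ hs h 0 v' = yB X ψ hs h 0 (v + v') :=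
  YL_add c.hX ψ hs c.hc 1 2 0 2 (by decide +kernel) (by decide +kernel) (by decide +kernel) (by decide +kernel) (by decide +kernel)
    (fun u w => ccN_2_0 ψ hs c u w) (yB X ψ hs h) (fun v => yB_0 X ψ hs h v) v v'

theorem e8_0 (t u : K) : cc ψ hs (X 1 t) (X 2 u) = yB X ψ hs h 0 (-((-2 : ℤ) : K) * t * u) :=
  E8 c.hX ψ hs c.hc 1 2 0 2 (by decide +kernel) (by decide +kernel) (by decide +kernel) (by decide +kernel) (by decide +kernel)
    (fun t w => ccN_1_0 ψ hs c t w) (fun u w => ccN_2_0 ψ hs c u w)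
    (yB X ψ hs h) (fun v => yB_0 X ψ hs h v) (by push_cast; linear_combination c.h3) c.hcases (-2) (by push_cast; ring) t u

theorem e5_3 (u t : K) : cc ψ hs (X 5 u) (X 1 t) = yB X ψ hs h 3 (-((-2 : ℤ) : K) * u * t) :=
  E5 c.hX ψ hs c.hc 1 5 3 (-2) (by decide +kernel) (by decide +kernel) (by decide +kernel) (by decide +kernel) (by decide +kernel)
    (fun t w => ccN_1_3 ψ hs c t w) (fun u w => ccN_5_3 ψ hs c u w)
    (yB X ψ hs h) (fun v => yB_3 X ψ hs h v) (by push_cast; linear_combination c.h3) c.hcases u t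

theorem psiL_3 (v : K) : ψ (yB X ψ hs h 3 v) = X 3 v :=
  psi_YL c.hX ψ hs 1 5 3 (-2) (by decide +kernel) (by decide +kernel) (by decide +kernel) (by decide +kernel) (by decide +kernel)
    (yB X ψ hs h) (fun v => yB_3 X ψ hs h v) (by push_cast; linear_combination c.h3) v

theorem addL_3 (v v' : K) : yB X ψ hs h 3 v * yB X ψ hs h 3 v' = yB X ψ hs h 3 (v + v') :=
  YL_add c.hX ψ hs c.hc 1 5 3 (-2) (by decide +kernel) (by decide +kernel) (by decide +kernel) (by decide +kernel) (by decide +kernel)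
    (fun u w => ccN_5_3 ψ hs c u w) (yB X ψ hs h) (fun v => yB_3 X ψ hs h v) v v'

theorem e8_3 (t u : K) : cc ψ hs (X 1 t) (X 5 u) = yB X ψ hs h 3 (-((2 : ℤ) : K) * t * u) :=
  E8 c.hX ψ hs c.hc 1 5 3 (-2) (by decide +kernel) (by decide +kernel) (by decide +kernel) (by decide +kernel) (by decide +kernel)
    (fun t w => ccN_1_3 ψ hs c t w) (fun u w => ccN_5_3 ψ hs c u w)
    (yB X ψ hs h) (fun v => yB_3 X ψ hs h v) (by push_cast; linear_combination c.h3) c.hcases 2 (by push_cast; ring) t u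

theorem e5_4 (u t : K) : cc ψ hs (X 6 u) (X 2 t) = yB X ψ hs h 4 (-((-2 : ℤ) : K) * u * t) :=
  E5 c.hX ψ hs c.hc 2 6 4 (-2) (by decide +kernel) (by decide +kernel) (by decide +kernel) (by decide +kernel) (by decide +kernel)
    (fun t w => ccN_2_4 ψ hs c t w) (fun u w => ccN_6_4 ψ hs c u w)
    (yB X ψ hs h) (fun v => yB_4 X ψ hs h v) (by push_cast; linear_combination c.h3) c.hcases u t

theorem psiL_4 (v : K) : ψ (yB X ψ hs h 4 v) = X 4 v :=
  psi_YL c.hX ψ hs 2 6 4 (-2) (by decide +kernel) (by decide +kernel) (by decide +kernel) (by decide +kernel) (by decide +kernel)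
    (yB X ψ hs h) (fun v => yB_4 X ψ hs h v) (by push_cast; linear_combination c.h3) v

theorem addL_4 (v v' : K) : yB X ψ hs h 4 v * yB X ψ hs h 4 v' = yB X ψ hs h 4 (v + v') :=
  YL_add c.hX ψ hs c.hc 2 6 4 (-2) (by decide +kernel) (by decide +kernel) (by decide +kernel) (by decide +kernel) (by decide +kernel)
    (fun u w => ccN_6_4 ψ hs c u w) (yB X ψ hs h) (fun v => yB_4 X ψ hs h v) v v'

theorem e8_4 (t u : K) : cc ψ hs (X 2 t) (X 6 u) = yB X ψ hs h 4 (-((2 : ℤ) : K) * t * u) :=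
  E8 c.hX ψ hs c.hc 2 6 4 (-2) (by decide +kernel) (by decide +kernel) (by decide +kernel) (by decide +kernel) (by decide +kernel)
    (fun t w => ccN_2_4 ψ hs c t w) (fun u w => ccN_6_4 ψ hs c u w)
    (yB X ψ hs h) (fun v => yB_4 X ψ hs h v) (by push_cast; linear_combination c.h3) c.hcases 2 (by push_cast; ring) t u

theorem e5_7 (u t : K) : cc ψ hs (X 6 u) (X 5 t) = yB X ψ hs h 7 (-((2 : ℤ) : K) * u * t) :=
  E5 c.hX ψ hs c.hc 5 6 7 2 (by decide +kernel) (by decide +kernel) (by decide +kernel) (by decide +kernel) (by decide +kernel)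
    (fun t w => ccN_5_7 ψ hs c t w) (fun u w => ccN_6_7 ψ hs c u w)
    (yB X ψ hs h) (fun v => yB_7 X ψ hs h v) (by push_cast; linear_combination c.h3) c.hcases u t

theorem psiL_7 (v : K) : ψ (yB X ψ hs h 7 v) = X 7 v :=
  psi_YL c.hX ψ hs 5 6 7 2 (by decide +kernel) (by decide +kernel) (by decide +kernel) (by decide +kernel) (by decide +kernel)
    (yB X ψ hs h) (fun v => yB_7 X ψ hs h v) (by push_cast; linear_combination c.h3) v

theorem addL_7 (v v' : K) : yB X ψ hs h 7 v * yB X ψ hs h 7 v' = yB X ψ hs h 7 (v + v') :=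
  YL_add c.hX ψ hs c.hc 5 6 7 2 (by decide +kernel) (by decide +kernel) (by decide +kernel) (by decide +kernel) (by decide +kernel)
    (fun u w => ccN_6_7 ψ hs c u w) (yB X ψ hs h) (fun v => yB_7 X ψ hs h v) v v'

theorem e8_7 (t u : K) : cc ψ hs (X 5 t) (X 6 u) = yB X ψ hs h 7 (-((-2 : ℤ) : K) * t * u) :=
  E8 c.hX ψ hs c.hc 5 6 7 2 (by decide +kernel) (by decide +kernel) (by decide +kernel) (by decide +kernel) (by decide +kernel)
    (fun t w => ccN_5_7 ψ hs c t w) (fun u w => ccN_6_7 ψ hs c u w)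
    (yB X ψ hs h) (fun v => yB_7 X ψ hs h v) (by push_cast; linear_combination c.h3) c.hcases (-2) (by push_cast; ring) t u

theorem psiS_1 (t : K) : ψ (yB X ψ hs h 1 t) = X 1 t := by
  rw [yB_1]
  exact psi_YS c.hX ψ hs h χ c.hdg c.h3 1 (by decide +kernel) c.hχ1 t

theorem addS_1 (t u : K) : yB X ψ hs h 1 t * yB X ψ hs h 1 u = yB X ψ hs h 1 (t + u) := by
  rw [yB_1, yB_1, yB_1]
  exact YS_add c.hX ψ hs c.hc h χ c.hdg c.hcases c.h3 1 (by decide +kernel) c.hχ1 t u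

theorem psiS_2 (t : K) : ψ (yB X ψ hs h 2 t) = X 2 t := by
  rw [yB_2]
  exact psi_YS c.hX ψ hs h χ c.hdg c.h3 2 (by decide +kernel) c.hχ2 t

theorem addS_2 (t u : K) : yB X ψ hs h 2 t * yB X ψ hs h 2 u = yB X ψ hs h 2 (t + u) := by
  rw [yB_2, yB_2, yB_2]
  exact YS_add c.hX ψ hs c.hc h χ c.hdg c.hcases c.h3 2 (by decide +kernel) c.hχ2 t u

theorem psiS_5 (t : K) : ψ (yB X ψ hs h 5 t) = X 5 t := by
  rw [yB_5]
  exact psi_YS c.hX ψ hs h χ c.hdg c.h3 5 (by decide +kernel) c.hχ5 t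

theorem addS_5 (t u : K) : yB X ψ hs h 5 t * yB X ψ hs h 5 u = yB X ψ hs h 5 (t + u) := by
  rw [yB_5, yB_5, yB_5]
  exact YS_add c.hX ψ hs c.hc h χ c.hdg c.hcases c.h3 5 (by decide +kernel) c.hχ5 t u

theorem psiS_6 (t : K) : ψ (yB X ψ hs h 6 t) = X 6 t := by
  rw [yB_6]
  exact psi_YS c.hX ψ hs h χ c.hdg c.h3 6 (by decide +kernel) c.hχ6 t

theorem addS_6 (t u : K) : yB X ψ hs h 6 t * yB X ψ hs h 6 u = yB X ψ hs h 6 (t + u) := by
  rw [yB_6, yB_6, yB_6]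
  exact YS_add c.hX ψ hs c.hc h χ c.hdg c.hcases c.h3 6 (by decide +kernel) c.hχ6 t u

theorem yadd (r : ℕ) (t u : K) : yB X ψ hs h r t * yB X ψ hs h r u = yB X ψ hs h r (t + u) := by
  rcases Nat.lt_or_ge r 8 with hr | hr
  · interval_cases r
    · exact addL_0 ψ hs c t u
    · exact addS_1 ψ hs c t u
    · exact addS_2 ψ hs c t u
    · exact addL_3 ψ hs c t u
    · exact addL_4 ψ hs c t u
    · exact addS_5 ψ hs c t u
    · exact addS_6 ψ hs c t u
    · exact addL_7 ψ hs c t u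
  · rw [yB_ge X ψ hs h r hr, yB_ge X ψ hs h r hr, yB_ge X ψ hs h r hr, mul_one]

theorem ypsi (r : ℕ) (hr : r < 8) (t : K) : ψ (yB X ψ hs h r t) = X r t := by
  interval_cases r
  · exact psiL_0 ψ hs c t
  · exact psiS_1 ψ hs c t
  · exact psiS_2 ψ hs c t
  · exact psiL_3 ψ hs c t
  · exact psiL_4 ψ hs c t
  · exact psiS_5 ψ hs c t
  · exact psiS_6 ψ hs c t
  · exact psiL_7 ψ hs c t

theorem yinv (r : ℕ) (w : K) : (yB X ψ hs h r w)⁻¹ = yB X ψ hs h r (-w) :=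
  Y_inv_of_add (yB X ψ hs h) (fun r t u => yadd ψ hs c r t u) r w

theorem ycomm (r s : ℕ) (hr : r < 8) (hs' : s < 8)
    (hcc : ∀ t u : K, cc ψ hs (X r t) (X s u) = 1) (t u : K) :
    yB X ψ hs h r t * yB X ψ hs h s u = yB X ψ hs h s u * yB X ψ hs h r t :=
  comm_of_cc ψ hs c.hc _ _ _ _ (ypsi ψ hs c r hr t) (ypsi ψ hs c s hs' u) (hcc t u)

theorem cm_0_1 (t u : K) : yB X ψ hs h 1 u * yB X ψ hs h 0 t =
    yB X ψ hs h 0 t * yB X ψ hs h 1 u * wd (yB X ψ hs h) (chevB2.commWord K 0 1 t u) :=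
  rel_nil ψ hs c.hc (yB X ψ hs h) 0 1 (by decide +kernel) (fun t => ypsi ψ hs c 0 (by norm_num) t) (fun t => ypsi ψ hs c 1 (by norm_num) t)
    (fun t u => ccN_0_1 ψ hs c t u) t u

theorem cm_0_2 (t u : K) : yB X ψ hs h 2 u * yB X ψ hs h 0 t =
    yB X ψ hs h 0 t * yB X ψ hs h 2 u * wd (yB X ψ hs h) (chevB2.commWord K 0 2 t u) :=
  rel_nil ψ hs c.hc (yB X ψ hs h) 0 2 (by decide +kernel) (fun t => ypsi ψ hs c 0 (by norm_num) t) (fun t => ypsi ψ hs c 2 (by norm_num) t)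
    (fun t u => ccN_0_2 ψ hs c t u) t u

theorem cm_0_3 (t u : K) : yB X ψ hs h 3 u * yB X ψ hs h 0 t =
    yB X ψ hs h 0 t * yB X ψ hs h 3 u * wd (yB X ψ hs h) (chevB2.commWord K 0 3 t u) :=
  rel_nil ψ hs c.hc (yB X ψ hs h) 0 3 (by decide +kernel) (fun t => ypsi ψ hs c 0 (by norm_num) t) (fun t => ypsi ψ hs c 3 (by norm_num) t)
    (fun t u => ccN_0_3 ψ hs c t u) t u

theorem cm_0_4 (t u : K) : yB X ψ hs h 4 u * yB X ψ hs h 0 t =
    yB X ψ hs h 0 t * yB X ψ hs h 4 u * wd (yB X ψ hs h) (chevB2.commWord K 0 4 t u) :=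
  rel_nil ψ hs c.hc (yB X ψ hs h) 0 4 (by decide +kernel) (fun t => ypsi ψ hs c 0 (by norm_num) t) (fun t => ypsi ψ hs c 4 (by norm_num) t)
    (fun t u => ccN_0_4 ψ hs c t u) t u

theorem cm_1_0 (t u : K) : yB X ψ hs h 0 u * yB X ψ hs h 1 t =
    yB X ψ hs h 1 t * yB X ψ hs h 0 u * wd (yB X ψ hs h) (chevB2.commWord K 1 0 t u) :=
  rel_nil ψ hs c.hc (yB X ψ hs h) 1 0 (by decide +kernel) (fun t => ypsi ψ hs c 1 (by norm_num) t) (fun t => ypsi ψ hs c 0 (by norm_num) t)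
    (fun t u => ccN_1_0 ψ hs c t u) t u

theorem cm_1_3 (t u : K) : yB X ψ hs h 3 u * yB X ψ hs h 1 t =
    yB X ψ hs h 1 t * yB X ψ hs h 3 u * wd (yB X ψ hs h) (chevB2.commWord K 1 3 t u) :=
  rel_nil ψ hs c.hc (yB X ψ hs h) 1 3 (by decide +kernel) (fun t => ypsi ψ hs c 1 (by norm_num) t) (fun t => ypsi ψ hs c 3 (by norm_num) t)
    (fun t u => ccN_1_3 ψ hs c t u) t u

theorem cm_2_0 (t u : K) : yB X ψ hs h 0 u * yB X ψ hs h 2 t =
    yB X ψ hs h 2 t * yB X ψ hs h 0 u * wd (yB X ψ hs h) (chevB2.commWord K 2 0 t u) :=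
  rel_nil ψ hs c.hc (yB X ψ hs h) 2 0 (by decide +kernel) (fun t => ypsi ψ hs c 2 (by norm_num) t) (fun t => ypsi ψ hs c 0 (by norm_num) t)
    (fun t u => ccN_2_0 ψ hs c t u) t u

theorem cm_2_4 (t u : K) : yB X ψ hs h 4 u * yB X ψ hs h 2 t =
    yB X ψ hs h 2 t * yB X ψ hs h 4 u * wd (yB X ψ hs h) (chevB2.commWord K 2 4 t u) :=
  rel_nil ψ hs c.hc (yB X ψ hs h) 2 4 (by decide +kernel) (fun t => ypsi ψ hs c 2 (by norm_num) t) (fun t => ypsi ψ hs c 4 (by norm_num) t)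
    (fun t u => ccN_2_4 ψ hs c t u) t u

theorem cm_3_0 (t u : K) : yB X ψ hs h 0 u * yB X ψ hs h 3 t =
    yB X ψ hs h 3 t * yB X ψ hs h 0 u * wd (yB X ψ hs h) (chevB2.commWord K 3 0 t u) :=
  rel_nil ψ hs c.hc (yB X ψ hs h) 3 0 (by decide +kernel) (fun t => ypsi ψ hs c 3 (by norm_num) t) (fun t => ypsi ψ hs c 0 (by norm_num) t)
    (fun t u => ccN_3_0 ψ hs c t u) t u

theorem cm_3_1 (t u : K) : yB X ψ hs h 1 u * yB X ψ hs h 3 t =
    yB X ψ hs h 3 t * yB X ψ hs h 1 u * wd (yB X ψ hs h) (chevB2.commWord K 3 1 t u) :=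
  rel_nil ψ hs c.hc (yB X ψ hs h) 3 1 (by decide +kernel) (fun t => ypsi ψ hs c 3 (by norm_num) t) (fun t => ypsi ψ hs c 1 (by norm_num) t)
    (fun t u => ccN_3_1 ψ hs c t u) t u

theorem cm_3_5 (t u : K) : yB X ψ hs h 5 u * yB X ψ hs h 3 t =
    yB X ψ hs h 3 t * yB X ψ hs h 5 u * wd (yB X ψ hs h) (chevB2.commWord K 3 5 t u) :=
  rel_nil ψ hs c.hc (yB X ψ hs h) 3 5 (by decide +kernel) (fun t => ypsi ψ hs c 3 (by norm_num) t) (fun t => ypsi ψ hs c 5 (by norm_num) t)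
    (fun t u => ccN_3_5 ψ hs c t u) t u

theorem cm_3_7 (t u : K) : yB X ψ hs h 7 u * yB X ψ hs h 3 t =
    yB X ψ hs h 3 t * yB X ψ hs h 7 u * wd (yB X ψ hs h) (chevB2.commWord K 3 7 t u) :=
  rel_nil ψ hs c.hc (yB X ψ hs h) 3 7 (by decide +kernel) (fun t => ypsi ψ hs c 3 (by norm_num) t) (fun t => ypsi ψ hs c 7 (by norm_num) t)
    (fun t u => ccN_3_7 ψ hs c t u) t u

theorem cm_4_0 (t u : K) : yB X ψ hs h 0 u * yB X ψ hs h 4 t =
    yB X ψ hs h 4 t * yB X ψ hs h 0 u * wd (yB X ψ hs h) (chevB2.commWord K 4 0 t u) :=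
  rel_nil ψ hs c.hc (yB X ψ hs h) 4 0 (by decide +kernel) (fun t => ypsi ψ hs c 4 (by norm_num) t) (fun t => ypsi ψ hs c 0 (by norm_num) t)
    (fun t u => ccN_4_0 ψ hs c t u) t u

theorem cm_4_2 (t u : K) : yB X ψ hs h 2 u * yB X ψ hs h 4 t =
    yB X ψ hs h 4 t * yB X ψ hs h 2 u * wd (yB X ψ hs h) (chevB2.commWord K 4 2 t u) :=
  rel_nil ψ hs c.hc (yB X ψ hs h) 4 2 (by decide +kernel) (fun t => ypsi ψ hs c 4 (by norm_num) t) (fun t => ypsi ψ hs c 2 (by norm_num) t)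
    (fun t u => ccN_4_2 ψ hs c t u) t u

theorem cm_4_6 (t u : K) : yB X ψ hs h 6 u * yB X ψ hs h 4 t =
    yB X ψ hs h 4 t * yB X ψ hs h 6 u * wd (yB X ψ hs h) (chevB2.commWord K 4 6 t u) :=
  rel_nil ψ hs c.hc (yB X ψ hs h) 4 6 (by decide +kernel) (fun t => ypsi ψ hs c 4 (by norm_num) t) (fun t => ypsi ψ hs c 6 (by norm_num) t)
    (fun t u => ccN_4_6 ψ hs c t u) t u

theorem cm_4_7 (t u : K) : yB X ψ hs h 7 u * yB X ψ hs h 4 t =
    yB X ψ hs h 4 t * yB X ψ hs h 7 u * wd (yB X ψ hs h) (chevB2.commWord K 4 7 t u) :=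
  rel_nil ψ hs c.hc (yB X ψ hs h) 4 7 (by decide +kernel) (fun t => ypsi ψ hs c 4 (by norm_num) t) (fun t => ypsi ψ hs c 7 (by norm_num) t)
    (fun t u => ccN_4_7 ψ hs c t u) t u

theorem cm_5_3 (t u : K) : yB X ψ hs h 3 u * yB X ψ hs h 5 t =
    yB X ψ hs h 5 t * yB X ψ hs h 3 u * wd (yB X ψ hs h) (chevB2.commWord K 5 3 t u) :=
  rel_nil ψ hs c.hc (yB X ψ hs h) 5 3 (by decide +kernel) (fun t => ypsi ψ hs c 5 (by norm_num) t) (fun t => ypsi ψ hs c 3 (by norm_num) t)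
    (fun t u => ccN_5_3 ψ hs c t u) t u

theorem cm_5_7 (t u : K) : yB X ψ hs h 7 u * yB X ψ hs h 5 t =
    yB X ψ hs h 5 t * yB X ψ hs h 7 u * wd (yB X ψ hs h) (chevB2.commWord K 5 7 t u) :=
  rel_nil ψ hs c.hc (yB X ψ hs h) 5 7 (by decide +kernel) (fun t => ypsi ψ hs c 5 (by norm_num) t) (fun t => ypsi ψ hs c 7 (by norm_num) t)
    (fun t u => ccN_5_7 ψ hs c t u) t u

theorem cm_6_4 (t u : K) : yB X ψ hs h 4 u * yB X ψ hs h 6 t =
    yB X ψ hs h 6 t * yB X ψ hs h 4 u * wd (yB X ψ hs h) (chevB2.commWord K 6 4 t u) :=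
  rel_nil ψ hs c.hc (yB X ψ hs h) 6 4 (by decide +kernel) (fun t => ypsi ψ hs c 6 (by norm_num) t) (fun t => ypsi ψ hs c 4 (by norm_num) t)
    (fun t u => ccN_6_4 ψ hs c t u) t u

theorem cm_6_7 (t u : K) : yB X ψ hs h 7 u * yB X ψ hs h 6 t =
    yB X ψ hs h 6 t * yB X ψ hs h 7 u * wd (yB X ψ hs h) (chevB2.commWord K 6 7 t u) :=
  rel_nil ψ hs c.hc (yB X ψ hs h) 6 7 (by decide +kernel) (fun t => ypsi ψ hs c 6 (by norm_num) t) (fun t => ypsi ψ hs c 7 (by norm_num) t)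
    (fun t u => ccN_6_7 ψ hs c t u) t u

theorem cm_7_3 (t u : K) : yB X ψ hs h 3 u * yB X ψ hs h 7 t =
    yB X ψ hs h 7 t * yB X ψ hs h 3 u * wd (yB X ψ hs h) (chevB2.commWord K 7 3 t u) :=
  rel_nil ψ hs c.hc (yB X ψ hs h) 7 3 (by decide +kernel) (fun t => ypsi ψ hs c 7 (by norm_num) t) (fun t => ypsi ψ hs c 3 (by norm_num) t)
    (fun t u => ccN_7_3 ψ hs c t u) t u

theorem cm_7_4 (t u : K) : yB X ψ hs h 4 u * yB X ψ hs h 7 t =
    yB X ψ hs h 7 t * yB X ψ hs h 4 u * wd (yB X ψ hs h) (chevB2.commWord K 7 4 t u) :=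
  rel_nil ψ hs c.hc (yB X ψ hs h) 7 4 (by decide +kernel) (fun t => ypsi ψ hs c 7 (by norm_num) t) (fun t => ypsi ψ hs c 4 (by norm_num) t)
    (fun t u => ccN_7_4 ψ hs c t u) t u

theorem cm_7_5 (t u : K) : yB X ψ hs h 5 u * yB X ψ hs h 7 t =
    yB X ψ hs h 7 t * yB X ψ hs h 5 u * wd (yB X ψ hs h) (chevB2.commWord K 7 5 t u) :=
  rel_nil ψ hs c.hc (yB X ψ hs h) 7 5 (by decide +kernel) (fun t => ypsi ψ hs c 7 (by norm_num) t) (fun t => ypsi ψ hs c 5 (by norm_num) t)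
    (fun t u => ccN_7_5 ψ hs c t u) t u

theorem cm_7_6 (t u : K) : yB X ψ hs h 6 u * yB X ψ hs h 7 t =
    yB X ψ hs h 7 t * yB X ψ hs h 6 u * wd (yB X ψ hs h) (chevB2.commWord K 7 6 t u) :=
  rel_nil ψ hs c.hc (yB X ψ hs h) 7 6 (by decide +kernel) (fun t => ypsi ψ hs c 7 (by norm_num) t) (fun t => ypsi ψ hs c 6 (by norm_num) t)
    (fun t u => ccN_7_6 ψ hs c t u) t u

theorem cm_1_2 (t u : K) : yB X ψ hs h 2 u * yB X ψ hs h 1 t =
    yB X ψ hs h 1 t * yB X ψ hs h 2 u * wd (yB X ψ hs h) (chevB2.commWord K 1 2 t u) :=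
  relE c.hX ψ hs c.hc (yB X ψ hs h) 1 2 0 2 (by decide +kernel) (fun t => ypsi ψ hs c 1 (by norm_num) t) (fun t => ypsi ψ hs c 2 (by norm_num) t)
    (fun u t => e5_0 ψ hs c u t) t u

theorem cm_2_1 (t u : K) : yB X ψ hs h 1 u * yB X ψ hs h 2 t =
    yB X ψ hs h 2 t * yB X ψ hs h 1 u * wd (yB X ψ hs h) (chevB2.commWord K 2 1 t u) :=
  relE' c.hX ψ hs c.hc (yB X ψ hs h) 1 2 0 2 (-2) (by decide +kernel) (by push_cast; ring) (fun t => ypsi ψ hs c 1 (by norm_num) t) (fun t => ypsi ψ hs c 2 (by norm_num) t)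
    (fun u t => e5_0 ψ hs c u t) (fun w => yinv ψ hs c 0 w) t u

theorem cm_1_5 (t u : K) : yB X ψ hs h 5 u * yB X ψ hs h 1 t =
    yB X ψ hs h 1 t * yB X ψ hs h 5 u * wd (yB X ψ hs h) (chevB2.commWord K 1 5 t u) :=
  relE c.hX ψ hs c.hc (yB X ψ hs h) 1 5 3 (-2) (by decide +kernel) (fun t => ypsi ψ hs c 1 (by norm_num) t) (fun t => ypsi ψ hs c 5 (by norm_num) t)
    (fun u t => e5_3 ψ hs c u t) t u

theorem cm_5_1 (t u : K) : yB X ψ hs h 1 u * yB X ψ hs h 5 t =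
    yB X ψ hs h 5 t * yB X ψ hs h 1 u * wd (yB X ψ hs h) (chevB2.commWord K 5 1 t u) :=
  relE' c.hX ψ hs c.hc (yB X ψ hs h) 1 5 3 (-2) 2 (by decide +kernel) (by push_cast; ring) (fun t => ypsi ψ hs c 1 (by norm_num) t) (fun t => ypsi ψ hs c 5 (by norm_num) t)
    (fun u t => e5_3 ψ hs c u t) (fun w => yinv ψ hs c 3 w) t u

theorem cm_2_6 (t u : K) : yB X ψ hs h 6 u * yB X ψ hs h 2 t =
    yB X ψ hs h 2 t * yB X ψ hs h 6 u * wd (yB X ψ hs h) (chevB2.commWord K 2 6 t u) :=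
  relE c.hX ψ hs c.hc (yB X ψ hs h) 2 6 4 (-2) (by decide +kernel) (fun t => ypsi ψ hs c 2 (by norm_num) t) (fun t => ypsi ψ hs c 6 (by norm_num) t)
    (fun u t => e5_4 ψ hs c u t) t u

theorem cm_6_2 (t u : K) : yB X ψ hs h 2 u * yB X ψ hs h 6 t =
    yB X ψ hs h 6 t * yB X ψ hs h 2 u * wd (yB X ψ hs h) (chevB2.commWord K 6 2 t u) :=
  relE' c.hX ψ hs c.hc (yB X ψ hs h) 2 6 4 (-2) 2 (by decide +kernel) (by push_cast; ring) (fun t => ypsi ψ hs c 2 (by norm_num) t) (fun t => ypsi ψ hs c 6 (by norm_num) t)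
    (fun u t => e5_4 ψ hs c u t) (fun w => yinv ψ hs c 4 w) t u

theorem cm_5_6 (t u : K) : yB X ψ hs h 6 u * yB X ψ hs h 5 t =
    yB X ψ hs h 5 t * yB X ψ hs h 6 u * wd (yB X ψ hs h) (chevB2.commWord K 5 6 t u) :=
  relE c.hX ψ hs c.hc (yB X ψ hs h) 5 6 7 2 (by decide +kernel) (fun t => ypsi ψ hs c 5 (by norm_num) t) (fun t => ypsi ψ hs c 6 (by norm_num) t)
    (fun u t => e5_7 ψ hs c u t) t u

theorem cm_6_5 (t u : K) : yB X ψ hs h 5 u * yB X ψ hs h 6 t =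
    yB X ψ hs h 6 t * yB X ψ hs h 5 u * wd (yB X ψ hs h) (chevB2.commWord K 6 5 t u) :=
  relE' c.hX ψ hs c.hc (yB X ψ hs h) 5 6 7 2 (-2) (by decide +kernel) (by push_cast; ring) (fun t => ypsi ψ hs c 5 (by norm_num) t) (fun t => ypsi ψ hs c 6 (by norm_num) t)
    (fun u t => e5_7 ψ hs c u t) (fun w => yinv ψ hs c 7 w) t u

theorem fw_1_4 (t u : K) : yB X ψ hs h 4 u * yB X ψ hs h 1 t =
    yB X ψ hs h 1 t * yB X ψ hs h 4 u *
      (yB X ψ hs h 2 (((1 : ℤ) : K) * (-t) ^ 1 * u ^ 1) * yB X ψ hs h 0 (((1 : ℤ) : K) * (-t) ^ 2 * u ^ 1)) :=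
  relF0 c.hX ψ hs c.hc h (yB X ψ hs h) 1 4 2 0 1 1 (-2) (by decide +kernel) (by decide +kernel) (by decide +kernel) (by decide +kernel) (by decide +kernel)
    (fun t => yB_1 X ψ hs h t) (fun t => yB_2 X ψ hs h t) (fun t => ypsi ψ hs c 4 (by norm_num) t) (fun t => ypsi ψ hs c 2 (by norm_num) t)
    (hcomH ψ c 4 (by decide +kernel) c.hχ4) (hcomH ψ c 0 (by decide +kernel) c.hχ0)
    (fun b => ccHL c.hX ψ hs c.hc h χ c.hdg c.h3 c.hh 0 (by decide +kernel) c.hχ0 b)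
    (fun u a => X_comm_of_nil c.hX 4 2 (by decide +kernel) (by decide +kernel) (by decide +kernel) (by decide +kernel) (by decide +kernel) u a)
    (fun u b => X_comm_of_nil c.hX 4 0 (by decide +kernel) (by decide +kernel) (by decide +kernel) (by decide +kernel) (by decide +kernel) u b)
    (fun u a => ycomm ψ hs c 4 2 (by norm_num) (by norm_num) (fun t u => ccN_4_2 ψ hs c t u) u a)
    (fun u b => ycomm ψ hs c 4 0 (by norm_num) (by norm_num) (fun t u => ccN_4_0 ψ hs c t u) u b)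
    (fun a b => ycomm ψ hs c 0 2 (by norm_num) (by norm_num) (fun t u => ccN_0_2 ψ hs c t u) b a)
    (fun t a => e8_0 ψ hs c t a) (by push_cast; linear_combination (-1 : K) * c.h3) t u

theorem cm_1_4 (t u : K) : yB X ψ hs h 4 u * yB X ψ hs h 1 t =
    yB X ψ hs h 1 t * yB X ψ hs h 4 u * wd (yB X ψ hs h) (chevB2.commWord K 1 4 t u) :=
  relF (yB X ψ hs h) 1 4 2 0 1 1 (by decide +kernel) (fun t u => fw_1_4 ψ hs c t u) t u

theorem cm_4_1 (t u : K) : yB X ψ hs h 1 u * yB X ψ hs h 4 t =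
    yB X ψ hs h 4 t * yB X ψ hs h 1 u * wd (yB X ψ hs h) (chevB2.commWord K 4 1 t u) :=
  relF' (yB X ψ hs h) (fun r w => yinv ψ hs c r w) 1 4 2 0 1 1 (-1) 1 (by decide +kernel)
    (fun t u => fw_1_4 ψ hs c t u)
    (fun a b => ycomm ψ hs c 0 2 (by norm_num) (by norm_num) (fun t u => ccN_0_2 ψ hs c t u) b a)
    (by push_cast; ring) rfl t u

theorem fw_1_7 (t u : K) : yB X ψ hs h 7 u * yB X ψ hs h 1 t =
    yB X ψ hs h 1 t * yB X ψ hs h 7 u *
      (yB X ψ hs h 5 (((-1 : ℤ) : K) * (-t) ^ 1 * u ^ 1) * yB X ψ hs h 3 (((1 : ℤ) : K) * (-t) ^ 2 * u ^ 1)) :=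
  relF0 c.hX ψ hs c.hc h (yB X ψ hs h) 1 7 5 3 (-1) 1 2 (by decide +kernel) (by decide +kernel) (by decide +kernel) (by decide +kernel) (by decide +kernel)
    (fun t => yB_1 X ψ hs h t) (fun t => yB_5 X ψ hs h t) (fun t => ypsi ψ hs c 7 (by norm_num) t) (fun t => ypsi ψ hs c 5 (by norm_num) t)
    (hcomH ψ c 7 (by decide +kernel) c.hχ7) (hcomH ψ c 3 (by decide +kernel) c.hχ3)
    (fun b => ccHL c.hX ψ hs c.hc h χ c.hdg c.h3 c.hh 3 (by decide +kernel) c.hχ3 b)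
    (fun u a => X_comm_of_nil c.hX 7 5 (by decide +kernel) (by decide +kernel) (by decide +kernel) (by decide +kernel) (by decide +kernel) u a)
    (fun u b => X_comm_of_nil c.hX 7 3 (by decide +kernel) (by decide +kernel) (by decide +kernel) (by decide +kernel) (by decide +kernel) u b)
    (fun u a => ycomm ψ hs c 7 5 (by norm_num) (by norm_num) (fun t u => ccN_7_5 ψ hs c t u) u a)
    (fun u b => ycomm ψ hs c 7 3 (by norm_num) (by norm_num) (fun t u => ccN_7_3 ψ hs c t u) u b)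
    (fun a b => ycomm ψ hs c 3 5 (by norm_num) (by norm_num) (fun t u => ccN_3_5 ψ hs c t u) b a)
    (fun t a => e8_3 ψ hs c t a) (by push_cast; linear_combination (-1 : K) * c.h3) t u

theorem cm_1_7 (t u : K) : yB X ψ hs h 7 u * yB X ψ hs h 1 t =
    yB X ψ hs h 1 t * yB X ψ hs h 7 u * wd (yB X ψ hs h) (chevB2.commWord K 1 7 t u) :=
  relF (yB X ψ hs h) 1 7 5 3 (-1) 1 (by decide +kernel) (fun t u => fw_1_7 ψ hs c t u) t u

theorem cm_7_1 (t u : K) : yB X ψ hs h 1 u * yB X ψ hs h 7 t =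
    yB X ψ hs h 7 t * yB X ψ hs h 1 u * wd (yB X ψ hs h) (chevB2.commWord K 7 1 t u) :=
  relF' (yB X ψ hs h) (fun r w => yinv ψ hs c r w) 1 7 5 3 (-1) 1 1 1 (by decide +kernel)
    (fun t u => fw_1_7 ψ hs c t u)
    (fun a b => ycomm ψ hs c 3 5 (by norm_num) (by norm_num) (fun t u => ccN_3_5 ψ hs c t u) b a)
    (by push_cast; ring) rfl t u

theorem fw_2_3 (t u : K) : yB X ψ hs h 3 u * yB X ψ hs h 2 t =
    yB X ψ hs h 2 t * yB X ψ hs h 3 u *
      (yB X ψ hs h 1 (((1 : ℤ) : K) * (-t) ^ 1 * u ^ 1) * yB X ψ hs h 0 (((-1 : ℤ) : K) * (-t) ^ 2 * u ^ 1)) :=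
  relF0 c.hX ψ hs c.hc h (yB X ψ hs h) 2 3 1 0 1 (-1) 2 (by decide +kernel) (by decide +kernel) (by decide +kernel) (by decide +kernel) (by decide +kernel)
    (fun t => yB_2 X ψ hs h t) (fun t => yB_1 X ψ hs h t) (fun t => ypsi ψ hs c 3 (by norm_num) t) (fun t => ypsi ψ hs c 1 (by norm_num) t)
    (hcomH ψ c 3 (by decide +kernel) c.hχ3) (hcomH ψ c 0 (by decide +kernel) c.hχ0)
    (fun b => ccHL c.hX ψ hs c.hc h χ c.hdg c.h3 c.hh 0 (by decide +kernel) c.hχ0 b)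
    (fun u a => X_comm_of_nil c.hX 3 1 (by decide +kernel) (by decide +kernel) (by decide +kernel) (by decide +kernel) (by decide +kernel) u a)
    (fun u b => X_comm_of_nil c.hX 3 0 (by decide +kernel) (by decide +kernel) (by decide +kernel) (by decide +kernel) (by decide +kernel) u b)
    (fun u a => ycomm ψ hs c 3 1 (by norm_num) (by norm_num) (fun t u => ccN_3_1 ψ hs c t u) u a)
    (fun u b => ycomm ψ hs c 3 0 (by norm_num) (by norm_num) (fun t u => ccN_3_0 ψ hs c t u) u b)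
    (fun a b => ycomm ψ hs c 0 1 (by norm_num) (by norm_num) (fun t u => ccN_0_1 ψ hs c t u) b a)
    (fun t a => e5_0 ψ hs c t a) (by push_cast; linear_combination (1 : K) * c.h3) t u

theorem cm_2_3 (t u : K) : yB X ψ hs h 3 u * yB X ψ hs h 2 t =
    yB X ψ hs h 2 t * yB X ψ hs h 3 u * wd (yB X ψ hs h) (chevB2.commWord K 2 3 t u) :=
  relF (yB X ψ hs h) 2 3 1 0 1 (-1) (by decide +kernel) (fun t u => fw_2_3 ψ hs c t u) t u

theorem cm_3_2 (t u : K) : yB X ψ hs h 2 u * yB X ψ hs h 3 t =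
    yB X ψ hs h 3 t * yB X ψ hs h 2 u * wd (yB X ψ hs h) (chevB2.commWord K 3 2 t u) :=
  relF' (yB X ψ hs h) (fun r w => yinv ψ hs c r w) 2 3 1 0 1 (-1) (-1) (-1) (by decide +kernel)
    (fun t u => fw_2_3 ψ hs c t u)
    (fun a b => ycomm ψ hs c 0 1 (by norm_num) (by norm_num) (fun t u => ccN_0_1 ψ hs c t u) b a)
    (by push_cast; ring) rfl t u

theorem fw_2_7 (t u : K) : yB X ψ hs h 7 u * yB X ψ hs h 2 t =
    yB X ψ hs h 2 t * yB X ψ hs h 7 u *
      (yB X ψ hs h 6 (((1 : ℤ) : K) * (-t) ^ 1 * u ^ 1) * yB X ψ hs h 4 (((-1 : ℤ) : K) * (-t) ^ 2 * u ^ 1)) :=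
  relF0 c.hX ψ hs c.hc h (yB X ψ hs h) 2 7 6 4 1 (-1) 2 (by decide +kernel) (by decide +kernel) (by decide +kernel) (by decide +kernel) (by decide +kernel)
    (fun t => yB_2 X ψ hs h t) (fun t => yB_6 X ψ hs h t) (fun t => ypsi ψ hs c 7 (by norm_num) t) (fun t => ypsi ψ hs c 6 (by norm_num) t)
    (hcomH ψ c 7 (by decide +kernel) c.hχ7) (hcomH ψ c 4 (by decide +kernel) c.hχ4)
    (fun b => ccHL c.hX ψ hs c.hc h χ c.hdg c.h3 c.hh 4 (by decide +kernel) c.hχ4 b)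
    (fun u a => X_comm_of_nil c.hX 7 6 (by decide +kernel) (by decide +kernel) (by decide +kernel) (by decide +kernel) (by decide +kernel) u a)
    (fun u b => X_comm_of_nil c.hX 7 4 (by decide +kernel) (by decide +kernel) (by decide +kernel) (by decide +kernel) (by decide +kernel) u b)
    (fun u a => ycomm ψ hs c 7 6 (by norm_num) (by norm_num) (fun t u => ccN_7_6 ψ hs c t u) u a)
    (fun u b => ycomm ψ hs c 7 4 (by norm_num) (by norm_num) (fun t u => ccN_7_4 ψ hs c t u) u b)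
    (fun a b => ycomm ψ hs c 4 6 (by norm_num) (by norm_num) (fun t u => ccN_4_6 ψ hs c t u) b a)
    (fun t a => e8_4 ψ hs c t a) (by push_cast; linear_combination (1 : K) * c.h3) t u

theorem cm_2_7 (t u : K) : yB X ψ hs h 7 u * yB X ψ hs h 2 t =
    yB X ψ hs h 2 t * yB X ψ hs h 7 u * wd (yB X ψ hs h) (chevB2.commWord K 2 7 t u) :=
  relF (yB X ψ hs h) 2 7 6 4 1 (-1) (by decide +kernel) (fun t u => fw_2_7 ψ hs c t u) t u

theorem cm_7_2 (t u : K) : yB X ψ hs h 2 u * yB X ψ hs h 7 t =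
    yB X ψ hs h 7 t * yB X ψ hs h 2 u * wd (yB X ψ hs h) (chevB2.commWord K 7 2 t u) :=
  relF' (yB X ψ hs h) (fun r w => yinv ψ hs c r w) 2 7 6 4 1 (-1) (-1) (-1) (by decide +kernel)
    (fun t u => fw_2_7 ψ hs c t u)
    (fun a b => ycomm ψ hs c 4 6 (by norm_num) (by norm_num) (fun t u => ccN_4_6 ψ hs c t u) b a)
    (by push_cast; ring) rfl t u

theorem fw_5_0 (t u : K) : yB X ψ hs h 0 u * yB X ψ hs h 5 t =
    yB X ψ hs h 5 t * yB X ψ hs h 0 u *
      (yB X ψ hs h 1 (((-1 : ℤ) : K) * (-t) ^ 1 * u ^ 1) * yB X ψ hs h 3 (((-1 : ℤ) : K) * (-t) ^ 2 * u ^ 1)) :=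
  relF0 c.hX ψ hs c.hc h (yB X ψ hs h) 5 0 1 3 (-1) (-1) (-2) (by decide +kernel) (by decide +kernel) (by decide +kernel) (by decide +kernel) (by decide +kernel)
    (fun t => yB_5 X ψ hs h t) (fun t => yB_1 X ψ hs h t) (fun t => ypsi ψ hs c 0 (by norm_num) t) (fun t => ypsi ψ hs c 1 (by norm_num) t)
    (hcomH ψ c 0 (by decide +kernel) c.hχ0) (hcomH ψ c 3 (by decide +kernel) c.hχ3)
    (fun b => ccHL c.hX ψ hs c.hc h χ c.hdg c.h3 c.hh 3 (by decide +kernel) c.hχ3 b)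
    (fun u a => X_comm_of_nil c.hX 0 1 (by decide +kernel) (by decide +kernel) (by decide +kernel) (by decide +kernel) (by decide +kernel) u a)
    (fun u b => X_comm_of_nil c.hX 0 3 (by decide +kernel) (by decide +kernel) (by decide +kernel) (by decide +kernel) (by decide +kernel) u b)
    (fun u a => ycomm ψ hs c 0 1 (by norm_num) (by norm_num) (fun t u => ccN_0_1 ψ hs c t u) u a)
    (fun u b => ycomm ψ hs c 0 3 (by norm_num) (by norm_num) (fun t u => ccN_0_3 ψ hs c t u) u b)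
    (fun a b => ycomm ψ hs c 3 1 (by norm_num) (by norm_num) (fun t u => ccN_3_1 ψ hs c t u) b a)
    (fun t a => e5_3 ψ hs c t a) (by push_cast; linear_combination (1 : K) * c.h3) t u

theorem cm_5_0 (t u : K) : yB X ψ hs h 0 u * yB X ψ hs h 5 t =
    yB X ψ hs h 5 t * yB X ψ hs h 0 u * wd (yB X ψ hs h) (chevB2.commWord K 5 0 t u) :=
  relF (yB X ψ hs h) 5 0 1 3 (-1) (-1) (by decide +kernel) (fun t u => fw_5_0 ψ hs c t u) t u

theorem cm_0_5 (t u : K) : yB X ψ hs h 5 u * yB X ψ hs h 0 t =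
    yB X ψ hs h 0 t * yB X ψ hs h 5 u * wd (yB X ψ hs h) (chevB2.commWord K 0 5 t u) :=
  relF' (yB X ψ hs h) (fun r w => yinv ψ hs c r w) 5 0 1 3 (-1) (-1) 1 (-1) (by decide +kernel)
    (fun t u => fw_5_0 ψ hs c t u)
    (fun a b => ycomm ψ hs c 3 1 (by norm_num) (by norm_num) (fun t u => ccN_3_1 ψ hs c t u) b a)
    (by push_cast; ring) rfl t u

theorem fw_5_4 (t u : K) : yB X ψ hs h 4 u * yB X ψ hs h 5 t =
    yB X ψ hs h 5 t * yB X ψ hs h 4 u *
      (yB X ψ hs h 6 (((-1 : ℤ) : K) * (-t) ^ 1 * u ^ 1) * yB X ψ hs h 7 (((-1 : ℤ) : K) * (-t) ^ 2 * u ^ 1)) :=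
  relF0 c.hX ψ hs c.hc h (yB X ψ hs h) 5 4 6 7 (-1) (-1) (-2) (by decide +kernel) (by decide +kernel) (by decide +kernel) (by decide +kernel) (by decide +kernel)
    (fun t => yB_5 X ψ hs h t) (fun t => yB_6 X ψ hs h t) (fun t => ypsi ψ hs c 4 (by norm_num) t) (fun t => ypsi ψ hs c 6 (by norm_num) t)
    (hcomH ψ c 4 (by decide +kernel) c.hχ4) (hcomH ψ c 7 (by decide +kernel) c.hχ7)
    (fun b => ccHL c.hX ψ hs c.hc h χ c.hdg c.h3 c.hh 7 (by decide +kernel) c.hχ7 b)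
    (fun u a => X_comm_of_nil c.hX 4 6 (by decide +kernel) (by decide +kernel) (by decide +kernel) (by decide +kernel) (by decide +kernel) u a)
    (fun u b => X_comm_of_nil c.hX 4 7 (by decide +kernel) (by decide +kernel) (by decide +kernel) (by decide +kernel) (by decide +kernel) u b)
    (fun u a => ycomm ψ hs c 4 6 (by norm_num) (by norm_num) (fun t u => ccN_4_6 ψ hs c t u) u a)
    (fun u b => ycomm ψ hs c 4 7 (by norm_num) (by norm_num) (fun t u => ccN_4_7 ψ hs c t u) u b)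
    (fun a b => ycomm ψ hs c 7 6 (by norm_num) (by norm_num) (fun t u => ccN_7_6 ψ hs c t u) b a)
    (fun t a => e8_7 ψ hs c t a) (by push_cast; linear_combination (1 : K) * c.h3) t u

theorem cm_5_4 (t u : K) : yB X ψ hs h 4 u * yB X ψ hs h 5 t =
    yB X ψ hs h 5 t * yB X ψ hs h 4 u * wd (yB X ψ hs h) (chevB2.commWord K 5 4 t u) :=
  relF (yB X ψ hs h) 5 4 6 7 (-1) (-1) (by decide +kernel) (fun t u => fw_5_4 ψ hs c t u) t u

theorem cm_4_5 (t u : K) : yB X ψ hs h 5 u * yB X ψ hs h 4 t =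
    yB X ψ hs h 4 t * yB X ψ hs h 5 u * wd (yB X ψ hs h) (chevB2.commWord K 4 5 t u) :=
  relF' (yB X ψ hs h) (fun r w => yinv ψ hs c r w) 5 4 6 7 (-1) (-1) 1 (-1) (by decide +kernel)
    (fun t u => fw_5_4 ψ hs c t u)
    (fun a b => ycomm ψ hs c 7 6 (by norm_num) (by norm_num) (fun t u => ccN_7_6 ψ hs c t u) b a)
    (by push_cast; ring) rfl t u

theorem fw_6_0 (t u : K) : yB X ψ hs h 0 u * yB X ψ hs h 6 t =
    yB X ψ hs h 6 t * yB X ψ hs h 0 u *
      (yB X ψ hs h 2 (((1 : ℤ) : K) * (-t) ^ 1 * u ^ 1) * yB X ψ hs h 4 (((1 : ℤ) : K) * (-t) ^ 2 * u ^ 1)) :=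
  relF0 c.hX ψ hs c.hc h (yB X ψ hs h) 6 0 2 4 1 1 (-2) (by decide +kernel) (by decide +kernel) (by decide +kernel) (by decide +kernel) (by decide +kernel)
    (fun t => yB_6 X ψ hs h t) (fun t => yB_2 X ψ hs h t) (fun t => ypsi ψ hs c 0 (by norm_num) t) (fun t => ypsi ψ hs c 2 (by norm_num) t)
    (hcomH ψ c 0 (by decide +kernel) c.hχ0) (hcomH ψ c 4 (by decide +kernel) c.hχ4)
    (fun b => ccHL c.hX ψ hs c.hc h χ c.hdg c.h3 c.hh 4 (by decide +kernel) c.hχ4 b)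
    (fun u a => X_comm_of_nil c.hX 0 2 (by decide +kernel) (by decide +kernel) (by decide +kernel) (by decide +kernel) (by decide +kernel) u a)
    (fun u b => X_comm_of_nil c.hX 0 4 (by decide +kernel) (by decide +kernel) (by decide +kernel) (by decide +kernel) (by decide +kernel) u b)
    (fun u a => ycomm ψ hs c 0 2 (by norm_num) (by norm_num) (fun t u => ccN_0_2 ψ hs c t u) u a)
    (fun u b => ycomm ψ hs c 0 4 (by norm_num) (by norm_num) (fun t u => ccN_0_4 ψ hs c t u) u b)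
    (fun a b => ycomm ψ hs c 4 2 (by norm_num) (by norm_num) (fun t u => ccN_4_2 ψ hs c t u) b a)
    (fun t a => e5_4 ψ hs c t a) (by push_cast; linear_combination (-1 : K) * c.h3) t u

theorem cm_6_0 (t u : K) : yB X ψ hs h 0 u * yB X ψ hs h 6 t =
    yB X ψ hs h 6 t * yB X ψ hs h 0 u * wd (yB X ψ hs h) (chevB2.commWord K 6 0 t u) :=
  relF (yB X ψ hs h) 6 0 2 4 1 1 (by decide +kernel) (fun t u => fw_6_0 ψ hs c t u) t u

theorem cm_0_6 (t u : K) : yB X ψ hs h 6 u * yB X ψ hs h 0 t =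
    yB X ψ hs h 0 t * yB X ψ hs h 6 u * wd (yB X ψ hs h) (chevB2.commWord K 0 6 t u) :=
  relF' (yB X ψ hs h) (fun r w => yinv ψ hs c r w) 6 0 2 4 1 1 (-1) 1 (by decide +kernel)
    (fun t u => fw_6_0 ψ hs c t u)
    (fun a b => ycomm ψ hs c 4 2 (by norm_num) (by norm_num) (fun t u => ccN_4_2 ψ hs c t u) b a)
    (by push_cast; ring) rfl t u

theorem fw_6_3 (t u : K) : yB X ψ hs h 3 u * yB X ψ hs h 6 t =
    yB X ψ hs h 6 t * yB X ψ hs h 3 u *
      (yB X ψ hs h 5 (((-1 : ℤ) : K) * (-t) ^ 1 * u ^ 1) * yB X ψ hs h 7 (((1 : ℤ) : K) * (-t) ^ 2 * u ^ 1)) :=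
  relF0 c.hX ψ hs c.hc h (yB X ψ hs h) 6 3 5 7 (-1) 1 2 (by decide +kernel) (by decide +kernel) (by decide +kernel) (by decide +kernel) (by decide +kernel)
    (fun t => yB_6 X ψ hs h t) (fun t => yB_5 X ψ hs h t) (fun t => ypsi ψ hs c 3 (by norm_num) t) (fun t => ypsi ψ hs c 5 (by norm_num) t)
    (hcomH ψ c 3 (by decide +kernel) c.hχ3) (hcomH ψ c 7 (by decide +kernel) c.hχ7)
    (fun b => ccHL c.hX ψ hs c.hc h χ c.hdg c.h3 c.hh 7 (by decide +kernel) c.hχ7 b)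
    (fun u a => X_comm_of_nil c.hX 3 5 (by decide +kernel) (by decide +kernel) (by decide +kernel) (by decide +kernel) (by decide +kernel) u a)
    (fun u b => X_comm_of_nil c.hX 3 7 (by decide +kernel) (by decide +kernel) (by decide +kernel) (by decide +kernel) (by decide +kernel) u b)
    (fun u a => ycomm ψ hs c 3 5 (by norm_num) (by norm_num) (fun t u => ccN_3_5 ψ hs c t u) u a)
    (fun u b => ycomm ψ hs c 3 7 (by norm_num) (by norm_num) (fun t u => ccN_3_7 ψ hs c t u) u b)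
    (fun a b => ycomm ψ hs c 7 5 (by norm_num) (by norm_num) (fun t u => ccN_7_5 ψ hs c t u) b a)
    (fun t a => e5_7 ψ hs c t a) (by push_cast; linear_combination (-1 : K) * c.h3) t u

theorem cm_6_3 (t u : K) : yB X ψ hs h 3 u * yB X ψ hs h 6 t =
    yB X ψ hs h 6 t * yB X ψ hs h 3 u * wd (yB X ψ hs h) (chevB2.commWord K 6 3 t u) :=
  relF (yB X ψ hs h) 6 3 5 7 (-1) 1 (by decide +kernel) (fun t u => fw_6_3 ψ hs c t u) t u

theorem cm_3_6 (t u : K) : yB X ψ hs h 6 u * yB X ψ hs h 3 t =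
    yB X ψ hs h 3 t * yB X ψ hs h 6 u * wd (yB X ψ hs h) (chevB2.commWord K 3 6 t u) :=
  relF' (yB X ψ hs h) (fun r w => yinv ψ hs c r w) 6 3 5 7 (-1) 1 1 1 (by decide +kernel)
    (fun t u => fw_6_3 ψ hs c t u)
    (fun a b => ycomm ψ hs c 7 5 (by norm_num) (by norm_num) (fun t u => ccN_7_5 ψ hs c t u) b a)
    (by push_cast; ring) rfl t u

/-- the lifts satisfy the relations (R1) and (R2) -/
theorem rel_yB : Rel chevB2 (yB X ψ hs h) := by
  refine ⟨fun r t u => yadd ψ hs c r t u, ?_⟩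
  intro r s hr hs' hsr hsn t u
  rw [nr8] at hr hs'
  interval_cases r <;> interval_cases s
  · exact absurd rfl hsr
  · exact cm_0_1 ψ hs c t u
  · exact cm_0_2 ψ hs c t u
  · exact cm_0_3 ψ hs c t u
  · exact cm_0_4 ψ hs c t u
  · exact cm_0_5 ψ hs c t u
  · exact cm_0_6 ψ hs c t u
  · exact absurd (by decide +kernel) hsn
  · exact cm_1_0 ψ hs c t u
  · exact absurd rfl hsr
  · exact cm_1_2 ψ hs c t u
  · exact cm_1_3 ψ hs c t u
  · exact cm_1_4 ψ hs c t u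
  · exact cm_1_5 ψ hs c t u
  · exact absurd (by decide +kernel) hsn
  · exact cm_1_7 ψ hs c t u
  · exact cm_2_0 ψ hs c t u
  · exact cm_2_1 ψ hs c t u
  · exact absurd rfl hsr
  · exact cm_2_3 ψ hs c t u
  · exact cm_2_4 ψ hs c t u
  · exact absurd (by decide +kernel) hsn
  · exact cm_2_6 ψ hs c t u
  · exact cm_2_7 ψ hs c t u
  · exact cm_3_0 ψ hs c t u
  · exact cm_3_1 ψ hs c t u
  · exact cm_3_2 ψ hs c t u
  · exact absurd rfl hsr
  · exact absurd (by decide +kernel) hsn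
  · exact cm_3_5 ψ hs c t u
  · exact cm_3_6 ψ hs c t u
  · exact cm_3_7 ψ hs c t u
  · exact cm_4_0 ψ hs c t u
  · exact cm_4_1 ψ hs c t u
  · exact cm_4_2 ψ hs c t u
  · exact absurd (by decide +kernel) hsn
  · exact absurd rfl hsr
  · exact cm_4_5 ψ hs c t u
  · exact cm_4_6 ψ hs c t u
  · exact cm_4_7 ψ hs c t u
  · exact cm_5_0 ψ hs c t u
  · exact cm_5_1 ψ hs c t u
  · exact absurd (by decide +kernel) hsn
  · exact cm_5_3 ψ hs c t u
  · exact cm_5_4 ψ hs c t u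
  · exact absurd rfl hsr
  · exact cm_5_6 ψ hs c t u
  · exact cm_5_7 ψ hs c t u
  · exact cm_6_0 ψ hs c t u
  · exact absurd (by decide +kernel) hsn
  · exact cm_6_2 ψ hs c t u
  · exact cm_6_3 ψ hs c t u
  · exact cm_6_4 ψ hs c t u
  · exact cm_6_5 ψ hs c t u
  · exact absurd rfl hsr
  · exact cm_6_7 ψ hs c t u
  · exact absurd (by decide +kernel) hsn
  · exact cm_7_1 ψ hs c t u
  · exact cm_7_2 ψ hs c t u
  · exact cm_7_3 ψ hs c t u
  · exact cm_7_4 ψ hs c t u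
  · exact cm_7_5 ψ hs c t u
  · exact cm_7_6 ψ hs c t u
  · exact absurd rfl hsr

end conc

end Cfsg.Agent.Lib.Helper18.StAbs.B2F3
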