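import Cfsg.Agent.Lib.Helper18.StLift3

/-!
# The relations (R1), (R2) for the lifts, third version

The same as `xt_rel2`, where for some pairs of roots with commuting root elements the condition on
the diagonal elements is replaced by the hypothesis that lifts of the root elements commute.
-/

set_option autoImplicit false

namespace Cfsg.Agent.Lib.Helper18.StAbs

open Cfsg Cfsg.Lie Cfsg.Lie.ChevalleyDatum Cfsg.Agent.Lib.Helper17

variable {K : Type*} [Field K] {Γ : Type*} [Group Γ] {E : Type*} [Group E]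

section lift

variable {D : ChevalleyDatum}
  (hD : D ∈ [chevG2, chevB2, chevD4, chevF4, chevE6, chevE7, chevE8])
  {X : ℕ → K → Γ} (hX : Rel D X) (π : Γ →* GL D.Idx K)
  (hπ : ∀ r < D.nroots, ∀ t, π (X r t) = xU D hD r t)
  (hgen : ∀ x : Γ, x ∈ gen X {r | r < D.nroots}) (hperf : commutator Γ = ⊤)
  (ψ : E →* Γ) (hs : Function.Surjective ψ) (hc : ψ.ker ≤ Subgroup.center E)
  (H : ℕ → Γ) (c : ℕ → K)
  (hH : ∀ γ < D.nroots, ∃ χ, Dg D X (H γ) χ ∧ χ γ = c γ) (hc1 : ∀ γ < D.nroots, c γ ≠ 1)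

include hX hπ hgen hperf hc hH hc1 in
/-- (R2) for the lifts -/
theorem xt_comm3
    (hall : ∀ r s, r < D.nroots → s < D.nroots → s ≠ r → s ≠ D.neg r → PairOK2 hD X r s ∨
      (D.commTerms r s = [] ∧ ∀ t u : K, CExt.cc ψ hs (X r t) (X s u) = 1))
    (hC : ∀ γ < D.nroots, ∀ t u : K, CExt.cc ψ hs (X γ t) (X γ u) = 1) :
    ∀ n r s, r < D.nroots → s < D.nroots → s ≠ r → s ≠ D.neg r →
      (D.commTerms r s).length = n → ∀ t u : K,
      xt D X ψ hs H c s u * xt D X ψ hs H c r t =
        xt D X ψ hs H c r t * xt D X ψ hs H c s u *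
          wd (xt D X ψ hs H c) (D.commWord K r s t u) := by
  intro n
  induction n using Nat.strong_induction_on with
  | _ n ih =>
  intro r s hr hsl hsr hsn hlen
  have hpsi : ∀ γ < D.nroots, ∀ t, ψ (xt D X ψ hs H c γ t) = X γ t :=
    psi_xt hX ψ hs H c hH hc1
  rcases hall r s hr hsl hsr hsn with hok | ⟨h0, hcc⟩
  swap
  · intro t u
    have hw : D.commWord K r s t u = [] := by
      unfold ChevalleyDatum.commWord
      rw [h0]
      rfl
    rw [hw, wd_nil, mul_one]
    have h1 := CExt.cc_eq ψ hs hc (xt D X ψ hs H c r t) (xt D X ψ hs H c s u) (X r t) (X s u)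
      (hpsi r hr t) (hpsi s hsl u)
    rw [hcc t u] at h1
    have h2 : xt D X ψ hs H c s u * xt D X ψ hs H c r t =
        (xt D X ψ hs H c r t * xt D X ψ hs H c s u * (xt D X ψ hs H c r t)⁻¹ *
          (xt D X ψ hs H c s u)⁻¹)⁻¹ * (xt D X ψ hs H c r t * xt D X ψ hs H c s u) := by group
    rw [h2, ← h1, inv_one, one_mul]
  obtain ⟨hposOr, ⟨h, χ, hdg, hχr, hχs, hχc⟩⟩ := hok
  have hclt : ∀ c' ∈ D.commTerms r s, c'.1 < D.nroots := by
    intro c' hc'
    rcases hposOr with h0 | ⟨γ, C, hct, hγ, -⟩ | ⟨hadm, -⟩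
    · rw [h0] at hc'
      exact absurd hc' List.not_mem_nil
    · rw [hct, List.mem_singleton] at hc'
      rw [hc']
      exact hγ
    · exact hadm.lt _ (List.mem_cons_of_mem _ (List.mem_map_of_mem hc'))
  generalize hY : xt D X ψ hs H c = Y at ih hpsi ⊢
  have hRP : RelP D Y (fun γ δ => (D.commTerms γ δ).length < n) := by
    refine ⟨fun γ t u => ?_, fun γ δ hγ hδ h1 h2 hP t u => ih _ hP γ δ hγ hδ h1 h2 rfl t u⟩
    rw [← hY]
    exact xt_add hX ψ hs hc H c hH hc1 hC γ t u
  have hwlt : ∀ t u : K, ∀ p ∈ D.commWord K r s t u, p.1 < D.nroots := by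
    intro t u p hp
    unfold ChevalleyDatum.commWord at hp
    obtain ⟨c', hc', rfl⟩ := List.mem_map.mp hp
    exact hclt c' hc'
  have hW : ∀ t u : K, ψ (wd Y (D.commWord K r s t u)) = wd X (D.commWord K r s t u) :=
    fun t u => wd_psi_gen ψ Y hpsi _ (hwlt t u)
  -- the central defect
  have hzex : ∃ z : K → K → E, (∀ (t u : K) (e : E), z t u * e = e * z t u) ∧
      ∀ t u : K, Y s u * Y r t = z t u * (Y r t * Y s u * wd Y (D.commWord K r s t u)) := by
    refine ⟨fun t u => Y s u * Y r t * (Y r t * Y s u * wd Y (D.commWord K r s t u))⁻¹,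
      fun t u e => ?_, fun t u => by group⟩
    apply CExt.ker_comm ψ hc
    rw [map_mul, map_mul, map_inv, map_mul, map_mul, hW, hpsi s hsl, hpsi r hr,
      hX.comm r s hr hsl hsr hsn t u, mul_inv_cancel]
  obtain ⟨z, hzc, hzd⟩ := hzex
  -- the transfer
  have hT : ∀ t u u' : K, wd Y (D.commWord K r s t u) * Y s u' * wd Y (D.commWord K r s t u') =
      Y s u' * wd Y (D.commWord K r s t (u + u')) := by
    rcases hposOr with h0 | ⟨γ, C, hct, hγ, hC0, hγs⟩ | ⟨hadm, hlenP, hlin | ⟨g, σ, hg, hpos⟩⟩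
    · exact lin0_T Y r s h0
    · refine lin1_T hRP r s γ C hct ?_
      intro a v
      rcases hγs with hγs | ⟨h', χ', hdg', hχ's, hχ'γ⟩
      · rw [hγs, hRP.add, hRP.add, add_comm]
      · have hXc := X_comm_of_lin hX r s γ C hr hsl hsr hsn hct hC0
        have h1 := CExt.cc_eq ψ hs hc (Y γ a) (Y s v) (X γ a) (X s v) (hpsi γ hγ a)
          (hpsi s hsl v)
        rw [cc_of_tor hX ψ hs hc γ s hγ hsl hXc h' χ' hdg' hχ's hχ'γ a v] at h1
        have h2 : Y γ a * Y s v = (Y γ a * Y s v * (Y γ a)⁻¹ * (Y s v)⁻¹) * (Y s v * Y γ a) := by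
          group
        rw [h2, ← h1, one_mul]
    · obtain ⟨c₀, hct, hj⟩ := hlin
      exact lin1old_T hRP r s hsl hlen hadm hlenP c₀ hct hj
    · exact transfer_T hD hX π hπ ψ Y hpsi n hRP r s hr hsl hsr hsn hlen hadm hlenP g σ hg hpos
  -- additivity of the defect
  have hA : ∀ t u u' : K, z t (u + u') = z t u * z t u' := by
    intro t u u'
    have w1 : Y s u * Y s u' * Y r t = z t u' * z t u * (Y r t * Y s u *
        (wd Y (D.commWord K r s t u) * Y s u' * wd Y (D.commWord K r s t u'))) := by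
      calc Y s u * Y s u' * Y r t = Y s u * (Y s u' * Y r t) := by group
        _ = Y s u * (z t u' * (Y r t * Y s u' * wd Y (D.commWord K r s t u'))) := by
          rw [hzd t u']
        _ = z t u' * (Y s u * Y r t) * Y s u' * wd Y (D.commWord K r s t u') := by
          rw [← mul_assoc (Y s u), ← hzc t u' (Y s u)]
          group
        _ = z t u' * (z t u * (Y r t * Y s u * wd Y (D.commWord K r s t u))) * Y s u' *
            wd Y (D.commWord K r s t u') := by rw [hzd t u]
        _ = _ := by group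
    have w2 : Y s u * Y s u' * Y r t = z t (u + u') * (Y r t * Y s u *
        (wd Y (D.commWord K r s t u) * Y s u' * wd Y (D.commWord K r s t u'))) := by
      rw [hRP.add s u u', hzd t (u + u'), hT t u u', ← hRP.add s u u']
      group
    rw [w1] at w2
    rw [← mul_right_cancel w2, hzc t u']
  -- invariance under the torus
  have hB : ∀ t u : K, z t (χ s * u) = z t u := by
    intro t u
    have ha : Dg D X (ψ (CExt.lf ψ hs h)) χ := by
      rw [CExt.psi_lf]
      exact hdg
    generalize CExt.lf ψ hs h = a at ha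
    have c1 : ∀ γ < D.nroots, ∀ w : K, a * Y γ w * a⁻¹ = Y γ (χ γ * w) := by
      intro γ hγ w
      rw [← hY]
      exact xt_conj hgen hperf ψ hs hc H c hH a χ ha γ hγ w
    have c2 : a * wd Y (D.commWord K r s t u) * a⁻¹ = wd Y (D.commWord K r s t (χ s * u)) := by
      rw [← hY, wd_conj hgen hperf ψ hs hc H c hH a χ ha _ (hwlt t u)]
      congr 1
      unfold ChevalleyDatum.commWord
      rw [List.map_map]
      apply List.map_congr_left
      intro c' hc'
      refine Prod.ext rfl ?_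
      show χ c'.1 * ((c'.2.1 : K) * (-t) ^ c'.2.2.1 * u ^ c'.2.2.2) =
        (c'.2.1 : K) * (-t) ^ c'.2.2.1 * (χ s * u) ^ c'.2.2.2
      rw [hχc c' hc', mul_pow]
      ring
    have k1 : a * (Y s u * Y r t) * a⁻¹ = Y s (χ s * u) * Y r t := by
      have : a * (Y s u * Y r t) * a⁻¹ = (a * Y s u * a⁻¹) * (a * Y r t * a⁻¹) := by group
      rw [this, c1 s hsl, c1 r hr, hχr, one_mul]
    have k2 : a * (z t u * (Y r t * Y s u * wd Y (D.commWord K r s t u))) * a⁻¹ =
        z t u * (Y r t * Y s (χ s * u) * wd Y (D.commWord K r s t (χ s * u))) := by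
      have : a * (z t u * (Y r t * Y s u * wd Y (D.commWord K r s t u))) * a⁻¹ =
          (a * z t u) * a⁻¹ * ((a * Y r t * a⁻¹) * (a * Y s u * a⁻¹) *
            (a * wd Y (D.commWord K r s t u) * a⁻¹)) := by group
      rw [this, ← hzc t u a, c1 r hr, c1 s hsl, c2, hχr, one_mul]
      group
    have k4 : Y s (χ s * u) * Y r t =
        z t u * (Y r t * Y s (χ s * u) * wd Y (D.commWord K r s t (χ s * u))) := by
      rw [← k1, hzd t u, k2]
    have k5 := hzd t (χ s * u)
    rw [k4] at k5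
    exact (mul_right_cancel k5).symm
  have hz0 : ∀ t : K, z t 0 = 1 := by
    intro t
    have := hA t 0 0
    rw [add_zero] at this
    exact mul_eq_left.mp this.symm
  have hzneg : ∀ t u : K, z t u * z t (-u) = 1 := by
    intro t u
    rw [← hA, add_neg_cancel, hz0]
  have hne : χ s - 1 ≠ 0 := sub_ne_zero.mpr hχs
  have hz1 : ∀ t u : K, z t ((χ s - 1) * u) = 1 := by
    intro t u
    have : (χ s - 1) * u = χ s * u + (-u) := by ring
    rw [this, hA, hB, hzneg]
  intro t u
  have h9 := hz1 t (u / (χ s - 1))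
  have h10 : (χ s - 1) * (u / (χ s - 1)) = u := by rw [mul_comm, div_mul_cancel₀ _ hne]
  rw [h10] at h9
  rw [hzd t u, h9, one_mul]

include hX hπ hgen hperf hc hH hc1 in
/-- the lifts satisfy (R1), (R2) -/
theorem xt_rel3
    (hall : ∀ r s, r < D.nroots → s < D.nroots → s ≠ r → s ≠ D.neg r → PairOK2 hD X r s ∨
      (D.commTerms r s = [] ∧ ∀ t u : K, CExt.cc ψ hs (X r t) (X s u) = 1))
    (hC : ∀ γ < D.nroots, ∀ t u : K, CExt.cc ψ hs (X γ t) (X γ u) = 1) :
    Rel D (xt D X ψ hs H c) :=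
  ⟨fun r t u => xt_add hX ψ hs hc H c hH hc1 hC r t u,
   fun r s hr hsl hsr hsn t u =>
    xt_comm3 hD hX π hπ hgen hperf ψ hs hc H c hH hc1 hall hC _ r s hr hsl hsr hsn rfl t u⟩

end lift

end Cfsg.Agent.Lib.Helper18.StAbs
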